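import Cfsg.Prelude.Def_PhanSystems
import Cfsg.Agent.H3.Unitary
import Cfsg.Agent.H3.Field
import Mathlib

/-!
# Coordinate subgroups of the special unitary group
-/

set_option autoImplicit false

namespace Cfsg.Agent.H78.Phan

open Matrix Cfsg

variable {F : Type*} [Field F] [Fintype F] {q : ℕ} {N : ℕ}

/-- The matrix of an element. -/
abbrev mat (g : ↥(SU N F q)) : Matrix (Fin N) (Fin N) F :=
  ((g : Matrix.SpecialLinearGroup (Fin N) F) : Matrix (Fin N) (Fin N) F)

/-- The action on vectors. -/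
def act (g : ↥(SU N F q)) (v : Fin N → F) : Fin N → F := mat g *ᵥ v

/-- The basis vectors. -/
def ev (k : Fin N) : Fin N → F := Pi.single k 1

/-- The norm of the field extension. -/
def nm (q : ℕ) (x : F) : F := x * x ^ q

omit [Fintype F] in
theorem act_one (v : Fin N → F) : act (1 : ↥(SU N F q)) v = v := Matrix.one_mulVec v

omit [Fintype F] in
theorem act_mul (g k : ↥(SU N F q)) (v : Fin N → F) : act (g * k) v = act g (act k v) := by
  show mat (g * k) *ᵥ v = mat g *ᵥ (mat k *ᵥ v)
  rw [Matrix.mulVec_mulVec]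
  rfl

omit [Fintype F] in
theorem act_inv_eq {g : ↥(SU N F q)} {a b : Fin N → F} (h : act g a = b) : act g⁻¹ b = a := by
  rw [← h, ← act_mul, inv_mul_cancel, act_one]

omit [Fintype F] in
theorem act_act_inv (g : ↥(SU N F q)) (v : Fin N → F) : act g (act g⁻¹ v) = v := by
  rw [← act_mul, mul_inv_cancel, act_one]

omit [Fintype F] in
theorem act_add (g : ↥(SU N F q)) (u v : Fin N → F) : act g (u + v) = act g u + act g v :=
  Matrix.mulVec_add _ u v

omit [Fintype F] in
theorem act_smul (g : ↥(SU N F q)) (c : F) (v : Fin N → F) : act g (c • v) = c • act g v :=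
  Matrix.mulVec_smul _ c v

omit [Fintype F] in
theorem act_zero (g : ↥(SU N F q)) : act g (0 : Fin N → F) = 0 := Matrix.mulVec_zero _

omit [Fintype F] in
theorem herm_act (g : ↥(SU N F q)) (u v : Fin N → F) :
    hermForm N F q (act g u) (act g v) = hermForm N F q u v := g.2 u v

omit [Fintype F] in
theorem ext_act {g k : ↥(SU N F q)} (h : ∀ v, act g v = act k v) : g = k :=
  Subtype.ext (Subtype.ext (Matrix.ext_of_mulVec_single fun i => h _))

omit [Fintype F] in
theorem ext_basis {g k : ↥(SU N F q)} (h : ∀ i, act g (ev i) = act k (ev i)) : g = k :=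
  Subtype.ext (Subtype.ext (Matrix.ext_of_mulVec_single fun i => h i))

omit [Fintype F] in
theorem herm_self (v : Fin N → F) : hermForm N F q v v = ∑ i, nm q (v i) := rfl

section

variable (hF : Fintype.card F = q ^ 2)
include hF

theorem q_ne_zero : q ≠ 0 := by have := H3.two_le_q hF; omega

theorem herm_ev (v : Fin N → F) (k : Fin N) : hermForm N F q v (ev k) = v k := by
  rw [hermForm, Finset.sum_eq_single k]
  · simp [ev]
  · intro i _ hik; simp [ev, hik, zero_pow (q_ne_zero hF)]
  · simp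

theorem nm_zero : nm q (0 : F) = 0 := zero_mul _

theorem nm_eq_zero {x : F} : nm q x = 0 ↔ x = 0 := by
  simp [nm, q_ne_zero hF]

theorem nm_pow_q (x : F) : nm q x ^ q = nm q x := by
  rw [nm, mul_pow, H3.pow_q_pow_q hF, mul_comm]

omit hF in
theorem nm_mul (x y : F) : nm q (x * y) = nm q x * nm q y := by rw [nm, nm, nm, mul_pow]; ring

omit hF in
theorem nm_one : nm q (1 : F) = 1 := by simp [nm]

theorem nm_conj (x : F) : nm q (x ^ q) = nm q x := by rw [nm, nm, H3.pow_q_pow_q hF, mul_comm]

theorem nm_neg (x : F) : nm q (-x) = nm q x := by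
  rw [nm, nm, show (-x) ^ q = -(x ^ q) from map_neg (H3.conjQ hF) x, neg_mul_neg]

theorem herm_self_pow (v : Fin N → F) : hermForm N F q v v ^ q = hermForm N F q v v :=
  H3.hermForm_pow_q hF v v

theorem exists_nm {μ : F} (hμ : μ ^ q = μ) : ∃ x : F, nm q x = μ := by
  obtain ⟨x, hx⟩ := H3.exists_norm_eq hF hμ
  exact ⟨x, by rw [nm, ← pow_succ', hx]⟩

end

/-- A value avoiding two given values of the norm. -/
theorem exists_nm_avoid (hF : Fintype.card F = q ^ 2) (hq : 4 ≤ q) (b c : F) :
    ∃ a : F, a ≠ 0 ∧ nm q a ≠ b ∧ nm q a ≠ c := by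
  classical
  by_contra h
  push Not at h
  have hsub : (Finset.univ.erase (0 : F)) ⊆
      ((Polynomial.X ^ (q + 1) - Polynomial.C b) * (Polynomial.X ^ (q + 1) - Polynomial.C c)).roots.toFinset := by
    intro t ht
    rw [Multiset.mem_toFinset, Polynomial.mem_roots (mul_ne_zero (Polynomial.X_pow_sub_C_ne_zero (Nat.succ_pos q) b)
      (Polynomial.X_pow_sub_C_ne_zero (Nat.succ_pos q) c)), Polynomial.IsRoot, Polynomial.eval_mul,
      Polynomial.eval_sub, Polynomial.eval_sub, Polynomial.eval_pow, Polynomial.eval_X, Polynomial.eval_C,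
      Polynomial.eval_C, pow_succ', ← nm]
    by_cases e : nm q t = b
    · rw [e, sub_self, zero_mul]
    · rw [h t (Finset.ne_of_mem_erase ht) e, sub_self, mul_zero]
  have hle := (Finset.card_le_card hsub).trans ((Multiset.toFinset_card_le _).trans (Polynomial.card_roots' _))
  rw [Finset.card_erase_of_mem (Finset.mem_univ _), Finset.card_univ, hF,
    Polynomial.natDegree_mul (Polynomial.X_pow_sub_C_ne_zero (Nat.succ_pos q) b)
      (Polynomial.X_pow_sub_C_ne_zero (Nat.succ_pos q) c), Polynomial.natDegree_X_pow_sub_C,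
    Polynomial.natDegree_X_pow_sub_C] at hle
  have : q * 4 ≤ q ^ 2 := by rw [pow_two]; exact Nat.mul_le_mul_left q hq
  omega

/-! ### Fixers of coordinates -/

/-- The elements fixing the basis vectors outside a set. -/
def GI (I : Set (Fin N)) : Subgroup ↥(SU N F q) where
  carrier := {g | ∀ k ∉ I, act g (ev k) = ev k}
  one_mem' := fun _ _ => act_one _
  mul_mem' := fun {g h} hg hh k hk => by rw [act_mul, hh k hk, hg k hk]
  inv_mem' := fun {g} hg k hk => act_inv_eq (hg k hk)

/-- Support of a vector. -/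
def Supp (I : Set (Fin N)) (v : Fin N → F) : Prop := ∀ k ∉ I, v k = 0

variable {I J : Set (Fin N)}

omit [Fintype F] in
theorem GI_mono (h : I ⊆ J) : (GI I : Subgroup ↥(SU N F q)) ≤ GI J := fun _ hg k hk => hg k fun hk' => hk (h hk')

omit [Fintype F] in
theorem GI_univ : (GI Set.univ : Subgroup ↥(SU N F q)) = ⊤ :=
  eq_top_iff.2 fun _ _ k hk => absurd (Set.mem_univ k) hk

omit [Fintype F] in
theorem vec_expand (v : Fin N → F) : v = ∑ k, v k • ev k := by
  funext i
  simp [ev, Finset.sum_apply, Pi.single_apply]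

omit [Fintype F] in
theorem act_fix {g : ↥(SU N F q)} (hg : g ∈ GI I) {v : Fin N → F} (hv : ∀ k ∈ I, v k = 0) : act g v = v := by
  conv_rhs => rw [vec_expand v]
  conv_lhs => rw [vec_expand v, act, Matrix.mulVec_sum]
  refine Finset.sum_congr rfl fun k _ => ?_
  by_cases hk : k ∈ I
  · simp [hv k hk]
  · rw [Matrix.mulVec_smul]; exact congrArg _ (hg k hk)

theorem act_coord (hF : Fintype.card F = q ^ 2) {g : ↥(SU N F q)} (hg : g ∈ GI I) (v : Fin N → F) {k : Fin N}
    (hk : k ∉ I) : act g v k = v k := by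
  rw [← herm_ev hF (act g v) k, ← hg k hk, herm_act, herm_ev hF]

theorem act_supp (hF : Fintype.card F = q ^ 2) {g : ↥(SU N F q)} (hg : g ∈ GI I) {v : Fin N → F}
    (hv : Supp I v) : Supp I (act g v) := fun k hk => by rw [act_coord hF hg v hk, hv k hk]

theorem GI_commute (hF : Fintype.card F = q ^ 2) {g h : ↥(SU N F q)} (hg : g ∈ GI I) (hh : h ∈ GI J)
    (hd : Disjoint I J) : Commute g h := by
  refine ext_basis fun k => ?_
  rw [act_mul, act_mul]
  by_cases hk : k ∈ I
  · have hkJ : k ∉ J := Set.disjoint_left.1 hd hk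
    rw [hh k hkJ]
    refine (act_fix hh fun l hl => ?_).symm
    have hlI : l ∉ I := fun h' => Set.disjoint_left.1 hd h' hl
    rw [act_coord hF hg _ hlI]
    have : l ≠ k := fun e => hlI (e ▸ hk)
    simp [ev, this]
  · rw [hg k hk]
    refine act_fix hg fun l hl => ?_
    have hlJ : l ∉ J := Set.disjoint_left.1 hd hl
    rw [act_coord hF hh _ hlJ]
    have : l ≠ k := fun e => hk (e ▸ hl)
    simp [ev, this]

/-! ### Block embeddings -/

section Emb

variable {k : ℕ} (f : Fin k ↪ Fin N)

/-- The block decomposition of the indices. -/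
noncomputable def blockEquiv : Fin k ⊕ {p : Fin N // p ∉ Set.range f} ≃ Fin N := by
  classical
  exact ((Equiv.ofInjective f f.injective).sumCongr (Equiv.refl _)).trans (Equiv.sumCompl (· ∈ Set.range f))

omit [Fintype F] in
theorem blockEquiv_inl (i : Fin k) : blockEquiv f (.inl i) = f i := by simp [blockEquiv]

omit [Fintype F] in
theorem blockEquiv_inr (p : {p : Fin N // p ∉ Set.range f}) : blockEquiv f (.inr p) = p := by simp [blockEquiv]

/-- The block matrix. -/
noncomputable def blockMat (A : Matrix (Fin k) (Fin k) F) : Matrix (Fin N) (Fin N) F := by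
  classical
  exact (Matrix.fromBlocks A 0 0 1).submatrix (blockEquiv f).symm (blockEquiv f).symm

omit [Fintype F] in
theorem blockMat_mul (A B : Matrix (Fin k) (Fin k) F) : blockMat f (A * B) = blockMat f A * blockMat f B := by
  classical
  rw [blockMat, blockMat, blockMat, Matrix.submatrix_mul_equiv, Matrix.fromBlocks_multiply]
  simp

omit [Fintype F] in
theorem blockMat_one : blockMat f (1 : Matrix (Fin k) (Fin k) F) = 1 := by
  classical
  rw [blockMat, Matrix.fromBlocks_one, Matrix.submatrix_one_equiv]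

omit [Fintype F] in
theorem det_blockMat (A : Matrix (Fin k) (Fin k) F) : (blockMat f A).det = A.det := by
  classical
  rw [blockMat, Matrix.det_submatrix_equiv_self, Matrix.det_fromBlocks_zero₂₁, Matrix.det_one, mul_one]

omit [Fintype F] in
theorem blockMat_mulVec_in (A : Matrix (Fin k) (Fin k) F) (v : Fin N → F) (i : Fin k) :
    (blockMat f A *ᵥ v) (f i) = (A *ᵥ (v ∘ f)) i := by
  classical
  rw [blockMat, Matrix.submatrix_mulVec_equiv]
  simp only [Function.comp_apply, ← blockEquiv_inl f i, Equiv.symm_apply_apply, Equiv.symm_symm,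
    Matrix.fromBlocks_mulVec, Sum.elim_inl, Matrix.zero_mulVec, add_zero]
  refine congrArg (fun w => (A *ᵥ w) i) (funext fun j => ?_)
  simp [blockEquiv_inl]

omit [Fintype F] in
theorem blockMat_mulVec_out (A : Matrix (Fin k) (Fin k) F) (v : Fin N → F) {p : Fin N} (hp : p ∉ Set.range f) :
    (blockMat f A *ᵥ v) p = v p := by
  classical
  rw [blockMat, Matrix.submatrix_mulVec_equiv]
  conv_lhs => rw [show p = blockEquiv f (.inr ⟨p, hp⟩) from (blockEquiv_inr f ⟨p, hp⟩).symm]
  simp only [Function.comp_apply, Equiv.symm_apply_apply, Equiv.symm_symm, Matrix.fromBlocks_mulVec,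
    Sum.elim_inr, Matrix.zero_mulVec, zero_add, Matrix.one_mulVec]
  simp [blockEquiv_inr]

omit [Fintype F] in
theorem herm_split (u v : Fin N → F) :
    hermForm N F q u v = hermForm k F q (u ∘ f) (v ∘ f) +
      ∑ p : {p : Fin N // p ∉ Set.range f}, u p * (v p) ^ q := by
  classical
  rw [hermForm, ← Equiv.sum_comp (blockEquiv f) (fun p => u p * v p ^ q), Fintype.sum_sum_type]
  simp [hermForm, blockEquiv_inl, blockEquiv_inr]

/-- The block embedding. -/
noncomputable def emb : ↥(SU k F q) →* ↥(SU N F q) where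
  toFun A := ⟨⟨blockMat f (mat A), by rw [det_blockMat]; exact A.1.2⟩, fun u v => by
    show hermForm N F q (blockMat f (mat A) *ᵥ u) (blockMat f (mat A) *ᵥ v) = hermForm N F q u v
    rw [herm_split f, herm_split f u v]
    congr 1
    · rw [← herm_act A (u ∘ f) (v ∘ f)]
      congr 1 <;> funext i <;> exact blockMat_mulVec_in f _ _ i
    · exact Finset.sum_congr rfl fun p _ => by
        rw [blockMat_mulVec_out f _ _ p.2, blockMat_mulVec_out f _ _ p.2]⟩
  map_one' := Subtype.ext (Subtype.ext (blockMat_one f))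
  map_mul' A B := Subtype.ext (Subtype.ext (blockMat_mul f (mat A) (mat B)))

omit [Fintype F] in
theorem act_emb_in (A : ↥(SU k F q)) (v : Fin N → F) (i : Fin k) : act (emb f A) v (f i) = act A (v ∘ f) i :=
  blockMat_mulVec_in f _ v i

omit [Fintype F] in
theorem act_emb_out (A : ↥(SU k F q)) (v : Fin N → F) {p : Fin N} (hp : p ∉ Set.range f) :
    act (emb f A) v p = v p :=
  blockMat_mulVec_out f _ v hp

omit [Fintype F] in
theorem emb_mem (A : ↥(SU k F q)) : emb f A ∈ GI (Set.range f) := fun p hp => by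
  funext l
  by_cases hl : l ∈ Set.range f
  · obtain ⟨i, rfl⟩ := hl
    have h0 : (ev p : Fin N → F) ∘ f = 0 := funext fun j => by
      simp [ev, show f j ≠ p from fun e => hp ⟨j, e⟩]
    rw [act_emb_in, h0, act_zero]
    simp [ev, show f i ≠ p from fun e => hp ⟨i, e⟩]
  · rw [act_emb_out f A _ hl]

omit [Fintype F] in
theorem act_emb_ev (A : ↥(SU k F q)) (i j : Fin k) : act (emb f A) (ev (f i)) (f j) = act A (ev i) j := by
  rw [act_emb_in]
  congr 1
  funext l
  simp [ev, Pi.single_apply]

omit [Fintype F] in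
theorem emb_injective : Function.Injective (emb (F := F) (q := q) f) := fun A B h => by
  refine ext_basis fun i => funext fun j => ?_
  rw [← act_emb_ev f A i j, h, act_emb_ev]

omit [Fintype F] in
theorem emb_eq_iff {g : ↥(SU N F q)} (hg : g ∈ GI (Set.range f)) (hc : ∀ v, ∀ p ∉ Set.range f, act g v p = v p)
    {A : ↥(SU k F q)} (h : ∀ i j, mat g (f i) (f j) = mat A i j) : emb f A = g := by
  refine ext_basis fun p => ?_
  by_cases hp : p ∈ Set.range f
  · obtain ⟨i, rfl⟩ := hp
    funext l
    by_cases hl : l ∈ Set.range f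
    · obtain ⟨j, rfl⟩ := hl
      rw [act_emb_ev]
      simp [act, ev, h]
    · rw [act_emb_out f A _ hl, hc _ _ hl]
  · rw [hg p hp, emb_mem f A p hp]

theorem exists_emb (hF : Fintype.card F = q ^ 2) {g : ↥(SU N F q)} (hg : g ∈ GI (Set.range f)) :
    ∃ A : ↥(SU k F q), emb f A = g := by
  classical
  set M : Matrix (Fin k) (Fin k) F := fun i j => mat g (f i) (f j) with hM
  have hblk : blockMat f M = mat g := by
    refine Matrix.ext_of_mulVec_single fun p => funext fun l => ?_
    by_cases hl : l ∈ Set.range f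
    · obtain ⟨j, rfl⟩ := hl
      rw [blockMat_mulVec_in]
      by_cases hp : p ∈ Set.range f
      · obtain ⟨i, rfl⟩ := hp
        have : (Pi.single (f i) (1 : F) : Fin N → F) ∘ f = Pi.single i 1 := funext fun t => by
          simp [Pi.single_apply]
        rw [this, Matrix.mulVec_single_one, Matrix.mulVec_single_one]
        rfl
      · have : (Pi.single p (1 : F) : Fin N → F) ∘ f = 0 := funext fun t => by
          simp [show f t ≠ p from fun e => hp ⟨t, e⟩]
        rw [this, Matrix.mulVec_zero]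
        have h1 : (mat g *ᵥ Pi.single p 1) (f j) = ev (F := F) p (f j) := congrFun (hg p hp) (f j)
        rw [h1]
        simp [ev, show f j ≠ p from fun e => hp ⟨j, e⟩]
    · rw [blockMat_mulVec_out f _ _ hl]
      exact (act_coord hF hg _ hl).symm
  have hd : M.det = 1 := by rw [← det_blockMat f M, hblk]; exact g.1.2
  refine ⟨⟨⟨M, hd⟩, fun u v => ?_⟩, Subtype.ext (Subtype.ext hblk)⟩
  let ext : (Fin k → F) → Fin N → F := fun w => Sum.elim w 0 ∘ (blockEquiv f).symm
  have hext : ∀ w, ext w ∘ f = w := fun w => funext fun i => by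
    simp only [ext, Function.comp_apply, ← blockEquiv_inl f i, Equiv.symm_apply_apply, Sum.elim_inl]
  have hext0 : ∀ w (p : {p : Fin N // p ∉ Set.range f}), ext w p = 0 := fun w p => by
    simp only [ext, Function.comp_apply]
    rw [← blockEquiv_inr f p, Equiv.symm_apply_apply]
    rfl
  have key : ∀ w, (blockMat f M *ᵥ ext w) ∘ f = M *ᵥ w := fun w => funext fun i => by
    rw [Function.comp_apply, blockMat_mulVec_in, hext]
  have h := herm_act g (ext u) (ext v)
  rw [show act g (ext u) = blockMat f M *ᵥ ext u by rw [hblk]; rfl,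
    show act g (ext v) = blockMat f M *ᵥ ext v by rw [hblk]; rfl,
    herm_split f, herm_split f (ext u), key, key, hext, hext] at h
  have hsum : (∑ p : {p : Fin N // p ∉ Set.range f}, (blockMat f M *ᵥ ext u) p * (blockMat f M *ᵥ ext v) p ^ q) =
      ∑ p : {p : Fin N // p ∉ Set.range f}, ext u p * ext v p ^ q :=
    Finset.sum_congr rfl fun p _ => by rw [blockMat_mulVec_out f _ _ p.2, blockMat_mulVec_out f _ _ p.2]
  rw [hsum, add_left_inj] at h
  exact h

theorem range_emb (hF : Fintype.card F = q ^ 2) : (emb (F := F) (q := q) f).range = GI (Set.range f) :=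
  le_antisymm (fun _ ⟨A, hA⟩ => hA ▸ emb_mem f A) fun _ hg => exists_emb f hF hg

end Emb

theorem suBlock_eq (hF : Fintype.card F = q ^ 2) (s : Set (Fin N)) : suBlock N F q s = GI s := by
  refine le_antisymm ((Subgroup.closure_le _).2 fun A hA k hk => funext fun l => ?_)
    fun A hA => Subgroup.subset_closure fun k hk => ?_
  · obtain ⟨h1, h2⟩ := hA k hk
    show (mat A *ᵥ Pi.single k 1) l = _
    rw [Matrix.mulVec_single_one, Matrix.col_apply]
    by_cases hl : l = k
    · subst hl; simpa [ev] using h1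
    · simpa [ev, hl] using (h2 l hl).2
  · have hcol : ∀ l, mat A l k = ev (F := F) k l := fun l => by
      rw [← hA k hk, act]; simp [ev]
    refine ⟨by simpa [ev] using hcol k, fun l hl => ⟨?_, by simpa [ev, hl] using hcol l⟩⟩
    have := act_coord hF hA (ev l) hk
    simpa [act, ev, Ne.symm hl] using this

theorem eq_one_of_GI_singleton (hF : Fintype.card F = q ^ 2) {i : Fin N} {g : ↥(SU N F q)}
    (hg : g ∈ GI {i}) : g = 1 := by
  let f : Fin 1 ↪ Fin N := ⟨fun _ => i, fun a b _ => Subsingleton.elim a b⟩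
  have hr : Set.range f = {i} := Set.range_const
  obtain ⟨A, rfl⟩ := exists_emb f hF (hr ▸ hg)
  have : A = 1 := by
    refine Subtype.ext (Subtype.ext (Matrix.ext fun a b => ?_))
    have hd := A.1.2
    rw [Matrix.det_fin_one] at hd
    rw [Subsingleton.elim a 0, Subsingleton.elim b 0]
    simpa using hd
  rw [this, map_one]

/-! ### Moves in a coordinate plane -/

/-- The element of `SU 2` with first column `(x, y)`. -/
def su2 (hF : Fintype.card F = q ^ 2) (x y : F) (h : nm q x + nm q y = 1) : ↥(SU 2 F q) :=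
  ⟨⟨!![x, -(y ^ q); y, x ^ q], by rw [Matrix.det_fin_two_of]; rw [nm, nm] at h; linear_combination h⟩, fun u v => by
    show hermForm 2 F q (!![x, -(y ^ q); y, x ^ q] *ᵥ u) (!![x, -(y ^ q); y, x ^ q] *ᵥ v) = _
    have hc : ∀ a b : F, (a + b) ^ q = a ^ q + b ^ q := H3.add_pow_q hF
    have hn : ∀ a : F, (-a) ^ q = -(a ^ q) := fun a => map_neg (H3.conjQ hF) a
    rw [nm, nm] at h
    simp [hermForm, Fin.sum_univ_two, hc, hn, mul_pow, H3.pow_q_pow_q hF, Matrix.vecHead, Matrix.vecTail]
    linear_combination (u 0 * v 0 ^ q + u 1 * v 1 ^ q) * h⟩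

theorem act_su2 (hF : Fintype.card F = q ^ 2) (x y : F) (h : nm q x + nm q y = 1) (v : Fin 2 → F) :
    act (su2 hF x y h) v = ![x * v 0 - y ^ q * v 1, y * v 0 + x ^ q * v 1] := by
  show !![x, -(y ^ q); y, x ^ q] *ᵥ v = _
  funext i
  fin_cases i <;> simp [Matrix.vecHead, Matrix.vecTail] <;> ring

/-- The pair embedding. -/
def pairEmb (i k : Fin N) (h : i ≠ k) : Fin 2 ↪ Fin N :=
  ⟨![i, k], fun a b e => by fin_cases a <;> fin_cases b <;> simp_all⟩

omit [Fintype F] in
theorem range_pairEmb (i k : Fin N) (h : i ≠ k) : Set.range (pairEmb i k h) = {i, k} := by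
  show Set.range ![i, k] = _
  simp [Matrix.range_cons]
  exact Set.pair_comm _ _

/-- A move in a coordinate plane. -/
noncomputable def mv (hF : Fintype.card F = q ^ 2) (i k : Fin N) (hik : i ≠ k) (x y : F)
    (h : nm q x + nm q y = 1) : ↥(SU N F q) := emb (pairEmb i k hik) (su2 hF x y h)

theorem mv_mem (hF : Fintype.card F = q ^ 2) (i k : Fin N) (hik : i ≠ k) (x y : F) (h : nm q x + nm q y = 1) :
    mv hF i k hik x y h ∈ GI {i, k} := range_pairEmb i k hik ▸ emb_mem _ _

theorem act_mv (hF : Fintype.card F = q ^ 2) (i k : Fin N) (hik : i ≠ k) (x y : F) (h : nm q x + nm q y = 1)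
    (v : Fin N → F) :
    act (mv hF i k hik x y h) v i = x * v i - y ^ q * v k ∧
    act (mv hF i k hik x y h) v k = y * v i + x ^ q * v k ∧
    ∀ p, p ≠ i → p ≠ k → act (mv hF i k hik x y h) v p = v p := by
  refine ⟨?_, ?_, fun p hpi hpk => act_coord hF (mv_mem hF i k hik x y h) v (by simp [hpi, hpk])⟩
  · have := act_emb_in (pairEmb i k hik) (su2 hF x y h) v 0
    rw [act_su2] at this
    exact this
  · have := act_emb_in (pairEmb i k hik) (su2 hF x y h) v 1
    rw [act_su2] at this
    exact this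

/-- In a plane, a non-isotropic pair is moved to any pair of the same norm. -/
theorem exists_pair_move (hF : Fintype.card F = q ^ 2) (i k : Fin N) (hik : i ≠ k) {v : Fin N → F} {a b : F}
    (hS : nm q (v i) + nm q (v k) ≠ 0) (h : nm q a + nm q b = nm q (v i) + nm q (v k)) :
    ∃ g ∈ (GI {i, k} : Subgroup ↥(SU N F q)), act g v i = a ∧ act g v k = b ∧
      ∀ p, p ≠ i → p ≠ k → act g v p = v p := by
  have hSq : (nm q (v i) + nm q (v k)) ^ q = nm q (v i) + nm q (v k) := by
    rw [H3.add_pow_q hF, nm_pow_q hF, nm_pow_q hF]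
  set S := nm q (v i) + nm q (v k) with hSdef
  set x := (a * v i ^ q + b ^ q * v k) / S with hx
  set y := (b * v i ^ q - a ^ q * v k) / S with hy
  have hc : ∀ r s : F, (r + s) ^ q = r ^ q + s ^ q := H3.add_pow_q hF
  have hm : ∀ r s : F, (r - s) ^ q = r ^ q - s ^ q := fun r s => map_sub (H3.conjQ hF) r s
  have hxq : x ^ q = (a ^ q * v i + b * v k ^ q) / S := by
    rw [hx, div_pow, hSq, hc, mul_pow, mul_pow, H3.pow_q_pow_q hF, H3.pow_q_pow_q hF]
  have hyq : y ^ q = (b ^ q * v i - a * v k ^ q) / S := by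
    rw [hy, div_pow, hSq, hm, mul_pow, mul_pow, H3.pow_q_pow_q hF, H3.pow_q_pow_q hF]
  simp only [nm] at h hSdef
  have h1 : nm q x + nm q y = 1 := by
    rw [nm, nm, hxq, hyq, hx, hy]
    field_simp
    linear_combination (v i * v i ^ q + v k * v k ^ q) * h - S * hSdef
  obtain ⟨e1, e2, e3⟩ := act_mv hF i k hik x y h1 v
  refine ⟨_, mv_mem hF i k hik x y h1, ?_, ?_, e3⟩
  · rw [e1, hyq, hx]; field_simp; linear_combination -a * hSdef
  · rw [e2, hxq, hy]; field_simp; linear_combination -b * hSdef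

/-- In a plane, the first coordinate of an isotropic pair is moved to any non-zero value. -/
theorem exists_iso_move (hF : Fintype.card F = q ^ 2) (i k : Fin N) (hik : i ≠ k) {v : Fin N → F} {a : F}
    (ha : a ≠ 0) (hvi : v i ≠ 0) (h : nm q (v i) + nm q (v k) = 0) :
    ∃ g ∈ (GI {i, k} : Subgroup ↥(SU N F q)), act g v i = a ∧ nm q (act g v k) = -nm q a ∧
      ∀ p, p ≠ i → p ≠ k → act g v p = v p := by
  have hc : ∀ r s : F, (r + s) ^ q = r ^ q + s ^ q := H3.add_pow_q hF
  set ζ := v k / v i with hζ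
  set z := a / v i with hz
  have hz0 : z ≠ 0 := div_ne_zero ha hvi
  have hvk : v k = ζ * v i := by rw [hζ, div_mul_cancel₀ _ hvi]
  have hζn : nm q ζ = -1 := by
    rw [hvk, nm_mul] at h
    have h' : nm q (v i) * (1 + nm q ζ) = 0 := by linear_combination h
    have := (mul_eq_zero.1 h').resolve_left (mt (nm_eq_zero hF).1 hvi)
    linear_combination this
  have hζ0 : ζ ≠ 0 := fun e => by rw [e, nm, zero_mul] at hζn; exact one_ne_zero (neg_eq_zero.1 hζn.symm)
  obtain ⟨w, hw⟩ := H3.exists_trace_eq hF (a := 1 - nm q z) (by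
    rw [show (1 - nm q z) ^ q = 1 ^ q - nm q z ^ q from map_sub (H3.conjQ hF) _ _, one_pow, nm_pow_q hF])
  set y := w ^ q / (z ^ q * ζ) ^ q with hy
  have hyq : y ^ q = w / (z ^ q * ζ) := by rw [hy, div_pow, H3.pow_q_pow_q hF, H3.pow_q_pow_q hF]
  set x := z + y ^ q * ζ with hx
  have hxq : x ^ q = z ^ q + y * ζ ^ q := by rw [hx, hc, mul_pow, H3.pow_q_pow_q hF]
  have hden : z ^ q * ζ ≠ 0 := mul_ne_zero (pow_ne_zero _ hz0) hζ0
  have hw1 : z ^ q * (y ^ q * ζ) = w := by rw [hyq]; field_simp
  have hw2 : z * (y * ζ ^ q) = w ^ q := by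
    rw [← hw1, mul_pow, mul_pow, H3.pow_q_pow_q hF, H3.pow_q_pow_q hF]
  have h1 : nm q x + nm q y = 1 := by
    simp only [nm] at hζn hw ⊢
    rw [hxq, hx]
    linear_combination hw + hw1 + hw2 + (y * y ^ q) * hζn
  obtain ⟨e1, e2, e3⟩ := act_mv hF i k hik x y h1 v
  have ei : act (mv hF i k hik x y h1) v i = a := by
    rw [e1, hvk, hx, hz]; field_simp; ring
  refine ⟨_, mv_mem hF i k hik x y h1, ei, ?_, e3⟩
  have hsum : nm q (act (mv hF i k hik x y h1) v i) + nm q (act (mv hF i k hik x y h1) v k) =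
      nm q (v i) + nm q (v k) := by
    rw [e1, e2]
    simp only [nm] at h1 ⊢
    clear_value x y
    have hn : ∀ r s : F, (r - s) ^ q = r ^ q - s ^ q := fun r s => map_sub (H3.conjQ hF) r s
    rw [hn, hc, mul_pow, mul_pow, mul_pow, mul_pow, H3.pow_q_pow_q hF, H3.pow_q_pow_q hF]
    linear_combination (v i * v i ^ q + v k * v k ^ q) * h1
  rw [ei, h] at hsum
  linear_combination hsum

/-- An anisotropic supported vector is moved to a multiple of a chosen basis vector. -/
theorem exists_move_to (hF : Fintype.card F = q ^ 2) (hq : 4 ≤ q) {I : Set (Fin N)} {a : Fin N} (ha : a ∈ I)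
    {v : Fin N → F} (hv : Supp I v) (hn : hermForm N F q v v ≠ 0) :
    ∃ g ∈ (GI I : Subgroup ↥(SU N F q)), ∀ k, k ≠ a → act g v k = 0 := by
  classical
  have hpair : ∀ {k}, k ∈ I → ({a, k} : Set (Fin N)) ⊆ I := fun hk => by
    rintro p (rfl | rfl) <;> assumption
  suffices ∀ (d : ℕ) (v : Fin N → F), Supp I v → hermForm N F q v v ≠ 0 →
      (Finset.univ.filter fun k => k ≠ a ∧ v k ≠ 0).card = d →
      ∃ g ∈ (GI I : Subgroup ↥(SU N F q)), ∀ k, k ≠ a → act g v k = 0 from this _ v hv hn rfl
  intro d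
  induction d using Nat.strongRecOn with
  | _ d ih =>
    intro v hv hn hd
    by_cases h0 : ∀ k, k ≠ a → v k = 0
    · exact ⟨1, one_mem _, fun k hk => by rw [act_one]; exact h0 k hk⟩
    have step : ∀ w, Supp I w → hermForm N F q w w = hermForm N F q v v →
        (∀ p, p ≠ a → v p = 0 → w p = 0) → ∀ k, k ≠ a → v k ≠ 0 → w k = 0 →
        ∃ g ∈ (GI I : Subgroup ↥(SU N F q)), ∀ k, k ≠ a → act g w k = 0 := by
      intro w hw hwn hsub k hka hk hwk
      refine ih _ ?_ w hw (hwn ▸ hn) rfl
      rw [← hd]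
      refine Finset.card_lt_card ?_
      rw [Finset.ssubset_iff_of_subset]
      · exact ⟨k, by simp [hka, hk], by simp [hwk]⟩
      · intro p hp
        simp only [Finset.mem_filter, Finset.mem_univ, true_and] at hp ⊢
        exact ⟨hp.1, fun e => hp.2 (hsub p hp.1 e)⟩
    have kill : ∀ w, Supp I w → hermForm N F q w w = hermForm N F q v v → (∀ p, p ≠ a → v p = 0 → w p = 0) →
        ∀ k, k ∈ I → k ≠ a → v k ≠ 0 → nm q (w a) + nm q (w k) ≠ 0 →
        ∃ g ∈ (GI I : Subgroup ↥(SU N F q)), ∀ k, k ≠ a → act g w k = 0 := by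
      intro w hw hwn hsub k hkI hka hk hS
      obtain ⟨c, hc⟩ := exists_nm hF (μ := nm q (w a) + nm q (w k))
        (by rw [H3.add_pow_q hF, nm_pow_q hF, nm_pow_q hF])
      obtain ⟨g, hg, hga, hgk, hgp⟩ := exists_pair_move hF a k hka.symm (a := c) (b := 0) hS
        (by rw [nm_zero hF, add_zero, hc])
      have hgI := GI_mono (hpair hkI) hg
      obtain ⟨g', hg', hfin⟩ := step _ (act_supp hF hgI hw) ((herm_act g w w).trans hwn)
        (fun p hp hp0 => by
          by_cases hpk : p = k
          · subst hpk; exact hgk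
          · rw [hgp p hp hpk]; exact hsub p hp hp0) k hka hk hgk
      exact ⟨g' * g, mul_mem hg' hgI, fun p hp => by rw [act_mul]; exact hfin p hp⟩
    push Not at h0
    obtain ⟨k, hka, hk⟩ := h0
    have hkI : k ∈ I := by_contra fun h => hk (hv k h)
    by_cases hS : nm q (v a) + nm q (v k) = 0
    swap
    · exact kill v hv rfl (fun _ _ h => h) k hkI hka hk hS
    obtain ⟨l, hla, hlk, hl⟩ : ∃ l, l ≠ a ∧ l ≠ k ∧ v l ≠ 0 := by
      by_contra h
      push Not at h
      apply hn
      rw [herm_self, ← Finset.sum_subset (Finset.subset_univ {a, k}) (fun p _ hp => by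
        simp only [Finset.mem_insert, Finset.mem_singleton, not_or] at hp
        rw [h p hp.1 hp.2, nm_zero hF]), Finset.sum_pair hka.symm, hS]
    have hlI : l ∈ I := by_contra fun h => hl (hv l h)
    have hva : v a ≠ 0 := fun h => hk ((nm_eq_zero hF).1 (by rw [h, nm_zero hF, zero_add] at hS; exact hS))
    obtain ⟨c, hc0, hc⟩ : ∃ c : F, c ≠ 0 ∧ nm q c + nm q (v l) ≠ 0 := by
      by_contra h
      push Not at h
      obtain ⟨t, ht0, ht1, -⟩ := exists_nm_avoid hF hq (1 : F) 1
      have e1 := h 1 one_ne_zero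
      have e2 := h t ht0
      rw [nm_one] at e1
      exact ht1 (by linear_combination e2 - e1)
    obtain ⟨g, hg, hga, hgk, hgp⟩ := exists_iso_move hF a k hka.symm hc0 hva hS
    have hgI := GI_mono (hpair hkI) hg
    obtain ⟨g', hg', hfin⟩ := kill _ (act_supp hF hgI hv) (herm_act g v v)
      (fun p hp hp0 => by
        by_cases hpk : p = k
        · subst hpk; exact absurd hp0 hk
        · rw [hgp p hp hpk]; exact hp0) l hlI hla hl (by rwa [hga, hgp l hla hlk])
    exact ⟨g' * g, mul_mem hg' hgI, fun p hp => by rw [act_mul]; exact hfin p hp⟩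

end Cfsg.Agent.H78.Phan
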