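import Cfsg.Agent.H78.Phan.Basic

/-!
# The unitary group as completion of its rank two blocks
-/

set_option autoImplicit false

namespace Cfsg.Agent.H78.Phan

open Matrix Cfsg

variable {F : Type*} [Field F] [Fintype F] {q : ℕ} {N : ℕ}

/-- An isotropic vector is moved so that a chosen coordinate takes a chosen non-zero value. -/
theorem exists_iso_coord (hF : Fintype.card F = q ^ 2) (hq : 4 ≤ q) {J : Set (Fin N)} {j : Fin N} (hj : j ∈ J)
    {w : Fin N → F} (hw : Supp J w) (h0 : w ≠ 0) (hn : hermForm N F q w w = 0) {c : F} (hc : c ≠ 0) :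
    ∃ g ∈ (GI J : Subgroup ↥(SU N F q)), act g w j = c := by
  classical
  have hpair : ∀ {k}, k ∈ J → ({j, k} : Set (Fin N)) ⊆ J := fun hk => by
    rintro p (rfl | rfl) <;> assumption
  obtain ⟨g1, hg1, hj1⟩ : ∃ g ∈ (GI J : Subgroup ↥(SU N F q)), act g w j ≠ 0 := by
    by_cases hwj : w j = 0
    swap
    · exact ⟨1, one_mem _, by rwa [act_one]⟩
    obtain ⟨k, hk⟩ := Function.ne_iff.1 h0
    have hkj : j ≠ k := fun e => hk (e ▸ hwj)
    have hkJ : k ∈ J := by_contra fun h => hk (hw k h)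
    have hS : nm q (w j) + nm q (w k) ≠ 0 := by
      rw [hwj, nm_zero hF, zero_add]; exact mt (nm_eq_zero hF).1 hk
    obtain ⟨g, hg, hgj, -, -⟩ := exists_pair_move hF j k hkj (v := w) (a := w k) (b := 0) hS
      (by rw [hwj, nm_zero hF, add_zero, zero_add])
    exact ⟨g, GI_mono (hpair hkJ) hg, by rw [hgj]; exact hk⟩
  set v := act g1 w with hv
  have hvs : Supp J v := act_supp hF hg1 hw
  have hvn : hermForm N F q v v = 0 := (herm_act g1 w w).trans hn
  obtain ⟨k, hkj, hk⟩ : ∃ k, k ≠ j ∧ v k ≠ 0 := by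
    by_contra h
    push Not at h
    rw [herm_self, Finset.sum_eq_single j (fun p _ hp => by rw [h p hp, nm_zero hF]) (by simp)] at hvn
    exact hj1 ((nm_eq_zero hF).1 hvn)
  set v' := v - v j • ev j with hv'
  have hv'0 : ∀ p, p ≠ j → v' p = v p := fun p hp => by simp [hv', ev, hp]
  have hv'j : v' j = 0 := by simp [hv', ev]
  have hv's : Supp (J \ {j}) v' := fun p hp => by
    by_cases hpj : p = j
    · rw [hpj, hv'j]
    · rw [hv'0 p hpj]; exact hvs p fun h => hp ⟨h, hpj⟩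
  have hv'n : hermForm N F q v' v' ≠ 0 := by
    have e1 : hermForm N F q v v = hermForm N F q v' v' + nm q (v j) := by
      rw [herm_self, herm_self, ← Finset.sum_erase_add _ _ (Finset.mem_univ j),
        ← Finset.sum_erase_add _ (fun p => nm q (v' p)) (Finset.mem_univ j), hv'j, nm_zero hF, add_zero]
      congr 1
      exact Finset.sum_congr rfl fun p hp => by rw [hv'0 p (Finset.ne_of_mem_erase hp)]
    intro h
    rw [hvn, h, zero_add] at e1
    exact hj1 ((nm_eq_zero hF).1 e1.symm)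
  have hkJ : k ∈ J := by_contra fun h => hk (hvs k h)
  obtain ⟨g2, hg2, hg2z⟩ := exists_move_to hF hq (I := J \ {j}) ⟨hkJ, hkj⟩ hv's hv'n
  set u := act g2 v with hu
  have huj : u j = v j := act_coord hF hg2 v (by simp)
  have hdiff : u = act g2 v' + v j • ev j := by
    rw [hu, ← hg2 j (by simp), ← act_smul, ← act_add, hv', sub_add_cancel]
  have hu0 : ∀ p, p ≠ j → p ≠ k → u p = 0 := fun p hpj hpk => by
    rw [hdiff]; simp [hg2z p hpk, ev, hpj]
  have hun : nm q (u j) + nm q (u k) = 0 := by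
    have h := (herm_act g2 v v).trans hvn
    rw [← hu, herm_self, ← Finset.sum_subset (Finset.subset_univ {j, k}) (fun p _ hp => by
      simp only [Finset.mem_insert, Finset.mem_singleton, not_or] at hp
      rw [hu0 p hp.1 hp.2, nm_zero hF]), Finset.sum_pair hkj.symm] at h
    exact h
  obtain ⟨g3, hg3, hg3j, -, -⟩ := exists_iso_move hF j k hkj.symm hc (huj ▸ hj1) hun
  exact ⟨g3 * (g2 * g1), mul_mem (GI_mono (hpair hkJ) hg3) (mul_mem (GI_mono Set.diff_subset hg2) hg1),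
    by rw [act_mul, act_mul, ← hv, ← hu]; exact hg3j⟩

/-- Phases avoiding a trace. -/
theorem exists_theta (hF : Fintype.card F = q ^ 2) (hq : 4 ≤ q) {K : F} (hK : K ≠ 0) (r : F) :
    ∃ θ : F, nm q θ = 1 ∧ θ * K + (θ * K) ^ q ≠ r := by
  classical
  by_contra h
  push Not at h
  have hc := H3.card_norm_eq hF (μ := 1) one_ne_zero (one_pow q)
  rw [Nat.card_eq_fintype_card, Fintype.card_subtype] at hc
  let P : Polynomial F := Polynomial.C K * Polynomial.X ^ 2 + Polynomial.C (-r) * Polynomial.X + Polynomial.C (K ^ q)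
  have hdeg : P.natDegree = 2 := Polynomial.natDegree_quadratic hK
  have hsub : (Finset.univ.filter fun x : F => x ^ (q + 1) = 1) ⊆ P.roots.toFinset := by
    intro x hx
    simp only [Finset.mem_filter, Finset.mem_univ, true_and] at hx
    rw [Multiset.mem_toFinset, Polynomial.mem_roots (fun e => by rw [e] at hdeg; simp at hdeg),
      Polynomial.IsRoot]
    have h2 := h x (by rw [nm, ← pow_succ', hx])
    rw [mul_pow] at h2
    rw [pow_succ] at hx
    simp only [P, Polynomial.eval_add, Polynomial.eval_mul, Polynomial.eval_pow, Polynomial.eval_C,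
      Polynomial.eval_X]
    linear_combination x * h2 - K ^ q * hx
  have hle := (Finset.card_le_card hsub).trans ((Multiset.toFinset_card_le _).trans (Polynomial.card_roots' _))
  omega

/-- Splitting off one coordinate. -/
theorem herm_off (hF : Fintype.card F = q ^ 2) (v : Fin N → F) (i : Fin N) :
    hermForm N F q v v = hermForm N F q (v - v i • ev i) (v - v i • ev i) + nm q (v i) := by
  rw [herm_self, herm_self, ← Finset.sum_erase_add _ _ (Finset.mem_univ i)]
  conv_rhs => rw [← Finset.sum_erase_add _ _ (Finset.mem_univ i)]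
  have h0 : (v - v i • (ev i : Fin N → F)) i = 0 := by simp [ev]
  rw [h0, nm_zero hF, add_zero]
  congr 1
  exact Finset.sum_congr rfl fun p hp => by simp [ev, Finset.ne_of_mem_erase hp]

/-- A homomorphism is injective on a subgroup. -/
def InjOnS {Γ H : Type*} [Group Γ] [Group H] (π : Γ →* H) (P : Subgroup Γ) : Prop :=
  ∀ x ∈ P, π x = 1 → x = 1

theorem InjOnS.eq {Γ H : Type*} [Group Γ] [Group H] {π : Γ →* H} {P : Subgroup Γ} (h : InjOnS π P) {x y : Γ}
    (hx : x ∈ P) (hy : y ∈ P) (e : π x = π y) : x = y :=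
  mul_inv_eq_one.1 (h _ (mul_mem hx (inv_mem hy)) (by rw [map_mul, map_inv, e, mul_inv_cancel]))

/-- An interval of coordinates. -/
def Iv (a b : ℕ) : Set (Fin N) := {k | a ≤ (k : ℕ) ∧ (k : ℕ) < b}

theorem mem_Iv {a b : ℕ} {k : Fin N} : k ∈ (Iv a b : Set (Fin N)) ↔ a ≤ (k : ℕ) ∧ (k : ℕ) < b := Iff.rfl

theorem Iv_mono {a b a' b' : ℕ} (h1 : a' ≤ a) (h2 : b ≤ b') : (Iv a b : Set (Fin N)) ⊆ Iv a' b' :=
  fun _ hk => ⟨h1.trans hk.1, lt_of_lt_of_le hk.2 h2⟩

theorem Iv_pair {a : ℕ} (i k : Fin N) (hi : (i : ℕ) = a) (hk : (k : ℕ) = a + 1) :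
    ({i, k} : Set (Fin N)) = Iv a (a + 2) := by
  ext p
  simp only [Set.mem_insert_iff, Set.mem_singleton_iff, mem_Iv, Fin.ext_iff]
  omega

theorem mem_GI_fix {g : ↥(SU N F q)} {a b : ℕ} (hg : g ∈ GI (Iv a b)) {i : Fin N} (hi : (i : ℕ) = a)
    (he : act g (ev i) = ev i) : g ∈ GI (Iv (a + 1) b) := by
  intro k hk
  by_cases hki : k = i
  · rw [hki]; exact he
  · refine hg k fun h => hk ⟨?_, h.2⟩
    have h1 := h.1
    simp only [Fin.ext_iff] at hki
    omega

/-- Two blocks generate the block on three coordinates. -/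
theorem gen_three (hF : Fintype.card F = q ^ 2) (hq : 4 ≤ q) {a : ℕ} (ha : a + 3 ≤ N) {g : ↥(SU N F q)}
    (hg : g ∈ GI (Iv a (a + 3))) : g ∈ (GI (Iv a (a + 2)) ⊔ GI (Iv (a + 1) (a + 3)) : Subgroup ↥(SU N F q)) := by
  let i : Fin N := ⟨a, by omega⟩
  let j : Fin N := ⟨a + 1, by omega⟩
  set P : Subgroup ↥(SU N F q) := GI (Iv a (a + 2)) ⊔ GI (Iv (a + 1) (a + 3)) with hP
  have hsub : ({i, j} : Set (Fin N)) = Iv a (a + 2) := Iv_pair i j rfl rfl
  have hij : i ≠ j := fun e => by simp [i, j, Fin.ext_iff] at e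
  have hA : ∀ {h : ↥(SU N F q)}, h ∈ GI ({i, j} : Set (Fin N)) → h ∈ P := fun hh =>
    Subgroup.mem_sup_left (hsub ▸ hh)
  have hB : ∀ {h : ↥(SU N F q)}, h ∈ GI (Iv (a + 1) (a + 3)) → h ∈ P := fun hh => Subgroup.mem_sup_right hh
  have hPle : P ≤ GI (Iv a (a + 3)) := sup_le (GI_mono (Iv_mono le_rfl (by omega)))
    (GI_mono (Iv_mono (by omega) le_rfl))
  suffices hmain : ∀ v, Supp (Iv a (a + 3)) v → hermForm N F q v v = 1 → ∃ h ∈ P, act h v = ev i by
    have hei : Supp (Iv a (a + 3)) (ev i : Fin N → F) := fun k hk => by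
      have : k ≠ i := fun e => hk (e ▸ ⟨le_rfl, by show a < a + 3; omega⟩)
      simp [ev, this]
    obtain ⟨h, hh, he⟩ := hmain (act g (ev i)) (act_supp hF hg hei) (by
      rw [herm_act, herm_ev hF]; simp [ev])
    have : h * g ∈ P := hB (mem_GI_fix (mul_mem (hPle hh) hg) rfl (by rw [act_mul, he]))
    simpa using mul_mem (inv_mem hh) this
  have last : ∀ v, Supp (Iv a (a + 3)) v → hermForm N F q v v = 1 →
      (∀ k, k ≠ i → k ≠ j → v k = 0) → ∃ h ∈ P, act h v = ev i := by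
    intro v hv hn h0
    have hsum : nm q (v i) + nm q (v j) = 1 := by
      rw [← hn, herm_self, ← Finset.sum_subset (Finset.subset_univ {i, j}) (fun p _ hp => by
        simp only [Finset.mem_insert, Finset.mem_singleton, not_or] at hp
        rw [h0 p hp.1 hp.2, nm_zero hF]), Finset.sum_pair hij]
    obtain ⟨h, hh, h1, h2, h3⟩ := exists_pair_move hF i j hij (a := 1) (b := 0)
      (by rw [hsum]; exact one_ne_zero) (by rw [nm_one, nm_zero hF, add_zero, hsum])
    refine ⟨h, hA hh, funext fun p => ?_⟩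
    by_cases hpi : p = i
    · subst hpi; simp [ev, h1]
    by_cases hpj : p = j
    · subst hpj; simp [ev, h2, hij.symm]
    · rw [h3 p hpi hpj, h0 p hpi hpj]; simp [ev, hpi]
  have main : ∀ v, Supp (Iv a (a + 3)) v → hermForm N F q v v = 1 → nm q (v i) ≠ 1 →
      ∃ h ∈ P, act h v = ev i := by
    intro v hv hn hne
    set v' := v - v i • ev i with hv'
    have hv'i : v' i = 0 := by simp [hv', ev]
    have hv'0 : ∀ p, p ≠ i → v' p = v p := fun p hp => by simp [hv', ev, hp]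
    have hv's : Supp (Iv (a + 1) (a + 3)) v' := fun p hp => by
      by_cases hpi : p = i
      · rw [hpi, hv'i]
      · rw [hv'0 p hpi]
        refine hv p fun h => hp ⟨?_, h.2⟩
        have h1 := h.1
        simp only [i, Fin.ext_iff] at hpi
        omega
    have hv'n : hermForm N F q v' v' ≠ 0 := by
      intro h
      apply hne
      have e1 : hermForm N F q v v = hermForm N F q v' v' + nm q (v i) := by
        rw [herm_self, herm_self, ← Finset.sum_erase_add _ _ (Finset.mem_univ i),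
          ← Finset.sum_erase_add _ (fun p => nm q (v' p)) (Finset.mem_univ i), hv'i, nm_zero hF, add_zero]
        congr 1
        exact Finset.sum_congr rfl fun p hp => by rw [hv'0 p (Finset.ne_of_mem_erase hp)]
      rw [h, zero_add, hn] at e1
      exact e1.symm
    obtain ⟨h, hh, hz⟩ := exists_move_to hF hq (I := Iv (a + 1) (a + 3)) (a := j) ⟨le_rfl, by show a + 1 < a + 3; omega⟩
      hv's hv'n
    have hhi : act h (ev i) = ev i := hh i (fun hm => by have := hm.1; simp [i] at this)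
    obtain ⟨h', hh', he⟩ := last (act h v) (act_supp hF (GI_mono (Iv_mono (by omega) le_rfl) hh) hv)
      ((herm_act h v v).trans hn) fun k hki hkj => by
        rw [show v = v' + v i • ev i by simp [hv'], act_add, act_smul, hhi]
        simp [hz k hkj, ev, hki]
    exact ⟨h' * h, mul_mem hh' (hB hh), by rw [act_mul, he]⟩
  intro v hv hn
  by_cases hne : nm q (v i) = 1
  swap
  · exact main v hv hn hne
  by_cases h0 : ∀ k, k ≠ i → v k = 0
  · exact last v hv hn fun k hk _ => h0 k hk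
  obtain ⟨g', hg', hg'i⟩ : ∃ g' ∈ P, nm q (act g' v i) ≠ 1 := by
    by_cases hS : nm q (v i) + nm q (v j) = 0
    · obtain ⟨c, hc0, hc1, -⟩ := exists_nm_avoid hF hq (1 : F) 1
      obtain ⟨h, hh, h1, -, -⟩ := exists_iso_move hF i j hij hc0
        (fun e => by rw [e, nm_zero hF] at hne; exact zero_ne_one hne) hS
      exact ⟨h, hA hh, by rw [h1]; exact hc1⟩
    · obtain ⟨c, hc⟩ := exists_nm hF (μ := nm q (v i) + nm q (v j))
        (by rw [H3.add_pow_q hF, nm_pow_q hF, nm_pow_q hF])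
      obtain ⟨h, hh, h1, -, -⟩ := exists_pair_move hF i j hij (a := 0) (b := c) hS
        (by rw [nm_zero hF, zero_add, hc])
      exact ⟨h, hA hh, by rw [h1, nm_zero hF]; exact zero_ne_one⟩
  obtain ⟨h, hh, he⟩ := main _ (act_supp hF (hPle hg') hv) ((herm_act g' v v).trans hn) hg'i
  exact ⟨h * g', mul_mem hh hg', by rw [act_mul, he]⟩

variable {Γ : Type*} [Group Γ]

/-- Lifts of the blocks. -/
structure Amal (π : Γ →* ↥(SU N F q)) where
  A : ℕ → Subgroup Γ
  V : ℕ → Subgroup Γ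
  mapA : ∀ a, a + 2 ≤ N → (A a).map π = GI (Iv a (a + 2))
  mapV : ∀ a, a + 3 ≤ N → (V a).map π = GI (Iv a (a + 3))
  injV : ∀ a, a + 3 ≤ N → InjOnS π (V a)
  A_le : ∀ a, a + 3 ≤ N → A a ≤ V a ∧ A (a + 1) ≤ V a
  comm : ∀ a b, a + 2 ≤ b → b + 2 ≤ N → ∀ x ∈ A a, ∀ y ∈ A b, Commute x y

namespace Amal

variable {π : Γ →* ↥(SU N F q)} (Am : Amal π)

theorem map_A_mem {a : ℕ} (ha : a + 2 ≤ N) {x : Γ} (hx : x ∈ Am.A a) : π x ∈ GI (Iv a (a + 2)) :=
  Am.mapA a ha ▸ Subgroup.mem_map_of_mem π hx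

theorem exists_A {a : ℕ} (ha : a + 2 ≤ N) {g : ↥(SU N F q)} (hg : g ∈ GI (Iv a (a + 2))) :
    ∃ x ∈ Am.A a, π x = g := by
  rwa [← Am.mapA a ha, Subgroup.mem_map] at hg

theorem map_V_mem {a : ℕ} (ha : a + 3 ≤ N) {x : Γ} (hx : x ∈ Am.V a) : π x ∈ GI (Iv a (a + 3)) :=
  Am.mapV a ha ▸ Subgroup.mem_map_of_mem π hx

theorem V_eq (hF : Fintype.card F = q ^ 2) (hq : 4 ≤ q) {a : ℕ} (ha : a + 3 ≤ N) :
    Am.V a = Am.A a ⊔ Am.A (a + 1) := by
  refine le_antisymm (fun x hx => ?_) (sup_le (Am.A_le a ha).1 (Am.A_le a ha).2)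
  have hmap : (Am.A a ⊔ Am.A (a + 1)).map π = GI (Iv a (a + 2)) ⊔ GI (Iv (a + 1) (a + 3)) := by
    rw [Subgroup.map_sup, Am.mapA a (by omega), Am.mapA (a + 1) (by omega)]
  have h := gen_three hF hq ha (Am.map_V_mem ha hx)
  rw [← hmap, Subgroup.mem_map] at h
  obtain ⟨y, hy, hπ⟩ := h
  rwa [(Am.injV a ha).eq hx (sup_le (Am.A_le a ha).1 (Am.A_le a ha).2 hy) hπ.symm]

/-- An element of a triple block fixing its first vector lies in the second pair block. -/
theorem mem_A_of_fix {a : ℕ} (ha : a + 3 ≤ N) {x : Γ} (hx : x ∈ Am.V a) {i : Fin N} (hi : (i : ℕ) = a)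
    (he : act (π x) (ev i) = ev i) : x ∈ Am.A (a + 1) := by
  obtain ⟨y, hy, hπ⟩ := Am.exists_A (a := a + 1) (by omega) (mem_GI_fix (Am.map_V_mem ha hx) hi he)
  rwa [(Am.injV a ha).eq hx ((Am.A_le a ha).2 hy) hπ.symm]

/-- The lifts over an interval. -/
def T (a b : ℕ) : Subgroup Γ := ⨆ (k : ℕ) (_ : a ≤ k ∧ k + 2 ≤ b), Am.A k

theorem A_le_T {a b k : ℕ} (h : a ≤ k ∧ k + 2 ≤ b) : Am.A k ≤ Am.T a b := le_iSup₂_of_le k h le_rfl

theorem T_le {a b : ℕ} {P : Subgroup Γ} (h : ∀ k, a ≤ k → k + 2 ≤ b → Am.A k ≤ P) : Am.T a b ≤ P :=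
  iSup₂_le fun k hk => h k hk.1 hk.2

/-- The induction hypothesis. -/
structure Good (a b : ℕ) : Prop where
  inj : InjOnS π (Am.T a b)
  map : (Am.T a b).map π = GI (Iv a b)
  stab : ∀ g ∈ Am.T a b, ∀ i : Fin N, (i : ℕ) = a → act (π g) (ev i) = ev i → g ∈ Am.T (a + 1) b

theorem good_three (hF : Fintype.card F = q ^ 2) (hq : 4 ≤ q) {a : ℕ} (ha : a + 3 ≤ N) : Am.Good a (a + 3) := by
  have hT : Am.T a (a + 3) = Am.V a := by
    rw [Am.V_eq hF hq ha]
    refine le_antisymm (Am.T_le fun k h1 h2 => ?_)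
      (sup_le (Am.A_le_T ⟨le_rfl, by omega⟩) (Am.A_le_T ⟨by omega, le_rfl⟩))
    rcases (show k = a ∨ k = a + 1 by omega) with rfl | rfl
    · exact le_sup_left
    · exact le_sup_right
  refine ⟨hT ▸ Am.injV a ha, hT ▸ Am.mapV a ha, fun g hg i hi he => ?_⟩
  rw [hT] at hg
  exact Am.A_le_T ⟨le_rfl, le_rfl⟩ (Am.mem_A_of_fix ha hg hi he)

end Amal

end Cfsg.Agent.H78.Phan
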