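import Cfsg.Agent.H78.Phan.Twist
import Cfsg.Agent.H78.Phan.Core

/-!
# Normalising a chain of standard pairs
-/

set_option autoImplicit false

namespace Cfsg.Agent.H78.Phan

open Matrix Cfsg

variable {F : Type*} [Field F] [Fintype F] {q : ℕ}

theorem act_lo (hF : Fintype.card F = q ^ 2) (x y : F) (h : nm q x + nm q y = 1) (v : Fin 3 → F) :
    act (lo (su2 hF x y h)) v = ![x * v 0 - y ^ q * v 1, y * v 0 + x ^ q * v 1, v 2] := by
  funext k
  fin_cases k
  · refine (act_emb_in (e2 (N := 3) 0 (by omega)) _ v 0).trans ?_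
    rw [act_su2]
    rfl
  · refine (act_emb_in (e2 (N := 3) 0 (by omega)) _ v 1).trans ?_
    rw [act_su2]
    rfl
  · refine act_emb_out (e2 (N := 3) 0 (by omega)) _ v ?_
    rw [range_e2]
    simp

theorem act_hi (hF : Fintype.card F = q ^ 2) (x y : F) (h : nm q x + nm q y = 1) (v : Fin 3 → F) :
    act (hi (su2 hF x y h)) v = ![v 0, x * v 1 - y ^ q * v 2, y * v 1 + x ^ q * v 2] := by
  funext k
  fin_cases k
  · refine act_emb_out (e2 (N := 3) 1 (by omega)) _ v ?_
    rw [range_e2]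
    simp
  · refine (act_emb_in (e2 (N := 3) 1 (by omega)) _ v 0).trans ?_
    rw [act_su2]
    rfl
  · refine (act_emb_in (e2 (N := 3) 1 (by omega)) _ v 1).trans ?_
    rw [act_su2]
    rfl

theorem nm_phase_mul (hF : Fintype.card F = q ^ 2) {x y x' y' : F} (h : nm q x + nm q y = 1)
    (h' : nm q x' + nm q y' = 1) (hy : y = 0) : nm q x' + nm q (x * y') = 1 := by
  have : nm q x = 1 := by rw [hy, nm_zero hF, add_zero] at h; exact h
  rw [nm_mul, this, one_mul, h']

/-- Diagonal elements conjugate the other block into itself. -/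
theorem diag_conj (hF : Fintype.card F = q ^ 2) {d : ↥(SU 2 F q)} (hd : IsDiag d) (x : ↥(SU 2 F q)) :
    ∃ x' : ↥(SU 2 F q), mat x' 0 0 = mat x 0 0 ∧ mat x' 1 0 = mat d 0 0 * mat x 1 0 ∧
      lo d * hi x * (lo d)⁻¹ = hi x' ∧ hi d * lo x * (hi d)⁻¹ = lo x' := by
  obtain ⟨h1, ed⟩ := exists_su2 hF d
  obtain ⟨h2, ex⟩ := exists_su2 hF x
  set a := mat d 0 0
  set α := mat x 0 0
  set β := mat x 1 0
  have h3 := nm_phase_mul hF h1 h2 hd
  have ha : a * a ^ q = 1 := by
    have := h1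
    rw [show mat d 1 0 = 0 from hd, nm_zero hF, add_zero] at this
    exact this
  refine ⟨su2 hF α (a * β) h3, rfl, rfl, ?_, ?_⟩ <;> rw [mul_inv_eq_iff_eq_mul] <;>
    refine ext_act fun v => ?_ <;>
    rw [ed, ex, act_mul, act_mul, act_lo hF, act_hi hF, act_lo hF, act_hi hF,
      show mat d 1 0 = 0 from hd, zero_pow (q_ne_zero hF)] <;>
    funext k <;> fin_cases k <;> simp [mul_pow]
  · ring
  all_goals first
    | ring1
    | linear_combination (β * v 0) * ha
    | linear_combination -(β * v 0) * ha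
    | linear_combination (β * v 1) * ha
    | linear_combination -(β * v 1) * ha
    | linear_combination (β ^ q * v 1) * ha
    | linear_combination -(β ^ q * v 1) * ha
    | linear_combination (β ^ q * v 2) * ha
    | linear_combination -(β ^ q * v 2) * ha

theorem IsDiag.of_inv {g : ↥(SU 2 F q)} (h : IsDiag g⁻¹) : IsDiag g := by
  have h' : Matrix.adjugate (mat g) 1 0 = 0 := h
  rw [Matrix.adjugate_fin_two] at h'
  simpa [IsDiag] using h'

/-- Central elements fix the first coordinate line. -/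
theorem center_act (hF : Fintype.card F = q ^ 2) (hq : 4 ≤ q) {z : ↥(SU 3 F q)}
    (hz : z ∈ Subgroup.center ↥(SU 3 F q)) : ∃ c : F, act z (ev 0) = c • ev 0 := by
  obtain ⟨a, ha, hane⟩ := exists_phase hF hq
  have ha0 : nm q a + nm q (0 : F) = 1 := by rw [ha, nm_zero hF, add_zero]
  set w := act z (ev 0) with hw
  have hfix : act (hi (su2 hF a 0 ha0)) w = w := by
    rw [hw, ← act_mul, (Subgroup.mem_center_iff.1 hz (hi (su2 hF a 0 ha0))), act_mul, act_hi]
    congr 1
    funext k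
    fin_cases k <;> simp [ev]
  rw [act_hi] at hfix
  have h1 := congrFun hfix 1
  have h2 := congrFun hfix 2
  simp [zero_pow (q_ne_zero hF)] at h1 h2
  have ha1 : a ≠ 1 := fun e => hane (by rw [e, one_pow])
  have ha2 : a ^ q ≠ 1 := fun e => ha1 (by rw [nm, e, mul_one] at ha; exact ha)
  have e1 : w 1 = 0 := by
    refine (mul_eq_zero.1 ?_).resolve_left (sub_ne_zero.2 ha1)
    first | linear_combination h1 | linear_combination -h1
  have e2 : w 2 = 0 := by
    refine (mul_eq_zero.1 ?_).resolve_left (sub_ne_zero.2 ha2)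
    first | linear_combination h2 | linear_combination -h2
  refine ⟨w 0, funext fun k => ?_⟩
  fin_cases k <;> simp [ev, e1, e2]

theorem lo_central (hF : Fintype.card F = q ^ 2) {x : ↥(SU 2 F q)}
    (hx : lo x ∈ Subgroup.center ↥(SU 3 F q)) : x = 1 := by
  have h1 : nm q (0 : F) + nm q (1 : F) = 1 := by rw [nm_zero hF, nm_one, zero_add]
  set s := hi (su2 hF 0 1 h1)
  have hs : act s (ev 2) = -(ev 1 : Fin 3 → F) := by
    rw [act_hi]; funext k; fin_cases k <;> simp [ev, zero_pow (q_ne_zero hF)]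
  have h2 : act (lo x) (ev 2 : Fin 3 → F) = ev 2 :=
    emb_mem (e2 (N := 3) 0 (by omega)) x 2 (by rw [range_e2]; simp)
  have h3 : act (lo x) (ev 1 : Fin 3 → F) = ev 1 := by
    have h := congrArg (fun g => act g (ev 2 : Fin 3 → F)) (Subgroup.mem_center_iff.1 hx s)
    simp only [act_mul, h2, hs] at h
    rw [show -(ev 1 : Fin 3 → F) = (-1 : F) • ev 1 by simp, act_smul] at h
    simpa using h.symm
  refine eq_one_of_GI_singleton hF (i := 0) fun k hk => ?_
  obtain rfl : k = 1 := by fin_cases k <;> simp_all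
  funext j
  rw [← act_emb_ev (e2 (N := 3) 0 (by omega)) x 1 j]
  have h4 := congrFun h3 (e2 (N := 3) 0 (by omega) j)
  refine h4.trans ?_
  fin_cases j <;> first | rfl | simp [ev, e2, Function.Embedding.coeFn_mk, Pi.single_apply, Fin.ext_iff] | exact (Pi.single_eq_same _ _).trans rfl

theorem hi_central (hF : Fintype.card F = q ^ 2) {x : ↥(SU 2 F q)}
    (hx : hi x ∈ Subgroup.center ↥(SU 3 F q)) : x = 1 := by
  have h1 : nm q (0 : F) + nm q (1 : F) = 1 := by rw [nm_zero hF, nm_one, zero_add]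
  set s := lo (su2 hF 0 1 h1)
  have hs : act s (ev 0) = (ev 1 : Fin 3 → F) := by
    rw [act_lo]; funext k; fin_cases k <;> simp [ev]
  have h2 : act (hi x) (ev 0 : Fin 3 → F) = ev 0 :=
    emb_mem (e2 (N := 3) 1 (by omega)) x 0 (by rw [range_e2]; simp)
  have h3 : act (hi x) (ev 1 : Fin 3 → F) = ev 1 := by
    have h := congrArg (fun g => act g (ev 0 : Fin 3 → F)) (Subgroup.mem_center_iff.1 hx s)
    simp only [act_mul, h2, hs] at h
    exact h.symm
  refine eq_one_of_GI_singleton hF (i := 1) fun k hk => ?_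
  obtain rfl : k = 0 := by fin_cases k <;> simp_all
  funext j
  rw [← act_emb_ev (e2 (N := 3) 1 (by omega)) x 0 j]
  have h4 := congrFun h3 (e2 (N := 3) 1 (by omega) j)
  refine h4.trans ?_
  fin_cases j <;> first | rfl | simp [ev, e2, Function.Embedding.coeFn_mk, Pi.single_apply, Fin.ext_iff] | exact (Pi.single_eq_same _ _).trans rfl

variable {G : Type*} [Group G]

/-- A standard pair, as a homomorphism. -/
structure Std (φ : ↥(SU 3 F q) →* G) (A B : Subgroup G) : Prop where
  ker_le : φ.ker ≤ Subgroup.center ↥(SU 3 F q)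
  rangeA : (φ.comp lo).range = A
  rangeB : (φ.comp hi).range = B

theorem exists_std (hF : Fintype.card F = q ^ 2) {V A B : Subgroup G} (h : IsStandardUnitaryPair V A B F q) :
    ∃ φ : ↥(SU 3 F q) →* G, Std φ A B ∧ φ.range = V := by
  have key : ∀ ψ : ↥(SU 3 F q) →* ↥V, Function.Surjective ψ → ψ.ker ≤ Subgroup.center _ →
      (suBlock 3 F q {0, 1}).map (V.subtype.comp ψ) = A → (suBlock 3 F q {1, 2}).map (V.subtype.comp ψ) = B →
      ∃ φ : ↥(SU 3 F q) →* G, Std φ A B ∧ φ.range = V := fun ψ hs hk hA hB =>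
    ⟨V.subtype.comp ψ, ⟨fun x hx => hk (Subtype.ext (MonoidHom.mem_ker.1 hx)),
      by rw [MonoidHom.range_comp, range_lo hF, hA], by rw [MonoidHom.range_comp, range_hi hF, hB]⟩,
      by rw [MonoidHom.range_comp, MonoidHom.range_eq_top.2 hs, ← MonoidHom.range_eq_map, Subgroup.range_subtype]⟩
  rcases h with ⟨ψ, hA, hB⟩ | ⟨ψ, hA, hB⟩
  · exact key ψ.toMonoidHom ψ.surjective (fun x hx => by
      rw [(map_eq_one_iff ψ.toMonoidHom ψ.injective).1 hx]; exact one_mem _) hA hB
  · refine key (ψ.toMonoidHom.comp (QuotientGroup.mk' _)) (ψ.surjective.comp (QuotientGroup.mk'_surjective _))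
      (fun x hx => (QuotientGroup.eq_one_iff x).1 ?_) hA hB
    exact (map_eq_one_iff ψ.toMonoidHom ψ.injective).1 hx

variable {φ φ' : ↥(SU 3 F q) →* G} {A B C : Subgroup G}

theorem Std.inj_lo (hF : Fintype.card F = q ^ 2) (hS : Std φ A B) : Function.Injective (φ.comp lo) :=
  (injective_iff_map_eq_one _).2 fun _ hx => lo_central hF (hS.ker_le hx)

theorem Std.inj_hi (hF : Fintype.card F = q ^ 2) (hS : Std φ A B) : Function.Injective (φ.comp hi) :=
  (injective_iff_map_eq_one _).2 fun _ hx => hi_central hF (hS.ker_le hx)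

/-- The range is generated by the two blocks. -/
theorem Std.range_eq (hF : Fintype.card F = q ^ 2) (hq : 4 ≤ q) (hS : Std φ A B) : φ.range = A ⊔ B := by
  rw [← hS.rangeA, ← hS.rangeB, MonoidHom.range_comp, MonoidHom.range_comp, ← Subgroup.map_sup,
    MonoidHom.range_eq_map]
  congr 1
  refine (eq_top_iff.2 fun g _ => ?_).symm
  rw [range_emb _ hF, range_emb _ hF, range_e2, range_e2]
  exact gen_three hF hq (a := 0) le_rfl (fun k hk => absurd ⟨Nat.zero_le _, k.2⟩ hk)

/-- Only diagonal elements of the first block normalise the second. -/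
theorem Std.diag_of_normalises (hF : Fintype.card F = q ^ 2) (hq : 4 ≤ q) (hS : Std φ A B) {g : ↥(SU 2 F q)}
    (h : ∀ c ∈ B, φ (lo g) * c * (φ (lo g))⁻¹ ∈ B) : IsDiag g := by
  refine IsDiag.of_inv ?_
  have h1 : nm q (0 : F) + nm q (1 : F) = 1 := by rw [nm_zero hF, nm_one, zero_add]
  set x := su2 hF 0 1 h1
  obtain ⟨x', hx'⟩ : φ (lo g) * φ (hi x) * (φ (lo g))⁻¹ ∈ (φ.comp hi).range := by
    rw [hS.rangeB]; exact h _ (hS.rangeB ▸ ⟨x, rfl⟩)
  set z := (hi x')⁻¹ * (lo g * hi x * (lo g)⁻¹) with hz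
  have hzc : z ∈ Subgroup.center _ := hS.ker_le (MonoidHom.mem_ker.2 (by
    rw [hz, map_mul, map_inv, map_mul, map_mul, map_inv, ← hx', MonoidHom.comp_apply, inv_mul_cancel]))
  obtain ⟨c, hc⟩ := center_act hF hq hzc
  set p := act (lo g)⁻¹ (ev 0 : Fin 3 → F) with hp
  have hconj : act (lo g) (act (hi x) p) = c • ev 0 := by
    rw [hp, ← act_mul, ← act_mul, show lo g * hi x * (lo g)⁻¹ = hi x' * z by rw [hz]; group,
      act_mul, hc, act_smul, emb_mem (e2 (N := 3) 1 (by omega)) x' 0 (by rw [range_e2]; simp)]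
  have hfix : act (hi x) p = c • p := by
    rw [← act_inv_eq hconj, act_smul, hp]
  have hp2 : p 2 = 0 := by
    rw [hp, ← map_inv, act_emb_out (e2 (N := 3) 0 (by omega)) _ _ (by rw [range_e2]; simp)]
    simp [ev]
  have hp1 : p 1 = 0 := by
    have h2 := congrFun hfix 2
    rw [act_hi hF] at h2
    simpa [hp2, zero_pow (q_ne_zero hF)] using h2
  show mat g⁻¹ 1 0 = 0
  rw [← hp1, hp, ← map_inv]
  have := act_emb_ev (e2 (N := 3) 0 (by omega)) g⁻¹ 0 1
  refine Eq.trans ?_ this.symm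
  simp [act, ev]

/-- Consecutive standard pairs induce automorphisms preserving the diagonal subgroup. -/
theorem exists_next (hF : Fintype.card F = q ^ 2) (hq : 4 ≤ q) (hS : Std φ A B) (hS' : Std φ' B C)
    (hc : ∀ x ∈ A, ∀ y ∈ C, x * y = y * x) :
    ∃ φ'' : ↥(SU 3 F q) →* G, Std φ'' B C ∧ φ''.comp lo = φ.comp hi := by
  let θ : ↥(SU 2 F q) ≃* ↥(SU 2 F q) :=
    ((MonoidHom.ofInjective (hS.inj_hi hF)).trans
      (MulEquiv.subgroupCongr (hS.rangeB.trans hS'.rangeA.symm))).trans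
      (MonoidHom.ofInjective (hS'.inj_lo hF)).symm
  have hθ : ∀ g, φ' (lo (θ g)) = φ (hi g) := fun g => by
    have h := (MonoidHom.ofInjective (hS'.inj_lo hF)).apply_symm_apply
      (MulEquiv.subgroupCongr (hS.rangeB.trans hS'.rangeA.symm) (MonoidHom.ofInjective (hS.inj_hi hF) g))
    exact congrArg Subtype.val h
  have hback : ∀ g, IsDiag (θ g) → IsDiag g := by
    intro g hg
    obtain ⟨a, ha, hane⟩ := exists_phase hF hq
    have ha0 : nm q a + nm q (0 : F) = 1 := by rw [ha, nm_zero hF, add_zero]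
    obtain ⟨x', e00, e10, hconj, -⟩ := diag_conj hF (d := su2 hF a 0 ha0) rfl g
    set w := φ (lo (su2 hF a 0 ha0))
    have hwA : w ∈ A := hS.rangeA ▸ ⟨_, rfl⟩
    have hr : φ' (lo (θ x')) = w * φ' (lo (θ g)) * w⁻¹ := by
      rw [hθ, hθ, ← hconj, map_mul, map_mul, map_inv]
    have hd' : IsDiag (θ x') := by
      refine hS'.diag_of_normalises hF hq fun c hcC => ?_
      obtain ⟨y, rfl⟩ := hS'.rangeB.symm ▸ hcC
      obtain ⟨y', -, -, hy, -⟩ := diag_conj hF hg y
      have h1 : w⁻¹ * φ' (hi y) * w = φ' (hi y) := by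
        rw [mul_assoc, ← hc w hwA (φ' (hi y)) hcC, inv_mul_cancel_left]
      have hy'C : φ' (hi y') ∈ C := hS'.rangeB ▸ ⟨y', rfl⟩
      rw [MonoidHom.comp_apply, hr,
        show w * φ' (lo (θ g)) * w⁻¹ * φ' (hi y) * (w * φ' (lo (θ g)) * w⁻¹)⁻¹ =
          w * (φ' (lo (θ g)) * (w⁻¹ * φ' (hi y) * w) * (φ' (lo (θ g)))⁻¹) * w⁻¹ by group,
        h1, ← map_inv, ← map_mul, ← map_mul, hy, hc w hwA _ hy'C, mul_inv_cancel_right]
      exact hy'C
    have hcomm : x' * g = g * x' := θ.injective (by rw [map_mul, map_mul]; exact (hd'.commute hF hg).eq)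
    have h00 : (mat x' * mat g) 0 0 = (mat g * mat x') 0 0 := congrArg (fun k => mat k 0 0) hcomm
    rw [mat_eq hF x', mat_eq hF g, e00, e10, show mat (su2 hF a 0 ha0) 0 0 = a from rfl] at h00
    simp [Matrix.mul_apply, Fin.sum_univ_two, mul_pow] at h00
    show mat g 1 0 = 0
    by_contra hb
    refine hane (mul_right_cancel₀ (mul_ne_zero (pow_ne_zero q hb) hb) ?_)
    linear_combination h00
  have hdiag : ∀ g, IsDiag g → IsDiag (θ g) := by
    let f : {g : ↥(SU 2 F q) // IsDiag g} → {g : ↥(SU 2 F q) // IsDiag g} := fun s =>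
      ⟨θ.symm s.1, hback _ (by rw [MulEquiv.apply_symm_apply]; exact s.2)⟩
    have hf : Function.Injective f := fun s t e => Subtype.ext (θ.symm.injective (congrArg Subtype.val e))
    intro g hg
    obtain ⟨s, hs⟩ := (Finite.injective_iff_surjective.1 hf) ⟨g, hg⟩
    have : θ.symm s.1 = g := congrArg Subtype.val hs
    rw [← this, MulEquiv.apply_symm_apply]
    exact s.2
  obtain ⟨E, hE, hEhi⟩ := exists_extension hF hq θ hdiag
  refine ⟨φ'.comp E.toMonoidHom, ⟨fun x hx => ?_, ?_, ?_⟩, MonoidHom.ext fun g => ?_⟩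
  · have h := hS'.ker_le (x := E x) hx
    rw [Subgroup.mem_center_iff] at h ⊢
    intro y
    refine E.injective ?_
    rw [map_mul, map_mul]
    exact h _
  · rw [← hS.rangeB]
    congr 1
    refine MonoidHom.ext fun g => ?_
    show φ' (E (lo g)) = φ (hi g)
    rw [hE, hθ]
  · rw [MonoidHom.comp_assoc, MonoidHom.range_comp, MonoidHom.range_comp, hEhi, ← hS'.rangeB,
      MonoidHom.range_comp]
  · show φ' (E (lo g)) = φ (hi g)
    rw [hE, hθ]

end Cfsg.Agent.H78.Phan
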