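import Cfsg.Agent.H78.Phan.Chain

/-!
# Subgroups of `SU 3` isomorphic to `SU 2` with a torus
-/

set_option autoImplicit false

namespace Cfsg.Agent.H78.Phan

open Matrix Cfsg

variable {F : Type*} [Field F] [Fintype F] {q : ℕ}

/-- The stabiliser of a vector. -/
def Fix {N : ℕ} (v : Fin N → F) : Subgroup ↥(SU N F q) where
  carrier := {g | act g v = v}
  one_mem' := act_one v
  mul_mem' := fun {g h} hg hh => by
    show act (g * h) v = v
    rw [act_mul, hh, hg]
  inv_mem' := fun {g} hg => act_inv_eq hg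

theorem mem_Fix {N : ℕ} {v : Fin N → F} {g : ↥(SU N F q)} : g ∈ Fix v ↔ act g v = v := Iff.rfl

theorem Fix_smul {N : ℕ} {v : Fin N → F} {t : F} (ht : t ≠ 0) :
    (Fix (t • v) : Subgroup ↥(SU N F q)) = Fix v := by
  ext g
  simp only [mem_Fix, act_smul]
  exact (smul_right_injective (Fin N → F) ht).eq_iff

theorem GI_eq_Fix0 : (GI {1, 2} : Subgroup ↥(SU 3 F q)) = Fix (ev 0) := by
  ext g
  constructor
  · intro h; exact h 0 (by simp)
  · intro h k hk
    obtain rfl : k = 0 := by fin_cases k <;> simp_all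
    exact h

theorem GI_eq_Fix2 : (GI {0, 1} : Subgroup ↥(SU 3 F q)) = Fix (ev 2) := by
  ext g
  constructor
  · intro h; exact h 2 (by simp)
  · intro h k hk
    obtain rfl : k = 2 := by fin_cases k <;> simp_all
    exact h

theorem mem_Fix_conj {N : ℕ} (u x : ↥(SU N F q)) (v : Fin N → F) :
    u⁻¹ * x * u ∈ Fix v ↔ x ∈ Fix (act u v) := by
  rw [mem_Fix, mem_Fix, act_mul, act_mul]
  constructor
  · intro h
    calc act x (act u v) = act u (act u⁻¹ (act x (act u v))) := (act_act_inv u _).symm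
      _ = _ := by rw [h]
  · intro h; rw [h]; exact act_inv_eq rfl

/-- The element of order `q + 1` is not killed by a power of the characteristic. -/
theorem not_unip (hF : Fintype.card F = q ^ 2) {p : ℕ} (hp : p.Prime) [CharP F p] {H : Type*} [Group H] {g : H}
    (hg : orderOf g = q + 1) : g ^ (p ^ 2) ≠ 1 := by
  intro h
  have hd := orderOf_dvd_of_pow_eq_one h
  rw [hg] at hd
  obtain ⟨e, hp', he⟩ := FiniteField.card F p
  have hpq : p ∣ q := hp.dvd_of_dvd_pow (n := 2) (by rw [← hF, he]; exact dvd_pow_self p e.ne_zero)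
  have hq := H3.two_le_q hF
  obtain ⟨i, -, hi⟩ := (Nat.dvd_prime_pow hp).1 hd
  have hi0 : i ≠ 0 := fun e0 => by rw [e0, pow_zero] at hi; omega
  have h1 : p ∣ q + 1 := hi ▸ dvd_pow_self p hi0
  exact hp.one_lt.ne' (Nat.dvd_one.1 ((Nat.dvd_add_right hpq).1 h1))

theorem pow_of_upper {p : ℕ} (hp : p.Prime) [CharP F p] {g : ↥(SU 3 F q)} (P : GL (Fin 3) F)
    (hN : (((P⁻¹ : GL (Fin 3) F) : Matrix (Fin 3) (Fin 3) F) * mat g * (P : Matrix (Fin 3) (Fin 3) F) - 1) ^ 3 = 0) :
    g ^ (p ^ 2) = 1 := by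
  haveI : Fact p.Prime := ⟨hp⟩
  set M := ((P⁻¹ : GL (Fin 3) F) : Matrix (Fin 3) (Fin 3) F) * mat g * (P : Matrix (Fin 3) (Fin 3) F) with hM
  have h1 : (M - 1) ^ (p ^ 2) = 0 := pow_eq_zero_of_le (le_trans (by omega) (Nat.pow_le_pow_left hp.two_le 2)) hN
  rw [sub_pow_char_pow_of_commute _ _ (Commute.one_right M), one_pow, sub_eq_zero, hM, Units.conj_pow'] at h1
  refine Subtype.ext (Subtype.ext ?_)
  have h2 := congrArg (fun X => (P : Matrix (Fin 3) (Fin 3) F) * X * ((P⁻¹ : GL (Fin 3) F) : Matrix (Fin 3) (Fin 3) F)) h1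
  simp only [← mul_assoc, ← Units.val_mul, mul_inv_cancel, Units.val_one, one_mul] at h2
  rw [mul_one, mul_assoc, ← Units.val_mul, mul_inv_cancel, Units.val_one, mul_one] at h2
  show mat (g ^ (p ^ 2)) = 1
  rw [← h2]
  simp [mat]

theorem conj_facts {g : ↥(SU 3 F q)} (P : GL (Fin 3) F) :
    let M := ((P⁻¹ : GL (Fin 3) F) : Matrix (Fin 3) (Fin 3) F) * mat g * (P : Matrix (Fin 3) (Fin 3) F)
    M.det = 1 ∧ (∀ j : Fin 3, act g (fun i => (P : Matrix (Fin 3) (Fin 3) F) i j) = (fun i => (P : Matrix (Fin 3) (Fin 3) F) i j) →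
      ∀ i, M i j = (1 : Matrix (Fin 3) (Fin 3) F) i j) ∧
      (P : Matrix (Fin 3) (Fin 3) F) * M = mat g * (P : Matrix (Fin 3) (Fin 3) F) := by
  intro M
  refine ⟨?_, fun j h i => ?_, ?_⟩
  · show (_ * _ * _ : Matrix (Fin 3) (Fin 3) F).det = 1
    rw [Matrix.det_units_conj']; exact g.1.2
  · have hcol : (mat g * (P : Matrix (Fin 3) (Fin 3) F)) *ᵥ Pi.single j 1 = (P : Matrix (Fin 3) (Fin 3) F) *ᵥ Pi.single j 1 := by
      rw [← Matrix.mulVec_mulVec, Matrix.mulVec_single_one]
      exact h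
    have := congrArg (fun w => ((P⁻¹ : GL (Fin 3) F) : Matrix (Fin 3) (Fin 3) F) *ᵥ w) hcol
    simp only [Matrix.mulVec_mulVec, ← Units.val_mul, inv_mul_cancel, Units.val_one] at this
    rw [← mul_assoc] at this
    have h2 : M *ᵥ Pi.single j 1 = (1 : Matrix (Fin 3) (Fin 3) F) *ᵥ Pi.single j 1 := this
    have h3 := congrFun h2 i
    rw [Matrix.mulVec_single_one, Matrix.mulVec_single_one] at h3
    exact h3
  · show _ * (_ * _ * _) = _
    rw [← mul_assoc, ← mul_assoc, ← Units.val_mul, mul_inv_cancel, Units.val_one, one_mul]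

/-- An element fixing two independent vectors is unipotent. -/
theorem pow_of_fix_two {p : ℕ} (hp : p.Prime) [CharP F p] {g : ↥(SU 3 F q)} {a b : Fin 3 → F} (ha : a ≠ 0)
    (hb : ∀ c : F, b ≠ c • a) (hga : act g a = a) (hgb : act g b = b) : g ^ (p ^ 2) = 1 := by
  obtain ⟨i, j, hm⟩ : ∃ i j, a i * b j - a j * b i ≠ 0 := by
    by_contra h
    push Not at h
    obtain ⟨k, hk⟩ := Function.ne_iff.1 ha
    have hk : a k ≠ 0 := hk
    refine hb (b k / a k) (funext fun l => ?_)
    rw [Pi.smul_apply, smul_eq_mul, div_mul_eq_mul_div, eq_div_iff hk]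
    linear_combination h k l
  obtain ⟨k, hki, hkj⟩ : ∃ k : Fin 3, k ≠ i ∧ k ≠ j := by
    obtain ⟨k, -, hk⟩ := Finset.exists_mem_notMem_of_card_lt_card (s := ({i, j} : Finset (Fin 3))) (t := Finset.univ)
      (lt_of_le_of_lt Finset.card_le_two (by simp))
    exact ⟨k, by simp_all, by simp_all⟩
  let Pm : Matrix (Fin 3) (Fin 3) F := Matrix.of fun r c => ![a, b, ev k] c r
  have hd : Pm.det ≠ 0 := by
    rw [Matrix.det_fin_three]
    have hij : i ≠ j := fun e => hm (by rw [e]; ring)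
    fin_cases i <;> fin_cases j <;> simp_all <;> fin_cases k <;> simp_all [Pm, ev] <;>
      intro h <;> apply hm <;> first | linear_combination h | linear_combination -h
  let P := Matrix.GeneralLinearGroup.mkOfDetNeZero Pm hd
  obtain ⟨hdet, hcol, -⟩ := conj_facts (g := g) P
  have c0 := hcol 0 hga
  have c1 := hcol 1 hgb
  refine pow_of_upper hp P ?_
  set M := ((P⁻¹ : GL (Fin 3) F) : Matrix (Fin 3) (Fin 3) F) * mat g * (P : Matrix (Fin 3) (Fin 3) F)
  rw [Matrix.det_fin_three, c0 0, c0 1, c0 2, c1 0, c1 1, c1 2] at hdet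
  simp at hdet
  ext r c
  fin_cases r <;> fin_cases c <;>
    simp [pow_succ, Matrix.mul_apply, Fin.sum_univ_three, c0, c1, hdet, Matrix.one_apply]

/-- An element fixing an isotropic vector is unipotent. -/
theorem pow_of_fix_iso (hF : Fintype.card F = q ^ 2) {p : ℕ} (hp : p.Prime) [CharP F p] {g : ↥(SU 3 F q)}
    {v : Fin 3 → F} (hv : v ≠ 0) (hn : hermForm 3 F q v v = 0) (hg : act g v = v) : g ^ (p ^ 2) = 1 := by
  obtain ⟨k, hk⟩ := Function.ne_iff.1 hv
  have hk : v k ≠ 0 := hk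
  obtain ⟨c, hc, hd⟩ : ∃ c : Fin 3 → F, hermForm 3 F q c v = 0 ∧
      (Matrix.of fun r i => ![v, c, (ev k : Fin 3 → F)] i r).det ≠ 0 := by
    have hn' : nm q (v 0) + nm q (v 1) + nm q (v 2) = 0 := by rw [← hn, herm_self, Fin.sum_univ_three]
    have hk' : nm q (v k) ≠ 0 := mt (nm_eq_zero hF).1 hk
    obtain rfl | rfl | rfl : k = 0 ∨ k = 1 ∨ k = 2 := by omega
    · refine ⟨![0, v 2 ^ q, -(v 1 ^ q)], ?_, fun h => hk' ?_⟩
      · simp [hermForm, Fin.sum_univ_three]; ring
      · simp [Matrix.det_fin_three, ev] at h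
        simp only [nm] at hn' ⊢
        first | linear_combination hn' + h | linear_combination hn' - h
    · refine ⟨![v 2 ^ q, 0, -(v 0 ^ q)], ?_, fun h => hk' ?_⟩
      · simp [hermForm, Fin.sum_univ_three]; ring
      · simp [Matrix.det_fin_three, ev] at h
        simp only [nm] at hn' ⊢
        first | linear_combination hn' + h | linear_combination hn' - h
    · refine ⟨![v 1 ^ q, -(v 0 ^ q), 0], ?_, fun h => hk' ?_⟩
      · simp [hermForm, Fin.sum_univ_three]; ring
      · simp [Matrix.det_fin_three, ev] at h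
        simp only [nm] at hn' ⊢
        first | linear_combination hn' + h | linear_combination hn' - h
  let P := Matrix.GeneralLinearGroup.mkOfDetNeZero _ hd
  obtain ⟨hdet, hcol, hPM⟩ := conj_facts (g := g) P
  have c0 := hcol 0 hg
  refine pow_of_upper hp P ?_
  set M := ((P⁻¹ : GL (Fin 3) F) : Matrix (Fin 3) (Fin 3) F) * mat g * (P : Matrix (Fin 3) (Fin 3) F)
  have hcolv : ∀ y : Fin 3 → F, (P : Matrix (Fin 3) (Fin 3) F) *ᵥ y = y 0 • v + y 1 • c + y 2 • (ev k : Fin 3 → F) := by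
    intro y
    show (Matrix.of fun r i => ![v, c, (ev k : Fin 3 → F)] i r) *ᵥ y = _
    funext r
    simp [Matrix.mulVec, dotProduct, Fin.sum_univ_three]
    ring
  have hphi : ∀ y : Fin 3 → F, hermForm 3 F q ((P : Matrix (Fin 3) (Fin 3) F) *ᵥ y) v = y 2 * v k ^ q := by
    intro y
    rw [hcolv, H3.hermForm_add_left hF, H3.hermForm_add_left hF, H3.hermForm_smul_left hF,
      H3.hermForm_smul_left hF, H3.hermForm_smul_left hF, hn, hc, mul_zero, mul_zero, zero_add, zero_add]
    congr 1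
    rw [show (ev k : Fin 3 → F) = Pi.single k 1 from rfl, H3.hermForm_single_left, one_mul]
  have r2 : ∀ j, M 2 j = (1 : Matrix (Fin 3) (Fin 3) F) 2 j := by
    intro j
    refine mul_right_cancel₀ (pow_ne_zero q hk) ?_
    have e : hermForm 3 F q ((P : Matrix (Fin 3) (Fin 3) F) *ᵥ (M *ᵥ Pi.single j 1)) v =
        hermForm 3 F q ((P : Matrix (Fin 3) (Fin 3) F) *ᵥ Pi.single j 1) v := by
      rw [Matrix.mulVec_mulVec, hPM, ← Matrix.mulVec_mulVec]
      conv_lhs => rw [← hg]
      exact herm_act g _ v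
    rw [hphi, hphi] at e
    simpa [Matrix.one_apply, Pi.single_apply] using e
  rw [Matrix.det_fin_three, c0 0, c0 1, c0 2, r2 1, r2 2] at hdet
  simp at hdet
  ext r i
  fin_cases r <;> fin_cases i <;>
    simp [pow_succ, Matrix.mul_apply, Fin.sum_univ_three, c0, r2, hdet, Matrix.one_apply]

/-- Orthogonal isotropic vectors are proportional. -/
theorem iso_par (hF : Fintype.card F = q ^ 2) {a b : Fin 3 → F} (ha : a ≠ 0)
    (haa : hermForm 3 F q a a = 0) (hbb : hermForm 3 F q b b = 0) (hab : hermForm 3 F q a b = 0) :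
    ∃ c : F, b = c • a := by
  obtain ⟨k, hk⟩ := Function.ne_iff.1 ha
  have hk : a k ≠ 0 := hk
  refine ⟨b k / a k, ?_⟩
  set b' := b - (b k / a k) • a with hb'
  suffices b' = 0 from sub_eq_zero.1 this
  have h0 : b' k = 0 := by simp [hb', div_mul_cancel₀ _ hk]
  have hab' : hermForm 3 F q a b' = 0 := by
    rw [hb', H3.hermForm_sub_right hF, H3.hermForm_smul_right hF, hab, haa, mul_zero, sub_zero]
  have hbb' : hermForm 3 F q b' b' = 0 := by
    have hba : hermForm 3 F q b a = 0 := (H3.hermForm_eq_zero_comm hF).1 hab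
    rw [hb', H3.hermForm_sub_left hF, H3.hermForm_sub_right hF, H3.hermForm_sub_right hF,
      H3.hermForm_smul_left hF, H3.hermForm_smul_left hF, H3.hermForm_smul_right hF,
      H3.hermForm_smul_right hF, hbb, hab, hba, haa]
    ring
  have hk' : nm q (a k) ≠ 0 := mt (nm_eq_zero hF).1 hk
  clear_value b'
  rw [herm_self, Fin.sum_univ_three] at hbb' haa
  rw [hermForm, Fin.sum_univ_three] at hab'
  have z : ∀ (i j : Fin 3), a i * b' i ^ q + a j * b' j ^ q = 0 → nm q (b' i) + nm q (b' j) = 0 →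
      nm q (a i) + nm q (a j) = -nm q (a k) → b' i = 0 ∧ b' j = 0 := by
    intro i j e1 e2 e3
    have e1' : nm q (a i * b' i ^ q) = nm q (a j * b' j ^ q) := by
      rw [show a i * b' i ^ q = -(a j * b' j ^ q) from eq_neg_of_add_eq_zero_left e1, nm_neg hF]
    rw [nm_mul, nm_mul, nm_conj hF, nm_conj hF] at e1'
    have hb0 : nm q (b' i) * nm q (a k) = 0 := by
      linear_combination (nm q (b' i)) * e3 - e1' - nm q (a j) * e2
    have hi0 : nm q (b' i) = 0 := (mul_eq_zero.1 hb0).resolve_right hk'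
    exact ⟨(nm_eq_zero hF).1 hi0, (nm_eq_zero hF).1 (by linear_combination e2 - hi0)⟩
  have hz : nm q (0 : F) = 0 := nm_zero hF
  obtain rfl | rfl | rfl : k = 0 ∨ k = 1 ∨ k = 2 := by omega
  · simp only [h0, zero_pow (q_ne_zero hF), mul_zero, hz, add_zero, zero_add] at hab' hbb'
    obtain ⟨u1, u2⟩ := z 1 2 hab' hbb' (by linear_combination haa)
    funext l
    obtain rfl | rfl | rfl : l = 0 ∨ l = 1 ∨ l = 2 := by omega
    all_goals first | exact h0 | exact u1 | exact u2
  · simp only [h0, zero_pow (q_ne_zero hF), mul_zero, hz, add_zero, zero_add] at hab' hbb'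
    obtain ⟨u1, u2⟩ := z 0 2 hab' hbb' (by linear_combination haa)
    funext l
    obtain rfl | rfl | rfl : l = 0 ∨ l = 1 ∨ l = 2 := by omega
    all_goals first | exact h0 | exact u1 | exact u2
  · simp only [h0, zero_pow (q_ne_zero hF), mul_zero, hz, add_zero, zero_add] at hab' hbb'
    obtain ⟨u1, u2⟩ := z 0 1 hab' hbb' (by linear_combination haa)
    funext l
    obtain rfl | rfl | rfl : l = 0 ∨ l = 1 ∨ l = 2 := by omega
    all_goals first | exact h0 | exact u1 | exact u2

theorem eq_zero_of_herm (hF : Fintype.card F = q ^ 2) {N : ℕ} {v : Fin N → F}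
    (h : ∀ s, hermForm N F q v s = 0) : v = 0 :=
  funext fun k => by rw [← herm_ev hF v k, h]; rfl

/-- Commuting involutions in characteristic two share a centre. -/
theorem exists_axis (hF : Fintype.card F = q ^ 2) (h2 : (2 : F) = 0) {L : Subgroup ↥(SU 3 F q)} (hL : L ≠ ⊥)
    (hinv : ∀ y ∈ L, y * y = 1) (hcomm : ∀ x ∈ L, ∀ y ∈ L, x * y = y * x) :
    ∃ a : Fin 3 → F, a ≠ 0 ∧ ∀ y ∈ L, ∀ w, hermForm 3 F q w a = 0 → act y w = w := by
  haveI : CharP F 2 := CharTwo.of_one_ne_zero_of_two_eq_zero one_ne_zero h2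
  have two : ∀ r : Fin 3 → F, r + r = 0 := fun r => funext fun k => CharTwo.add_self_eq_zero _
  have hrange : ∀ y ∈ L, ∀ t, act y (act y t - t) = act y t - t := fun y hy t => by
    rw [sub_eq_add_neg, ← neg_one_smul F t, act_add, act_smul, ← act_mul, hinv y hy, act_one]
    funext k
    simp [CharTwo.neg_eq, add_comm]
  have hperp : ∀ (y : ↥(SU 3 F q)) (t w : Fin 3 → F), act y w = w → hermForm 3 F q (act y t - t) w = 0 :=
    fun y t w hw => by
      rw [H3.hermForm_sub_left hF]
      conv_lhs => arg 1; rw [← hw, herm_act]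
      exact sub_self _
  obtain ⟨x, hx, hx1⟩ := L.bot_or_exists_ne_one.resolve_left hL
  obtain ⟨t0, ht0⟩ : ∃ t, act x t - t ≠ 0 := by
    by_contra h
    push Not at h
    exact hx1 (ext_act fun t => by rw [act_one]; exact sub_eq_zero.1 (h t))
  set a := act x t0 - t0 with ha
  have haa : hermForm 3 F q a a = 0 := hperp x t0 a (hrange x hx t0)
  have hpar : ∀ s, ∃ c : F, act x s - s = c • a := fun s =>
    iso_par hF ht0 haa (hperp x s _ (hrange x hx s)) ((hperp x t0 _ (hrange x hx s)))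
  have hfixa : ∀ y ∈ L, act y a = a := fun y hy => by
    obtain ⟨c, hc⟩ := hpar (act y t0)
    have e : act y a = c • a := by
      rw [← hc, ha, sub_eq_add_neg, ← neg_one_smul F t0, act_add, act_smul, ← act_mul, ← hcomm x hx y hy, act_mul,
        neg_one_smul, ← sub_eq_add_neg]
    have h1 := congrArg (act y) e
    rw [← act_mul, hinv y hy, act_one, act_smul, e, smul_smul] at h1
    obtain ⟨k, hk⟩ := Function.ne_iff.1 ht0
    have hc1 : c * c = 1 := mul_right_cancel₀ (b := a k) hk (by rw [one_mul]; exact (congrFun h1 k).symm)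
    have hc2 : c = 1 := by
      rcases mul_self_eq_one_iff.1 hc1 with h | h
      · exact h
      · rw [h, CharTwo.neg_eq]
    rw [e, hc2, one_smul]
  refine ⟨a, ht0, fun y hy w hw => sub_eq_zero.1 (eq_zero_of_herm hF fun s => ?_)⟩
  obtain ⟨s, rfl⟩ : ∃ s', act y s' = s := ⟨act y⁻¹ s, act_act_inv y s⟩
  have hr : ∀ t, ∃ c : F, act y t - t = c • a := fun t => by
    have h1 : hermForm 3 F q a (act y t - t) = 0 := (H3.hermForm_eq_zero_comm hF).1 (hperp y t a (hfixa y hy))
    exact iso_par hF ht0 haa (hperp y t _ (hrange y hy t)) h1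
  obtain ⟨c, hc⟩ := hr s
  rw [H3.hermForm_sub_left hF, herm_act]
  rw [show act y s = s + c • a by rw [← hc]; abel, H3.hermForm_add_right hF, H3.hermForm_smul_right hF, hw,
    mul_zero, add_zero, sub_self]

/-- `SU 2` is generated by two elementary abelian subgroups in characteristic two. -/
theorem exists_two_gen (hF : Fintype.card F = q ^ 2) :
    ∃ (K : Subfield F) (Ψ : Matrix.SpecialLinearGroup (Fin 2) ↥K ≃* ↥(SU 2 F q)), Nat.card ↥K = q ∧ Ψ 1 = 1 := by
  set K := RingHom.eqLocusField (H3.conjQ hF) (RingHom.id F) with hK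
  haveI : Fintype K := Fintype.ofFinite K
  have hKc : Nat.card K = q :=
    (Nat.card_congr (Equiv.subtypeEquivRight fun x => Iff.rfl)).trans (H3.card_fixed hF)
  obtain ⟨e⟩ := H3.su_two_equiv hF (K := ↥K) (by rw [← Nat.card_eq_fintype_card, hKc])
  exact ⟨K, e.symm, hKc, map_one _⟩

theorem commutator_su2 (hF : Fintype.card F = q ^ 2) (hq : 4 ≤ q) : commutator ↥(SU 2 F q) = ⊤ := by
  classical
  obtain ⟨K, Ψ, hKc, -⟩ := exists_two_gen hF
  haveI : Fintype K := Fintype.ofFinite K
  obtain ⟨a, -, ha⟩ : ∃ a ∈ (Finset.univ : Finset ↥K), a ∉ ({0, 1, -1} : Finset ↥K) :=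
    Finset.exists_mem_notMem_of_card_lt_card (by
      rw [Finset.card_univ, ← Nat.card_eq_fintype_card, hKc]; exact lt_of_le_of_lt Finset.card_le_three (by omega))
  simp only [Finset.mem_insert, Finset.mem_singleton, not_or] at ha
  have h := Matrix.SL2.commutator_eq_top ha.1
    (fun e => by rcases sq_eq_one_iff.1 e with e | e <;> [exact ha.2.1 e; exact ha.2.2 e])
  rw [commutator_def] at h ⊢
  have h2 := congrArg (Subgroup.map Ψ.toMonoidHom) h
  rwa [Subgroup.map_commutator, Subgroup.map_top_of_surjective Ψ.toMonoidHom Ψ.surjective] at h2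

/-- A copy of `SU 2` containing a torus element fixes a vector. -/
theorem exists_fixed (hF : Fintype.card F = q ^ 2) (hq : 4 ≤ q) {p : ℕ} (hp : p.Prime) [CharP F p]
    (ε : ↥(SU 2 F q) →* ↥(SU 3 F q)) (hε : Function.Injective ε) :
    ∃ v : Fin 3 → F, v ≠ 0 ∧ ε.range ≤ Fix v := by
  classical
  by_cases h2 : (2 : F) = 0
  · obtain ⟨K, Ψ, -, -⟩ := exists_two_gen hF
    have h2K : ∀ c : ↥K, c + c = 0 := fun c => Subtype.ext (by
      show (c : F) + c = 0; linear_combination (c : F) * h2)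
    have key : ∀ (i j : Fin 2) (hij : i ≠ j), ∃ a : Fin 3 → F, a ≠ 0 ∧ ∀ c : ↥K, ∀ w,
        hermForm 3 F q w a = 0 → act (ε (Ψ (SpecialLinearGroup.transvection hij c))) w = w := by
      intro i j hij
      let τ : Multiplicative ↥K →* ↥(SU 3 F q) :=
        (ε.comp Ψ.toMonoidHom).comp (MonoidHom.mk' (fun c => SpecialLinearGroup.transvection hij c.toAdd)
          fun x y => SpecialLinearGroup.transvection_add hij x.toAdd y.toAdd)
      obtain ⟨a, ha, h⟩ := exists_axis hF h2 (L := τ.range) (by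
          intro hb
          have h1 : τ (Multiplicative.ofAdd 1) ∈ (⊥ : Subgroup _) := hb ▸ ⟨_, rfl⟩
          rw [Subgroup.mem_bot] at h1
          have h3 : SpecialLinearGroup.transvection hij (1 : ↥K) = 1 :=
            Ψ.injective (hε (h1.trans (by simp)))
          have h4 := congrArg (fun M : Matrix.SpecialLinearGroup (Fin 2) ↥K => (M : Matrix (Fin 2) (Fin 2) ↥K) i j) h3
          simp [SpecialLinearGroup.transvection_coe, hij] at h4)
        (by
          rintro _ ⟨c, rfl⟩
          rw [← map_mul, show c * c = 1 from h2K c.toAdd, map_one])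
        (by rintro _ ⟨c, rfl⟩ _ ⟨d, rfl⟩; rw [← map_mul, ← map_mul, mul_comm])
      exact ⟨a, ha, fun c w hw => h _ ⟨Multiplicative.ofAdd c, rfl⟩ w hw⟩
    obtain ⟨a, -, hA⟩ := key 0 1 (by decide)
    obtain ⟨b, -, hB⟩ := key 1 0 (by decide)
    let φ : (Fin 3 → F) →ₗ[F] (Fin 2 → F) :=
      { toFun := fun w => ![hermForm 3 F q w a, hermForm 3 F q w b]
        map_add' := fun x y => by rw [H3.hermForm_add_left hF, H3.hermForm_add_left hF]; simp
        map_smul' := fun c x => by rw [H3.hermForm_smul_left hF, H3.hermForm_smul_left hF]; simp }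
    obtain ⟨v, hv, hv0⟩ := Submodule.exists_mem_ne_zero_of_ne_bot
      (LinearMap.ker_ne_bot_of_finrank_lt (f := φ) (by simp))
    have hv' : ![hermForm 3 F q v a, hermForm 3 F q v b] = (0 : Fin 2 → F) := LinearMap.mem_ker.1 hv
    refine ⟨v, hv0, ?_⟩
    rintro _ ⟨g, rfl⟩
    obtain ⟨M, rfl⟩ := Ψ.surjective g
    refine Matrix.SL2.transvection_induction (fun M => ε (Ψ M) ∈ Fix v) (fun i j hij c => ?_)
      (fun A B hA hB => by
        show ε (Ψ (A * B)) ∈ Fix v
        rw [map_mul, map_mul]; exact mul_mem hA hB) M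
    fin_cases i
    · obtain rfl : j = 1 := by fin_cases j <;> tauto
      exact hA c v (congrFun hv' 0)
    · obtain rfl : j = 0 := by fin_cases j <;> tauto
      exact hB c v (congrFun hv' 1)
  · have hm1 : nm q (-1 : F) + nm q (0 : F) = 1 := by rw [nm_neg hF, nm_one, nm_zero hF, add_zero]
    set z := su2 hF (-1) 0 hm1 with hz
    have hq1 : (-1 : F) ^ q = -1 := by
      rw [show (-1 : F) ^ q = -(1 ^ q) from map_neg (H3.conjQ hF) (1 : F), one_pow]
    have hzact : ∀ v, act z v = -v := fun v => by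
      rw [hz, act_su2, zero_pow (q_ne_zero hF), hq1]
      funext i; fin_cases i <;> simp
    have hzc : ∀ g, z * g = g * z := fun g => ext_act fun v => by
      rw [act_mul, act_mul, hzact, hzact, ← neg_one_smul F v, act_smul, neg_one_smul]
    have hz1 : z ≠ 1 := fun e => h2 (by
      have h := congrFun (hzact (ev 0)) 0
      rw [e, act_one] at h
      simp [ev] at h
      linear_combination h)
    have hzz : z * z = 1 := ext_act fun v => by rw [act_mul, hzact, hzact, neg_neg, act_one]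
    set w := ε z
    have hww : w * w = 1 := by rw [← map_mul, hzz, map_one]
    have hline : ∀ a b : Fin 3 → F, a ≠ 0 → act w a = a → act w b = b → ∃ c : F, b = c • a := by
      intro a b ha h1 h2'
      by_contra hne
      push Not at hne
      have hpow := pow_of_fix_two hp ha hne h1 h2'
      obtain ⟨m, hm⟩ : Odd (p ^ 2) := (hp.odd_of_ne_two fun e => h2 (by
        subst e; exact_mod_cast CharP.cast_eq_zero F 2)).pow
      rw [hm, pow_succ, pow_mul, pow_two, hww, one_pow, one_mul] at hpow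
      exact hz1 (hε (hpow.trans (map_one ε).symm))
    obtain ⟨x0, hx0⟩ : ∃ x, x + act w x ≠ 0 := by
      by_contra h
      push Not at h
      have hm : mat w = -1 := Matrix.ext_of_mulVec_single fun i => by
        rw [Matrix.neg_mulVec, Matrix.one_mulVec]
        exact eq_neg_of_add_eq_zero_right (h _)
      have hd : (mat w).det = 1 := w.1.2
      rw [hm, Matrix.det_neg, Matrix.det_one] at hd
      simp at hd
      exact h2 (by linear_combination -hd)
    set v := x0 + act w x0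
    have hfix : act w v = v := by rw [act_add, ← act_mul, hww, act_one, add_comm]
    refine ⟨v, hx0, ?_⟩
    have hχ : ∀ g, ∃ c : F, act (ε g) v = c • v := fun g => hline v _ hx0 hfix (by
      rw [← act_mul, ← map_mul, hzc, map_mul, act_mul, hfix])
    choose χ hχ using hχ
    obtain ⟨k, hk⟩ := Function.ne_iff.1 hx0
    let χh : ↥(SU 2 F q) →* F :=
      { toFun := χ
        map_one' := by
          have h := congrFun (hχ 1) k
          rw [map_one, act_one] at h
          exact (mul_right_cancel₀ (b := v k) hk (by rw [one_mul]; exact h)).symm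
        map_mul' := fun g g' => by
          have h := congrFun (hχ (g * g')) k
          rw [map_mul, act_mul, hχ g', act_smul, hχ g, smul_smul, mul_comm] at h
          exact (mul_right_cancel₀ (b := v k) hk h).symm }
    rintro _ ⟨g, rfl⟩
    have hle : commutator ↥(SU 2 F q) ≤ χh.toHomUnits.ker := Abelianization.commutator_subset_ker _
    have h1 : χ g = 1 := congrArg Units.val (hle (commutator_su2 hF hq ▸ Subgroup.mem_top g))
    show act (ε g) v = v
    rw [hχ, h1, one_smul]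

/-- A copy of `SU 2` with a torus element is the stabiliser of a non-isotropic vector. -/
theorem exists_eq_Fix (hF : Fintype.card F = q ^ 2) (hq : 4 ≤ q) {p : ℕ} (hp : p.Prime) [CharP F p]
    (ε : ↥(SU 2 F q) →* ↥(SU 3 F q)) (hε : Function.Injective ε) {d : ↥(SU 3 F q)} (hd : d ∈ ε.range)
    (hod : orderOf d = q + 1) :
    ∃ v : Fin 3 → F, hermForm 3 F q v v ≠ 0 ∧ ε.range = Fix v := by
  obtain ⟨v, hv0, hle⟩ := exists_fixed hF hq hp ε hε
  have hn : hermForm 3 F q v v ≠ 0 := fun h => not_unip hF hp hod (pow_of_fix_iso hF hp hv0 h (hle hd))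
  refine ⟨v, hn, Subgroup.eq_of_le_of_card_ge hle ?_⟩
  obtain ⟨g, -, hg⟩ := exists_move_to hF hq (I := Set.univ) (a := (0 : Fin 3)) trivial (v := v)
    (fun k hk => absurd trivial hk) hn
  have hgv : act g v = act g v 0 • (ev 0 : Fin 3 → F) := funext fun k => by
    by_cases hk : k = 0
    · subst hk; simp [ev]
    · simp [ev, hk, hg k hk]
  have ht : act g v 0 ≠ 0 := fun e => hn (by
    rw [← herm_act g, hgv, e, zero_smul, H3.hermForm_zero_left hF])
  have hmap : (Fix v).map (MulAut.conj g).toMonoidHom ≤ (hi (F := F) (q := q)).range := by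
    rintro _ ⟨x, hx, rfl⟩
    rw [range_hi hF, suBlock_eq hF, GI_eq_Fix0, ← Fix_smul (v := ev 0) ht, ← hgv, ← mem_Fix_conj]
    show g⁻¹ * (g * x * g⁻¹) * g ∈ Fix v
    rw [show g⁻¹ * (g * x * g⁻¹) * g = x by group]
    exact hx
  have h1 := Subgroup.card_le_of_le hmap
  rwa [Subgroup.card_map_of_injective (f := (MulAut.conj g).toMonoidHom) (MulAut.conj g).injective,
    ← Nat.card_congr (MonoidHom.ofInjective (emb_injective (e2 (N := 3) 1 (by omega)))).toEquiv,
    Nat.card_congr (MonoidHom.ofInjective hε).toEquiv] at h1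

variable {G : Type*} [Group G]

/-- Two copies of `SU 2` with commuting tori generating `SU 3` form a standard pair. -/
theorem isStandard_of_tori (hF : Fintype.card F = q ^ 2) (hq : 4 ≤ q) {A B : Subgroup G}
    (eA : ↥(SU 2 F q) ≃* ↥A) (eB : ↥(SU 2 F q) ≃* ↥B) (ψ : ↥(A ⊔ B) ≃* ↥(SU 3 F q)) {a b : G} (ha : a ∈ A)
    (hb : b ∈ B) (hoa : orderOf a = q + 1) (hob : orderOf b = q + 1) (hab : a * b = b * a) :
    IsStandardUnitaryPair (A ⊔ B) A B F q := by
  obtain ⟨p, hp⟩ := CharP.exists F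
  haveI := hp
  have hpp : p.Prime := (CharP.char_is_prime_or_zero F p).resolve_right (CharP.char_ne_zero_of_finite F p)
  let εA : ↥(SU 2 F q) →* ↥(SU 3 F q) :=
    ψ.toMonoidHom.comp ((Subgroup.inclusion (le_sup_left (b := B))).comp eA.toMonoidHom)
  let εB : ↥(SU 2 F q) →* ↥(SU 3 F q) :=
    ψ.toMonoidHom.comp ((Subgroup.inclusion (le_sup_right (a := A))).comp eB.toMonoidHom)
  have iA : Function.Injective εA := fun x y h =>
    eA.injective (Subgroup.inclusion_injective (le_sup_left (b := B)) (ψ.injective h))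
  have iB : Function.Injective εB := fun x y h =>
    eB.injective (Subgroup.inclusion_injective (le_sup_right (a := A)) (ψ.injective h))
  set da := ψ ⟨a, Subgroup.mem_sup_left ha⟩ with hda
  set db := ψ ⟨b, Subgroup.mem_sup_right hb⟩ with hdb
  have mA : ∀ (x : G) (hx : x ∈ A), ψ ⟨x, Subgroup.mem_sup_left hx⟩ ∈ εA.range := fun x hx =>
    ⟨eA.symm ⟨x, hx⟩, by
      show ψ (Subgroup.inclusion (le_sup_left (b := B)) (eA (eA.symm ⟨x, hx⟩))) = _
      rw [eA.apply_symm_apply]; rfl⟩
  have mB : ∀ (x : G) (hx : x ∈ B), ψ ⟨x, Subgroup.mem_sup_right hx⟩ ∈ εB.range := fun x hx =>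
    ⟨eB.symm ⟨x, hx⟩, by
      show ψ (Subgroup.inclusion (le_sup_right (a := A)) (eB (eB.symm ⟨x, hx⟩))) = _
      rw [eB.apply_symm_apply]; rfl⟩
  have ha' : da ∈ εA.range := mA a ha
  have hb' : db ∈ εB.range := mB b hb
  have oA : orderOf da = q + 1 := by
    rw [hda, MulEquiv.orderOf_eq, ← orderOf_injective (A ⊔ B).subtype (Subgroup.subtype_injective _)]
    exact hoa
  have oB : orderOf db = q + 1 := by
    rw [hdb, MulEquiv.orderOf_eq, ← orderOf_injective (A ⊔ B).subtype (Subgroup.subtype_injective _)]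
    exact hob
  obtain ⟨v0, hn0, hr0⟩ := exists_eq_Fix hF hq hpp εA iA ha' oA
  obtain ⟨v1, hn1, hr1⟩ := exists_eq_Fix hF hq hpp εB iB hb' oB
  have hne0 : v0 ≠ 0 := fun e => hn0 (by rw [e, H3.hermForm_zero_left hF])
  have hne1 : v1 ≠ 0 := fun e => hn1 (by rw [e, H3.hermForm_zero_left hF])
  have hgen : εA.range ⊔ εB.range = ⊤ := by
    refine eq_top_iff.2 fun g _ => ?_
    obtain ⟨⟨x, hx⟩, rfl⟩ := ψ.surjective g
    have hle : A ⊔ B ≤ ((εA.range ⊔ εB.range).comap ψ.toMonoidHom).map (A ⊔ B).subtype :=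
      sup_le (fun y hy => ⟨⟨y, Subgroup.mem_sup_left hy⟩, Subgroup.mem_sup_left (mA y hy), rfl⟩)
        (fun y hy => ⟨⟨y, Subgroup.mem_sup_right hy⟩, Subgroup.mem_sup_right (mB y hy), rfl⟩)
    obtain ⟨y, hy, hyx⟩ := hle hx
    obtain rfl : y = ⟨x, hx⟩ := Subtype.ext hyx
    exact hy
  have hnp : ∀ c : F, v1 ≠ c • v0 := by
    intro c e
    have hc : c ≠ 0 := fun e0 => hne1 (by rw [e, e0, zero_smul])
    have hall : ∀ g : ↥(SU 3 F q), act g v0 = v0 := fun g => by
      have : g ∈ εA.range ⊔ εB.range := hgen ▸ Subgroup.mem_top g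
      rwa [hr0, hr1, e, Fix_smul hc, sup_idem] at this
    obtain ⟨t, ht, htne⟩ := exists_phase hF hq
    have ht1 : t ≠ 1 := fun e0 => htne (by rw [e0, one_pow])
    have ht2 : t ^ q ≠ 1 := fun e0 => ht1 (by rw [nm, e0, mul_one] at ht; exact ht)
    have ht0 : nm q t + nm q (0 : F) = 1 := by rw [ht, nm_zero hF, add_zero]
    have h1 := hall (lo (su2 hF t 0 ht0))
    have h2 := hall (hi (su2 hF t 0 ht0))
    rw [act_lo] at h1
    rw [act_hi] at h2
    refine hne0 (funext fun k => ?_)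
    fin_cases k
    · have h := congrFun h1 0
      simp [zero_pow (q_ne_zero hF)] at h
      exact (mul_eq_zero.1 (show (t - 1) * v0 0 = 0 by linear_combination h)).resolve_left (sub_ne_zero.2 ht1)
    · have h := congrFun h2 1
      simp [zero_pow (q_ne_zero hF)] at h
      exact (mul_eq_zero.1 (show (t - 1) * v0 1 = 0 by linear_combination h)).resolve_left (sub_ne_zero.2 ht1)
    · have h := congrFun h2 2
      simp [zero_pow (q_ne_zero hF)] at h
      exact (mul_eq_zero.1 (show (t ^ q - 1) * v0 2 = 0 by linear_combination h)).resolve_left (sub_ne_zero.2 ht2)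
  have hfa : act da v0 = v0 := mem_Fix.1 (hr0 ▸ ha')
  have hfb : act db v1 = v1 := mem_Fix.1 (hr1 ▸ hb')
  have hcomm : db * da = da * db := by
    rw [hda, hdb, ← map_mul, ← map_mul]
    exact congrArg ψ (Subtype.ext hab.symm)
  obtain ⟨c, hc⟩ : ∃ c : F, act da v1 = c • v1 := by
    by_contra h
    push Not at h
    refine not_unip hF hpp oB (pow_of_fix_two hpp hne1 h hfb ?_)
    rw [← act_mul, hcomm, act_mul, hfb]
  have horth : hermForm 3 F q v1 v0 = 0 := by
    have h := herm_act da v1 v0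
    rw [hc, hfa, H3.hermForm_smul_left hF] at h
    have hc1 : c ≠ 1 := fun e => not_unip hF hpp oA (pow_of_fix_two hpp hne0 hnp hfa (by rw [hc, e, one_smul]))
    exact (mul_eq_zero.1 (show (c - 1) * hermForm 3 F q v1 v0 = 0 by linear_combination h)).resolve_left
      (sub_ne_zero.2 hc1)
  obtain ⟨g1, -, hg1⟩ := exists_move_to hF hq (I := Set.univ) (a := (0 : Fin 3)) trivial (v := v1)
    (fun k hk => absurd trivial hk) hn1
  have hg1v : act g1 v1 = act g1 v1 0 • (ev 0 : Fin 3 → F) := funext fun k => by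
    by_cases hk : k = 0
    · subst hk; simp [ev]
    · simp [ev, hk, hg1 k hk]
  have ht1 : act g1 v1 0 ≠ 0 := fun e => hn1 (by rw [← herm_act g1, hg1v, e, zero_smul, H3.hermForm_zero_left hF])
  have h00 : act g1 v0 0 = 0 := by
    have h := herm_act g1 v0 v1
    rw [hg1v, H3.hermForm_smul_right hF, herm_ev hF, (H3.hermForm_eq_zero_comm hF).1 horth] at h
    exact (mul_eq_zero.1 h).resolve_left (pow_ne_zero q ht1)
  have hsupp : Supp ({1, 2} : Set (Fin 3)) (act g1 v0) := fun k hk => by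
    obtain rfl : k = 0 := by
      simp only [Set.mem_insert_iff, Set.mem_singleton_iff, not_or] at hk
      omega
    exact h00
  obtain ⟨g2, hg2, hg2v⟩ := exists_move_to hF hq (I := ({1, 2} : Set (Fin 3))) (a := (2 : Fin 3)) (by simp) hsupp
    (by rw [herm_act]; exact hn0)
  set u := g2 * g1 with hu
  have hu1 : act u v1 = act g1 v1 0 • (ev 0 : Fin 3 → F) := by
    rw [hu, act_mul, hg1v, act_smul, hg2 0 (by simp)]; simp [ev]
  have hu0 : act u v0 = act u v0 2 • (ev 2 : Fin 3 → F) := funext fun k => by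
    by_cases hk : k = 2
    · subst hk; simp [ev]
    · rw [hu, act_mul, hg2v k hk]; simp [ev, hk]
  have ht0 : act u v0 2 ≠ 0 := fun e => hn0 (by rw [← herm_act u, hu0, e, zero_smul, H3.hermForm_zero_left hF])
  let Ψ : ↥(SU 3 F q) ≃* ↥(A ⊔ B) := (MulAut.conj u⁻¹).trans ψ.symm
  have key : ∀ (P : Subgroup G) (hP : P ≤ A ⊔ B) (eP : ↥(SU 2 F q) ≃* ↥P) (ε : ↥(SU 2 F q) →* ↥(SU 3 F q)),
      ε = ψ.toMonoidHom.comp ((Subgroup.inclusion hP).comp eP.toMonoidHom) → ∀ v, ε.range = Fix v →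
      (Fix (act u v)).map ((A ⊔ B).subtype.comp Ψ.toMonoidHom) = P := by
    intro P hP eP ε hεdef v hv
    ext y
    constructor
    · rintro ⟨x, hx, rfl⟩
      have hx' : (MulAut.conj u⁻¹) x ∈ ε.range := by
        rw [hv, MulAut.conj_apply, inv_inv]; exact (mem_Fix_conj u x v).2 hx
      obtain ⟨s, hs⟩ := hx'
      show ((ψ.symm ((MulAut.conj u⁻¹) x) : ↥(A ⊔ B)) : G) ∈ P
      rw [← hs, hεdef]
      simp
    · intro hy
      obtain ⟨s, hs⟩ := eP.surjective ⟨y, hy⟩
      have hmem : u * ε s * u⁻¹ ∈ Fix (act u v) := by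
        rw [← mem_Fix_conj, show u⁻¹ * (u * ε s * u⁻¹) * u = ε s by group, ← hv]; exact ⟨s, rfl⟩
      refine ⟨_, hmem, ?_⟩
      show ((ψ.symm ((MulAut.conj u⁻¹) (u * ε s * u⁻¹)) : ↥(A ⊔ B)) : G) = y
      rw [MulAut.conj_apply, inv_inv, show u⁻¹ * (u * ε s * u⁻¹) * u = ε s by group, hεdef]
      simp [hs]
  refine Or.inl ⟨Ψ, ?_, ?_⟩
  · rw [suBlock_eq hF, GI_eq_Fix2, ← Fix_smul (v := ev 2) ht0, ← hu0]
    exact key A le_sup_left eA εA rfl v0 hr0
  · rw [suBlock_eq hF, GI_eq_Fix0, ← Fix_smul (v := ev 0) ht1, ← hu1]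
    exact key B le_sup_right eB εB rfl v1 hr1

end Cfsg.Agent.H78.Phan
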