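import Cfsg.Agent.H78.Phan.Glue

/-!
# Joint eigenframes and generation in odd characteristic
-/

set_option autoImplicit false

namespace Cfsg.Agent.H78.Phan

open Matrix Cfsg

variable {F : Type*} [Field F] [Fintype F] {q : ℕ} {N : ℕ}

/-- Two blocks generate the block on three coordinates in odd characteristic. -/
theorem gen_three_odd (hF : Fintype.card F = q ^ 2) (h2 : (2 : F) ≠ 0) {a : ℕ} (ha : a + 3 ≤ N)
    {g : ↥(SU N F q)} (hg : g ∈ GI (Iv a (a + 3))) :
    g ∈ (GI (Iv a (a + 2)) ⊔ GI (Iv (a + 1) (a + 3)) : Subgroup ↥(SU N F q)) := by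
  set P : Subgroup ↥(SU N F q) := GI (Iv a (a + 2)) ⊔ GI (Iv (a + 1) (a + 3)) with hP
  have hPle : P ≤ GI (Iv a (a + 3)) := sup_le (GI_mono (Iv_mono le_rfl (by omega)))
    (GI_mono (Iv_mono (by omega) le_rfl))
  let i0 : Fin N := ⟨a, by omega⟩
  let i1 : Fin N := ⟨a + 1, by omega⟩
  have h01 : i0 ≠ i1 := fun e => by simp [i0, i1, Fin.ext_iff] at e
  have he0 : Supp (Iv a (a + 2)) (ev i0 : Fin N → F) := supp_ev le_rfl (show a < a + 2 by omega)
  have hn0 : hermForm N F q (ev i0 : Fin N → F) (ev i0) = 1 := by rw [herm_ev hF]; simp [ev]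
  have htail : ∀ {v : Fin N → F}, Supp (Iv a (a + 3)) v → Supp (Iv (a + 1) (a + 3)) (v - v i0 • ev i0) :=
    fun {v} hv k hk => by
      by_cases hki : k = i0
      · subst hki; simp [ev]
      · simp only [Pi.sub_apply, Pi.smul_apply, ev, Pi.single_eq_of_ne hki, smul_zero, sub_zero]
        refine hv k fun h => hk ⟨?_, h.2⟩
        have h1 := h.1
        simp only [i0, Fin.ext_iff] at hki
        omega
  have last : ∀ v : Fin N → F, Supp (Iv a (a + 2)) v → hermForm N F q v v = 1 → ∃ h ∈ P, act h v = ev i0 := by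
    intro v hv hn
    obtain ⟨g, hg, hgv⟩ := move1 hF (show a + 2 ≤ N by omega) hv he0 (by rw [hn, hn0])
      (Or.inr ⟨le_rfl, by rw [hn]; exact one_ne_zero⟩)
    exact ⟨g, Subgroup.mem_sup_left hg, hgv⟩
  have main : ∀ v : Fin N → F, Supp (Iv a (a + 3)) v → hermForm N F q v v = 1 → nm q (v i0) ≠ 1 →
      ∃ h ∈ P, act h v = ev i0 := by
    intro v hv hn hne
    have hr : hermForm N F q (v - v i0 • ev i0) (v - v i0 • ev i0) ≠ 0 := fun e => hne (by
      have := herm_off hF v i0
      rw [hn, e, zero_add] at this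
      exact this.symm)
    obtain ⟨δ, hδ⟩ := exists_nm hF (herm_self_pow hF (v - v i0 • ev i0))
    obtain ⟨g, hg, hgv⟩ := move1 hF ha (htail hv) (w := δ • ev i1)
      (fun k hk => by simp [supp_ev (F := F) (i := i1) le_rfl (show a + 1 < a + 3 by omega) k hk])
      (by rw [herm_smul_ev hF, hδ]) (Or.inr ⟨by omega, hr⟩)
    have hgv' : act g v = δ • ev i1 + v i0 • ev i0 := by
      conv_lhs => rw [← sub_add_cancel v (v i0 • ev i0)]
      rw [act_add, act_smul, hgv, hg i0 (fun h => by have := h.1; simp [i0] at this)]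
    obtain ⟨h, hh, he⟩ := last (act g v) (fun k hk => by
      rw [hgv']
      simp [supp_ev (F := F) (i := i1) (show a ≤ a + 1 by omega) (show a + 1 < a + 2 by omega) k hk, he0 k hk])
      ((herm_act g v v).trans hn)
    exact ⟨h * g, mul_mem hh (Subgroup.mem_sup_right hg), by rw [act_mul, he]⟩
  suffices hall : ∀ v : Fin N → F, Supp (Iv a (a + 3)) v → hermForm N F q v v = 1 → ∃ h ∈ P, act h v = ev i0 by
    obtain ⟨h, hh, he⟩ := hall (act g (ev i0))
      (act_supp hF hg (supp_ev le_rfl (show a < a + 3 by omega))) (by rw [herm_act, hn0])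
    have : h * g ∈ P := Subgroup.mem_sup_right (mem_GI_fix (mul_mem (hPle hh) hg) rfl (by rw [act_mul, he]))
    simpa using mul_mem (inv_mem hh) this
  intro v hv hn
  by_cases hne : nm q (v i0) = 1
  swap
  · exact main v hv hn hne
  obtain ⟨g, hg, hgn⟩ : ∃ g ∈ (GI ({i0, i1} : Set (Fin N)) : Subgroup ↥(SU N F q)),
      nm q (act g v i0) ≠ 1 := by
    by_cases hS : nm q (v i0) + nm q (v i1) = 0
    · obtain ⟨c, hc⟩ := exists_nm hF (μ := (-1 : F)) (by
        rw [show (-1 : F) ^ q = -(1 ^ q) from map_neg (H3.conjQ hF) (1 : F), one_pow])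
      obtain ⟨g, hg, e, -, -⟩ := exists_iso_move hF i0 i1 h01 (a := c)
        (fun e => by rw [e, nm_zero hF] at hc; exact one_ne_zero (α := F) (by linear_combination hc))
        (fun e => by rw [e, nm_zero hF] at hne; exact zero_ne_one hne) hS
      exact ⟨g, hg, by rw [e, hc]; exact fun h => h2 (by linear_combination -h)⟩
    · obtain ⟨c, hc⟩ := exists_nm hF (μ := nm q (v i0) + nm q (v i1))
        (by rw [H3.add_pow_q hF, nm_pow_q hF, nm_pow_q hF])
      obtain ⟨g, hg, e, -, -⟩ := exists_pair_move hF i0 i1 h01 (a := 0) (b := c) hS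
        (by rw [nm_zero hF, zero_add, hc])
      exact ⟨g, hg, by rw [e, nm_zero hF]; exact zero_ne_one⟩
  rw [Iv_pair (a := a) i0 i1 rfl rfl] at hg
  have hgP : g ∈ P := Subgroup.mem_sup_left hg
  obtain ⟨h, hh, he⟩ := main _ (act_supp hF (hPle hgP) hv) ((herm_act g v v).trans hn) hgn
  exact ⟨h * g, mul_mem hh hgP, by rw [act_mul, he]⟩

/-- A vector is a sum of eigenvectors inside the span of its first three images. -/
def EigSplit (g : ↥(SU N F q)) : Prop :=
  ∀ z : Fin N → F, ∃ (Λ : Finset F) (u : F → Fin N → F), z = ∑ l ∈ Λ, u l ∧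
    ∀ l ∈ Λ, nm q l = 1 ∧ act g (u l) = l • u l ∧
      u l ∈ Submodule.span F ({z, act g z, act g (act g z)} : Set (Fin N → F))

theorem eigSplit_two (h2 : (2 : F) ≠ 0) (hm : nm q (-1 : F) = 1) {g : ↥(SU N F q)} (hg : g * g = 1) :
    EigSplit g := by
  classical
  intro z
  have hgg : ∀ x, act g (act g x) = x := fun x => by rw [← act_mul, hg, act_one]
  have hne : (1 : F) ≠ -1 := fun e => h2 (by linear_combination e)
  refine ⟨{1, -1}, fun l => (2 : F)⁻¹ • (z + l • act g z), ?_, fun l hl => ?_⟩
  · rw [Finset.sum_pair hne]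
    simp only [one_smul, neg_smul, ← smul_add]
    rw [add_add_add_comm, add_neg_cancel, add_zero, ← two_smul F z, smul_smul, inv_mul_cancel₀ h2, one_smul]
  · have hl2 : l * l = 1 := by
      simp only [Finset.mem_insert, Finset.mem_singleton] at hl
      rcases hl with rfl | rfl <;> simp
    refine ⟨?_, ?_, ?_⟩
    · simp only [Finset.mem_insert, Finset.mem_singleton] at hl
      rcases hl with rfl | rfl
      · exact nm_one
      · exact hm
    · rw [act_smul, act_add, act_smul, hgg]
      funext i
      simp only [Pi.add_apply, Pi.smul_apply, smul_eq_mul]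
      linear_combination -((2 : F)⁻¹ * act g z i) * hl2
    · exact Submodule.smul_mem _ _ (Submodule.add_mem _ (Submodule.subset_span (by simp))
        (Submodule.smul_mem _ _ (Submodule.subset_span (by simp))))

theorem eigSplit_three {ω : F} (hω : ω * ω + ω + 1 = 0) (hn : nm q ω = 1) (hn2 : nm q (ω * ω) = 1)
    (h3 : (3 : F) ≠ 0) {g : ↥(SU N F q)} (hg : g * g * g = 1) : EigSplit g := by
  classical
  intro z
  have hg3 : ∀ x, act g (act g (act g x)) = x := fun x => by rw [← act_mul, ← act_mul, hg, act_one]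
  have hw3 : ω * ω * ω = 1 := by linear_combination (ω - 1) * hω
  have n1 : (1 : F) ≠ ω := fun e => h3 (by rw [← e] at hω; linear_combination hω)
  have n2 : (1 : F) ≠ ω * ω := fun e => n1 (by linear_combination -hw3 - ω * e)
  have n3 : ω ≠ ω * ω := fun e => n1 (mul_left_cancel₀
    (fun e0 : ω = 0 => by rw [e0] at hω; simp at hω) (by rw [mul_one]; exact e))
  refine ⟨{1, ω, ω * ω}, fun l => (3 : F)⁻¹ • (z + (l * l) • act g z + l • act g (act g z)), ?_, fun l hl => ?_⟩
  · rw [Finset.sum_insert (by simp [n1, n2]), Finset.sum_pair n3, ← smul_add, ← smul_add, eq_inv_smul_iff₀ h3]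
    funext i
    simp only [Pi.add_apply, Pi.smul_apply, smul_eq_mul]
    linear_combination -(act g z i + act g (act g z) i) * hω - (ω * act g z i) * hw3
  · simp only [Finset.mem_insert, Finset.mem_singleton] at hl
    have hl3 : l * l * l = 1 := by
      rcases hl with rfl | rfl | rfl
      · ring
      · exact hw3
      · linear_combination (ω * ω * ω + 1) * hw3
    refine ⟨?_, ?_, ?_⟩
    · rcases hl with rfl | rfl | rfl
      · exact nm_one
      · exact hn
      · exact hn2
    · rw [act_smul, act_add, act_add, act_smul, act_smul, hg3]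
      funext i
      simp only [Pi.add_apply, Pi.smul_apply, smul_eq_mul]
      linear_combination -((3 : F)⁻¹ * act g z i) * hl3
    · exact Submodule.smul_mem _ _ (Submodule.add_mem _ (Submodule.add_mem _ (Submodule.subset_span (by simp))
        (Submodule.smul_mem _ _ (Submodule.subset_span (by simp))))
        (Submodule.smul_mem _ _ (Submodule.subset_span (by simp))))

theorem herm_eigen (hF : Fintype.card F = q ^ 2) {g : ↥(SU N F q)} {u v : Fin N → F} {l m : F} (hlm : l ≠ m)
    (hm : nm q m = 1) (hu : act g u = l • u) (hv : act g v = m • v) : hermForm N F q u v = 0 := by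
  have h := herm_act g u v
  rw [hu, hv, H3.hermForm_smul_left hF, H3.hermForm_smul_right hF, ← mul_assoc] at h
  have h1 : l * m ^ q ≠ 1 := fun e => hlm (mul_right_cancel₀
    (pow_ne_zero q (fun e0 : m = 0 => by rw [e0, nm_zero hF] at hm; exact zero_ne_one hm))
    (by rw [e]; exact hm.symm))
  exact (mul_eq_zero.1 (show (l * m ^ q - 1) * hermForm N F q u v = 0 by linear_combination h)).resolve_left
    (sub_ne_zero.2 h1)

theorem eigSplit_aniso (hF : Fintype.card F = q ^ 2) {g : ↥(SU N F q)} (hg : EigSplit g) {z : Fin N → F}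
    (hz : hermForm N F q z z ≠ 0) : ∃ (u : Fin N → F) (l : F), nm q l = 1 ∧ act g u = l • u ∧ hermForm N F q u u ≠ 0 ∧
      u ∈ Submodule.span F ({z, act g z, act g (act g z)} : Set (Fin N → F)) := by
  classical
  obtain ⟨Λ, u, hsum, hu⟩ := hg z
  by_contra h
  push Not at h
  apply hz
  have hzero : ∀ l ∈ Λ, ∀ m ∈ Λ, hermForm N F q (u l) (u m) = 0 := fun l hl m hm => by
    by_cases e : l = m
    · subst e
      by_contra hne
      exact h (u l) l (hu l hl).1 (hu l hl).2.1 hne (hu l hl).2.2
    · exact herm_eigen hF e (hu m hm).1 (hu l hl).2.1 (hu m hm).2.1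
  have hadd : ∀ (w : Fin N → F) (S : Finset F), (∀ m ∈ S, hermForm N F q w (u m) = 0) →
      hermForm N F q w (∑ m ∈ S, u m) = 0 := by
    intro w S
    induction S using Finset.induction with
    | empty => intro _; rw [Finset.sum_empty, H3.hermForm_zero_right hF]
    | @insert m S hm ih =>
      intro hS
      rw [Finset.sum_insert hm, H3.hermForm_add_right hF, hS m (Finset.mem_insert_self _ _),
        ih fun p hp => hS p (Finset.mem_insert_of_mem hp), add_zero]
  refine (H3.hermForm_eq_zero_comm hF).1 ?_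
  conv_lhs => arg 5; rw [hsum]
  refine hadd z Λ fun m hm => (H3.hermForm_eq_zero_comm hF).1 ?_
  rw [hsum]
  exact hadd _ Λ fun l hl => hzero m hm l hl

theorem ortho_span (hF : Fintype.card F = q ^ 2) {f : Fin N → F} {S : Set (Fin N → F)}
    (hS : ∀ x ∈ S, hermForm N F q x f = 0) {u : Fin N → F} (hu : u ∈ Submodule.span F S) :
    hermForm N F q u f = 0 := by
  induction hu using Submodule.span_induction with
  | mem x hx => exact hS x hx
  | zero => exact H3.hermForm_zero_left hF f
  | add x y _ _ h1 h2 => rw [H3.hermForm_add_left hF, h1, h2, add_zero]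
  | smul c x _ h => rw [H3.hermForm_smul_left hF, h, mul_zero]

omit [Fintype F] in
theorem eigen_span {g : ↥(SU N F q)} {l : F} {S : Set (Fin N → F)} (hS : ∀ x ∈ S, act g x = l • x)
    {u : Fin N → F} (hu : u ∈ Submodule.span F S) : act g u = l • u := by
  induction hu using Submodule.span_induction with
  | mem x hx => exact hS x hx
  | zero => rw [act_zero, smul_zero]
  | add x y _ _ h1 h2 => rw [act_add, h1, h2, smul_add]
  | smul c x _ h => rw [act_smul, h, smul_comm]

/-- Two commuting semisimple elements have an orthonormal joint eigenframe. -/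
theorem exists_frame (hF : Fintype.card F = q ^ 2) {g h : ↥(SU N F q)} (hg : EigSplit g) (hh : EigSplit h)
    (hc : g * h = h * g) : ∃ (f : Fin N → Fin N → F) (l m : Fin N → F),
      (∀ i j, hermForm N F q (f i) (f j) = if i = j then 1 else 0) ∧
      ∀ i, act g (f i) = l i • f i ∧ act h (f i) = m i • f i := by
  classical
  suffices key : ∀ k, k ≤ N → ∃ (f : Fin k → Fin N → F) (l m : Fin k → F),
      (∀ i j, hermForm N F q (f i) (f j) = if i = j then 1 else 0) ∧
      ∀ i, act g (f i) = l i • f i ∧ act h (f i) = m i • f i ∧ nm q (l i) = 1 ∧ nm q (m i) = 1 by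
    obtain ⟨f, l, m, h1, h2⟩ := key N le_rfl
    exact ⟨f, l, m, h1, fun i => ⟨(h2 i).1, (h2 i).2.1⟩⟩
  intro k
  induction k with
  | zero => intro _; exact ⟨Fin.elim0, Fin.elim0, Fin.elim0, fun i => i.elim0, fun i => i.elim0⟩
  | succ k ih =>
    intro hk
    obtain ⟨f, l, m, h1, h2⟩ := ih (by omega)
    let e : Fin k ↪ Fin N := Fin.castLEEmb (by omega)
    have hind : ∀ (v : Fin k → Fin N → F), (∀ i j, hermForm N F q (v i) (v j) = if i = j then 1 else 0) →
        LinearIndependent F v := fun v hv => by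
      rw [Fintype.linearIndependent_iff]
      intro c hc i
      have hsum : ∀ (S : Finset (Fin k)), hermForm N F q (∑ j ∈ S, c j • v j) (v i) = ∑ j ∈ S, c j * (if j = i then 1 else 0) := by
        intro S
        induction S using Finset.induction with
        | empty => rw [Finset.sum_empty, Finset.sum_empty, H3.hermForm_zero_left hF]
        | @insert j S hj ih => rw [Finset.sum_insert hj, Finset.sum_insert hj, H3.hermForm_add_left hF,
            H3.hermForm_smul_left hF, hv, ih]
      have := hsum Finset.univ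
      rw [hc, H3.hermForm_zero_left hF] at this
      simpa using this.symm
    obtain ⟨M, hM⟩ := H3.exists_GU_witt hF (fun i => (ev (e i) : Fin N → F)) f
      (hind _ fun i j => by rw [herm_ev hF]; simp [ev, Pi.single_apply, eq_comm])
      (hind _ h1) (fun i j => by rw [herm_ev hF, h1]; simp [ev, Pi.single_apply, eq_comm])
    let p : Fin N := ⟨k, by omega⟩
    have hpe : ∀ i, e i ≠ p := fun i h => by
      have := congrArg Fin.val h
      simp [e, p] at this
      omega
    set z := (M.1 : Matrix (Fin N) (Fin N) F) *ᵥ (ev p : Fin N → F)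
    have hzz : hermForm N F q z z = 1 := by rw [H3.GU_preserves M, herm_ev hF]; simp [ev]
    have hzf : ∀ i, hermForm N F q z (f i) = 0 := fun i => by
      rw [← hM i, H3.GU_preserves M, herm_ev hF]
      simp [ev, hpe i]
    have inv : ∀ {x : ↥(SU N F q)} {c : F} {i}, act x (f i) = c • f i → nm q c = 1 →
        ∀ y, hermForm N F q y (f i) = 0 → hermForm N F q (act x y) (f i) = 0 := by
      intro x c i hx hc y hy
      have h := herm_act x y (f i)
      rw [hx, hy, H3.hermForm_smul_right hF] at h
      exact (mul_eq_zero.1 h).resolve_left (pow_ne_zero q fun e0 => by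
        rw [e0, nm_zero hF] at hc; exact zero_ne_one hc)
    obtain ⟨u, a, ha, hgu, hu, huspan⟩ := eigSplit_aniso hF hg (z := z) (by rw [hzz]; exact one_ne_zero)
    have huf : ∀ i, hermForm N F q u (f i) = 0 := fun i => ortho_span hF (by
      have h3 := inv (h2 i).1 (h2 i).2.2.1
      rintro x (rfl | rfl | rfl)
      · exact hzf i
      · exact h3 _ (hzf i)
      · exact h3 _ (h3 _ (hzf i))) huspan
    obtain ⟨w, b, hb, hhw, hw, hwspan⟩ := eigSplit_aniso hF hh hu
    have hgh : ∀ x, act g x = a • x → act g (act h x) = a • act h x := fun x hx => by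
      rw [← act_mul, hc, act_mul, hx, act_smul]
    have hgw : act g w = a • w := eigen_span (by
      rintro x (rfl | rfl | rfl)
      · exact hgu
      · exact hgh _ hgu
      · exact hgh _ (hgh _ hgu)) hwspan
    have hwf : ∀ i, hermForm N F q w (f i) = 0 := fun i => ortho_span hF (by
      have h3 := inv (h2 i).2.1 (h2 i).2.2.2
      rintro x (rfl | rfl | rfl)
      · exact huf i
      · exact h3 _ (huf i)
      · exact h3 _ (h3 _ (huf i))) hwspan
    obtain ⟨s, hs⟩ := exists_nm hF (herm_self_pow hF w)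
    have hs0 : s ≠ 0 := fun e0 => hw (by rw [← hs, e0, nm_zero hF])
    refine ⟨Fin.cons (s⁻¹ • w) f, Fin.cons a l, Fin.cons b m, fun i j => ?_, fun i => ?_⟩
    · refine Fin.cases ?_ (fun i => ?_) i <;> refine Fin.cases ?_ (fun j => ?_) j
      · rw [Fin.cons_zero, H3.hermForm_smul_left hF, H3.hermForm_smul_right hF, ← hs, nm, inv_pow, if_pos rfl]
        have := pow_ne_zero q hs0
        field_simp
      · rw [Fin.cons_zero, Fin.cons_succ, H3.hermForm_smul_left hF, hwf, mul_zero,
          if_neg (Fin.succ_ne_zero j).symm]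
      · rw [Fin.cons_zero, Fin.cons_succ, H3.hermForm_smul_right hF, (H3.hermForm_eq_zero_comm hF).1 (hwf i),
          mul_zero, if_neg (Fin.succ_ne_zero i)]
      · rw [Fin.cons_succ, Fin.cons_succ, h1]
        simp [Fin.succ_inj]
    · refine Fin.cases ?_ (fun i => ?_) i
      · simp only [Fin.cons_zero]
        exact ⟨by rw [act_smul, hgw, smul_comm], by rw [act_smul, hhw, smul_comm], ha, hb⟩
      · simp only [Fin.cons_succ]
        exact h2 i

/-- An orthonormal frame gives a coordinate change. -/
theorem exists_coord_change (hF : Fintype.card F = q ^ 2) {f : Fin N → Fin N → F}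
    (hf : ∀ i j, hermForm N F q (f i) (f j) = if i = j then 1 else 0) :
    ∃ E : ↥(SU N F q) ≃* ↥(SU N F q), ∀ x i (c : F), act (E x) (f i) = c • f i → act x (ev i) = c • ev i := by
  classical
  obtain ⟨M, hM⟩ := H3.exists_GU_witt hF (fun i => (ev i : Fin N → F)) f
    (by
      have : (fun i => (ev i : Fin N → F)) = ⇑(Pi.basisFun F (Fin N)) := funext fun i => by simp [ev]
      rw [this]; exact (Pi.basisFun F (Fin N)).linearIndependent)
    (by
      rw [Fintype.linearIndependent_iff]
      intro c hc i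
      have hsum : ∀ (S : Finset (Fin N)), hermForm N F q (∑ j ∈ S, c j • f j) (f i) = ∑ j ∈ S, c j * (if j = i then 1 else 0) := by
        intro S
        induction S using Finset.induction with
        | empty => rw [Finset.sum_empty, Finset.sum_empty, H3.hermForm_zero_left hF]
        | @insert j S hj ih => rw [Finset.sum_insert hj, Finset.sum_insert hj, H3.hermForm_add_left hF,
            H3.hermForm_smul_left hF, hf, ih]
      have := hsum Finset.univ
      rw [hc, H3.hermForm_zero_left hF] at this
      simpa using this.symm)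
    (fun i j => by rw [herm_ev hF, hf]; simp [ev, Pi.single_apply, eq_comm])
  refine ⟨H23.AutPSU.semiEquiv M 1, fun x i c h => ?_⟩
  set P := (M.1 : Matrix (Fin N) (Fin N) F)
  have hinj : ∀ u v, P *ᵥ u = P *ᵥ v → u = v := fun u v e => by
    have h1 := congrArg (((M.1⁻¹ : GL (Fin N) F) : Matrix (Fin N) (Fin N) F) *ᵥ ·) e
    simpa [P, Matrix.mulVec_mulVec, ← Units.val_mul] using h1
  have hM' : P *ᵥ ev i = f i := hM i
  have he : act (H23.AutPSU.semiEquiv M 1 x) (P *ᵥ ev i) = P *ᵥ act x (ev i) := by
    show H23.AutPSU.semiMat M.1 1 (mat x) *ᵥ (P *ᵥ ev i) = _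
    rw [H23.AutPSU.semiMat, show (mat x).map ⇑(1 : F ≃+* F) = mat x from Matrix.map_id _,
      Matrix.mulVec_mulVec]
    simp only [P, mul_assoc, ← Units.val_mul, inv_mul_cancel, Units.val_one, mul_one]
    rw [← Matrix.mulVec_mulVec]
    rfl
  rw [hM'] at he
  refine hinj _ _ ?_
  rw [← he, h, ← hM', Matrix.mulVec_smul]

omit [Fintype F] in
/-- The centraliser of a non-scalar two by two matrix. -/
theorem commutant_two {A B : Matrix (Fin 2) (Fin 2) F} (hA : ¬ ∃ l : F, A = l • 1) (h : A * B = B * A) :
    ∃ x y : F, B = x • 1 + y • A := by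
  have e00 := congrFun (congrFun h 0) 0
  have e01 := congrFun (congrFun h 0) 1
  have e10 := congrFun (congrFun h 1) 0
  simp [Matrix.mul_apply, Fin.sum_univ_two] at e00 e01 e10
  by_cases b : A 0 1 = 0
  · by_cases c : A 1 0 = 0
    · have d : A 0 0 ≠ A 1 1 := fun e => hA ⟨A 0 0, by ext i j; fin_cases i <;> fin_cases j <;> simp [b, c, ← e]⟩
      have d' := sub_ne_zero.2 d
      have b1 : B 0 1 = 0 := (mul_eq_zero.1 (show (A 0 0 - A 1 1) * B 0 1 = 0 by
        rw [b] at e01; linear_combination e01)).resolve_left d'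
      have c1 : B 1 0 = 0 := (mul_eq_zero.1 (show (A 0 0 - A 1 1) * B 1 0 = 0 by
        rw [c] at e10; linear_combination -e10)).resolve_left d'
      set y := (B 0 0 - B 1 1) / (A 0 0 - A 1 1) with hy
      refine ⟨B 0 0 - y * A 0 0, y, ?_⟩
      ext i j
      fin_cases i <;> fin_cases j <;> simp [b, c, b1, c1]
      rw [hy]; field_simp; ring
    · set y := B 1 0 / A 1 0 with hy
      refine ⟨B 0 0 - y * A 0 0, y, ?_⟩
      ext i j
      fin_cases i <;> fin_cases j <;> simp [hy]
      all_goals field_simp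
      · linear_combination -e00
      · linear_combination -e10
  · set y := B 0 1 / A 0 1 with hy
    refine ⟨B 0 0 - y * A 0 0, y, ?_⟩
    ext i j
    fin_cases i <;> fin_cases j <;> simp [hy]
    all_goals field_simp
    · linear_combination e00
    · linear_combination e01

end Cfsg.Agent.H78.Phan
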