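import Cfsg.Agent.H78.Phan.Quad
import Cfsg.Agent.H78.Phan.Chain

/-!
# Recognition from a chain of images of `SU 4`
-/

set_option autoImplicit false

namespace Cfsg.Agent.H78.Phan

open Matrix Cfsg

variable {F : Type*} [Field F] [Fintype F] {q : ℕ} {G : Type*} [Group G]

/-- Four adjacent coordinates. -/
def e4 {N : ℕ} (a : ℕ) (h : a + 4 ≤ N) : Fin 4 ↪ Fin N :=
  ⟨fun i => ⟨a + i, by omega⟩, fun i j e => Fin.ext (by simpa using e)⟩

theorem range_e4 {N : ℕ} (a : ℕ) (h : a + 4 ≤ N) : Set.range (e4 a h) = Iv a (a + 4) := by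
  ext k
  constructor
  · rintro ⟨i, rfl⟩
    exact ⟨Nat.le_add_right _ _, by show a + (i : ℕ) < a + 4; omega⟩
  · rintro ⟨h1, h2⟩
    exact ⟨⟨(k : ℕ) - a, by omega⟩, Fin.ext (by show a + ((k : ℕ) - a) = k; omega)⟩

/-- The first three coordinates of four. -/
noncomputable abbrev lo3 : ↥(SU 3 F q) →* ↥(SU 4 F q) := emb (e3 (N := 4) 0 (by omega))

/-- The last three coordinates of four. -/
noncomputable abbrev hi3 : ↥(SU 3 F q) →* ↥(SU 4 F q) := emb (e3 (N := 4) 1 (by omega))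

/-- A pair of adjacent coordinates of four. -/
noncomputable abbrev pair4 (j : ℕ) (h : j + 2 ≤ 4) : ↥(SU 2 F q) →* ↥(SU 4 F q) := emb (e2 (N := 4) j h)

omit [Fintype F] in
theorem lo3_lo (x : ↥(SU 2 F q)) : lo3 (lo x) = pair4 0 (by omega) x := by
  rw [emb_trans]
  congr 2
  exact Function.Embedding.ext fun i => Fin.ext (by show 0 + (0 + (i : ℕ)) = 0 + i; omega)

omit [Fintype F] in
theorem lo3_hi (x : ↥(SU 2 F q)) : lo3 (hi x) = pair4 1 (by omega) x := by
  rw [emb_trans]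
  congr 2
  exact Function.Embedding.ext fun i => Fin.ext (by show 0 + (1 + (i : ℕ)) = 1 + i; omega)

omit [Fintype F] in
theorem hi3_lo (x : ↥(SU 2 F q)) : hi3 (lo x) = pair4 1 (by omega) x := by
  rw [emb_trans]
  congr 2
  exact Function.Embedding.ext fun i => Fin.ext (by show 1 + (0 + (i : ℕ)) = 1 + i; omega)

omit [Fintype F] in
theorem hi3_hi (x : ↥(SU 2 F q)) : hi3 (hi x) = pair4 2 (by omega) x := by
  rw [emb_trans]
  congr 2
  exact Function.Embedding.ext fun i => Fin.ext (by show 1 + (1 + (i : ℕ)) = 2 + i; omega)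

/-- The unitary group maps onto a group with a compatible chain of images of `SU 4`. -/
theorem exists_hom4 (hF : Fintype.card F = q ^ 2) {n : ℕ} (hn : 3 ≤ n) (f : ℕ → (↥(SU 4 F q) →* G))
    (U V : ℕ → Subgroup G)
    (hU : ∀ a j, (h : j + 2 ≤ 4) → a + 3 ≤ n → ((f a).comp (pair4 j h)).range = U (a + j))
    (hV0 : ∀ a, a + 3 ≤ n → ((f a).comp lo3).range = V a)
    (hV1 : ∀ a, a + 3 ≤ n → ((f a).comp hi3).range = V (a + 1))
    (hcomp : ∀ a, a + 4 ≤ n → (f (a + 1)).comp lo3 = (f a).comp hi3)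
    (cAA : ∀ a b, a + 2 ≤ b → b < n → ∀ x ∈ U a, ∀ y ∈ U b, x * y = y * x)
    (cAV : ∀ a b, a + 2 ≤ b → b + 1 < n → ∀ x ∈ U a, ∀ y ∈ V b, x * y = y * x)
    (cVA : ∀ a b, a + 3 ≤ b → b < n → ∀ x ∈ V a, ∀ y ∈ U b, x * y = y * x)
    (cVV : ∀ a b, a + 3 ≤ b → b + 1 < n → ∀ x ∈ V a, ∀ y ∈ V b, x * y = y * x) :
    ∃ Φ : ↥(SU (n + 1) F q) →* G, (∀ a, a < n → U a ≤ Φ.range) ∧ ∀ a, a + 1 < n → V a ≤ Φ.range := by
  classical
  let ψ3 : ℕ → (↥(SU 3 F q) →* G) := fun a => if a + 3 ≤ n then (f a).comp lo3 else (f (a - 1)).comp hi3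
  have t1 : ∀ a, a + 3 ≤ n → ψ3 a = (f a).comp lo3 := fun a ha => if_pos ha
  have t2 : ∀ a, a + 3 ≤ n → ψ3 (a + 1) = (f a).comp hi3 := fun a ha => by
    by_cases h : a + 1 + 3 ≤ n
    · rw [t1 _ h, hcomp a (by omega)]
    · exact (if_neg h).trans (by rw [Nat.add_sub_cancel])
  have t3 : ∀ a, a + 1 < n → (ψ3 a).range = V a := fun a ha => by
    by_cases h : a + 3 ≤ n
    · rw [t1 a h, hV0 a h]
    · obtain ⟨b, rfl⟩ : ∃ b, a = b + 1 := ⟨a - 1, by omega⟩
      rw [t2 b (by omega), hV1 b (by omega)]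
  have t4 : ∀ a, a + 2 < n → (ψ3 (a + 1)).comp lo = (ψ3 a).comp hi := fun a ha => MonoidHom.ext fun x => by
    rw [t2 a (by omega), t1 a (by omega)]
    show f a (hi3 (lo x)) = f a (lo3 (hi x))
    rw [hi3_lo, lo3_hi]
  let ψ : ℕ → (↥(SU 2 F q) →* G) := fun a => if a + 1 < n then (ψ3 a).comp lo else (ψ3 (a - 1)).comp hi
  have s1 : ∀ a, a + 1 < n → ψ a = (ψ3 a).comp lo := fun a ha => if_pos ha
  have s2 : ∀ a, a + 1 < n → ψ (a + 1) = (ψ3 a).comp hi := fun a ha => by
    by_cases h : a + 1 + 1 < n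
    · rw [s1 _ h, t4 a h]
    · exact (if_neg h).trans (by rw [Nat.add_sub_cancel])
  have s3 : ∀ a, a < n → (ψ a).range = U a := fun a ha => by
    by_cases h : a + 3 ≤ n
    · rw [s1 a (by omega), t1 a h]
      refine Eq.trans ?_ (hU a 0 (by omega) h)
      congr 1
      exact MonoidHom.ext fun x => congrArg (f a) (lo3_lo x)
    by_cases h' : a + 1 < n
    · obtain ⟨b, rfl⟩ : ∃ b, a = b + 1 := ⟨a - 1, by omega⟩
      rw [s1 _ h', t2 b (by omega), ← hU b 1 (by omega) (by omega)]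
      congr 1
      exact MonoidHom.ext fun x => congrArg (f b) (hi3_lo x)
    · obtain ⟨b, rfl⟩ : ∃ b, a = b + 2 := ⟨a - 2, by omega⟩
      rw [s2 (b + 1) (by omega), t2 b (by omega), ← hU b 2 (by omega) (by omega)]
      congr 1
      exact MonoidHom.ext fun x => congrArg (f b) (hi3_hi x)
  let π : G × ↥(SU (n + 1) F q) →* ↥(SU (n + 1) F q) := MonoidHom.snd G _
  let A : ℕ → Subgroup (G × ↥(SU (n + 1) F q)) := fun a =>
    if h : a + 2 ≤ n + 1 then ((ψ a).prod (emb (e2 a h))).range else ⊥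
  let B : ℕ → Subgroup (G × ↥(SU (n + 1) F q)) := fun a =>
    if h : a + 3 ≤ n + 1 then ((ψ3 a).prod (emb (e3 a h))).range else ⊥
  let W : ℕ → Subgroup (G × ↥(SU (n + 1) F q)) := fun a =>
    if h : a + 4 ≤ n + 1 then ((f a).prod (emb (e4 a h))).range else ⊥
  have hA : ∀ a (h : a + 2 ≤ n + 1), A a = ((ψ a).prod (emb (e2 a h))).range := fun a h => dif_pos h
  have hB : ∀ a (h : a + 3 ≤ n + 1), B a = ((ψ3 a).prod (emb (e3 a h))).range := fun a h => dif_pos h
  have hW : ∀ a (h : a + 4 ≤ n + 1), W a = ((f a).prod (emb (e4 a h))).range := fun a h => dif_pos h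
  have mA : ∀ {a} (h : a + 2 ≤ n + 1) {x}, x ∈ A a → x.1 ∈ U a ∧ x.2 ∈ GI (Iv a (a + 2)) := fun {a} h {x} hx => by
    rw [hA a h] at hx
    obtain ⟨y, rfl⟩ := hx
    have h2 := emb_mem (e2 a h) y
    rw [range_e2] at h2
    exact ⟨s3 a (by omega) ▸ ⟨y, rfl⟩, h2⟩
  have mB : ∀ {a} (h : a + 3 ≤ n + 1) {x}, x ∈ B a → x.1 ∈ V a ∧ x.2 ∈ GI (Iv a (a + 3)) := fun {a} h {x} hx => by
    rw [hB a h] at hx
    obtain ⟨y, rfl⟩ := hx
    have h2 := emb_mem (e3 a h) y
    rw [range_e3] at h2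
    exact ⟨t3 a (by omega) ▸ ⟨y, rfl⟩, h2⟩
  have hdisj : ∀ {a b c d : ℕ}, b ≤ c → Disjoint (Iv a b : Set (Fin (n + 1))) (Iv c d) := fun hbc =>
    Set.disjoint_left.2 fun k hk hk' => by have := hk.2; have := hk'.1; omega
  let Q : QAmal π :=
    { A := A
      V := B
      W := W
      hF := hF
      hN := by omega
      mapA := fun a h => by
        rw [hA a h, MonoidHom.map_range, show π.comp ((ψ a).prod (emb (e2 a h))) = emb (e2 a h) from rfl,
          range_emb _ hF, range_e2]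
        rfl
      mapV := fun a h => by
        rw [hB a h, MonoidHom.map_range, show π.comp ((ψ3 a).prod (emb (e3 a h))) = emb (e3 a h) from rfl,
          range_emb _ hF, range_e3]
        rfl
      mapW := fun a h => by
        rw [hW a h, MonoidHom.map_range, show π.comp ((f a).prod (emb (e4 a h))) = emb (e4 a h) from rfl,
          range_emb _ hF, range_e4]
      injW := fun a h x hx h1 => by
        rw [hW a h] at hx
        obtain ⟨y, rfl⟩ := hx
        have : y = 1 := emb_injective (e4 a h) (h1.trans (map_one _).symm)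
        rw [this, map_one]
      A_le := fun a h => by
        refine ⟨?_, ?_⟩
        · rw [hA a (by omega), hB a h]
          rintro _ ⟨x, rfl⟩
          refine ⟨lo x, Prod.ext ?_ ?_⟩
          · show ψ3 a (lo x) = ψ a x
            rw [s1 a (by omega)]; rfl
          · show emb (e3 a h) (lo x) = emb (e2 a _) x
            rw [emb_trans]
            congr 2
            exact Function.Embedding.ext fun i => Fin.ext (by show a + (0 + (i : ℕ)) = a + i; omega)
        · rw [hA (a + 1) (by omega), hB a h]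
          rintro _ ⟨x, rfl⟩
          refine ⟨hi x, Prod.ext ?_ ?_⟩
          · show ψ3 a (hi x) = ψ (a + 1) x
            rw [s2 a (by omega)]; rfl
          · show emb (e3 a h) (hi x) = emb (e2 (a + 1) _) x
            rw [emb_trans]
            congr 2
            exact Function.Embedding.ext fun i => Fin.ext (by show a + (1 + (i : ℕ)) = a + 1 + i; omega)
      V_le := fun a h => by
        refine ⟨?_, ?_⟩
        · rw [hB a (by omega), hW a h]
          rintro _ ⟨x, rfl⟩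
          refine ⟨lo3 x, Prod.ext ?_ ?_⟩
          · show f a (lo3 x) = ψ3 a x
            rw [t1 a (by omega)]; rfl
          · show emb (e4 a h) (lo3 x) = emb (e3 a _) x
            rw [emb_trans]
            congr 2
            exact Function.Embedding.ext fun i => Fin.ext (by show a + (0 + (i : ℕ)) = a + i; omega)
        · rw [hB (a + 1) (by omega), hW a h]
          rintro _ ⟨x, rfl⟩
          refine ⟨hi3 x, Prod.ext ?_ ?_⟩
          · show f a (hi3 x) = ψ3 (a + 1) x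
            rw [t2 a (by omega)]; rfl
          · show emb (e4 a h) (hi3 x) = emb (e3 (a + 1) _) x
            rw [emb_trans]
            congr 2
            exact Function.Embedding.ext fun i => Fin.ext (by show a + (1 + (i : ℕ)) = a + 1 + i; omega)
      commAA := fun a b h1 h2 x hx y hy => by
        obtain ⟨x1, x2⟩ := mA (by omega) hx
        obtain ⟨y1, y2⟩ := mA (by omega) hy
        exact Prod.ext (cAA a b h1 (by omega) _ x1 _ y1) (GI_commute hF x2 y2 (hdisj (by omega))).eq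
      commAV := fun a b h1 h2 x hx y hy => by
        obtain ⟨x1, x2⟩ := mA (by omega) hx
        obtain ⟨y1, y2⟩ := mB (by omega) hy
        exact Prod.ext (cAV a b h1 (by omega) _ x1 _ y1) (GI_commute hF x2 y2 (hdisj (by omega))).eq
      commVA := fun a b h1 h2 x hx y hy => by
        obtain ⟨x1, x2⟩ := mB (by omega) hx
        obtain ⟨y1, y2⟩ := mA (by omega) hy
        exact Prod.ext (cVA a b h1 (by omega) _ x1 _ y1) (GI_commute hF x2 y2 (hdisj (by omega))).eq
      commVV := fun a b h1 h2 x hx y hy => by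
        obtain ⟨x1, x2⟩ := mB (by omega) hx
        obtain ⟨y1, y2⟩ := mB (by omega) hy
        exact Prod.ext (cVV a b h1 (by omega) _ x1 _ y1) (GI_commute hF x2 y2 (hdisj (by omega))).eq }
  obtain ⟨s, -, hs⟩ := Q.exists_section
  refine ⟨(MonoidHom.fst G _).comp s, fun a ha g hg => ?_, fun a ha g hg => ?_⟩
  · rw [← s3 a ha] at hg
    obtain ⟨x, rfl⟩ := hg
    have hmem : (ψ a).prod (emb (e2 a (show a + 2 ≤ n + 1 by omega))) x ∈ s.range := by
      rw [hs]
      exact Q.A_le_T (k := a) ⟨Nat.zero_le _, by omega⟩ (show _ ∈ A a by rw [hA a (by omega)]; exact ⟨x, rfl⟩)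
    obtain ⟨w, hw⟩ := hmem
    exact ⟨w, congrArg Prod.fst hw⟩
  · rw [← t3 a ha] at hg
    obtain ⟨x, rfl⟩ := hg
    have hmem : (ψ3 a).prod (emb (e3 a (show a + 3 ≤ n + 1 by omega))) x ∈ s.range := by
      rw [hs]
      exact Q.V_le_T (k := a) ⟨Nat.zero_le _, by omega⟩ (show _ ∈ B a by rw [hB a (by omega)]; exact ⟨x, rfl⟩)
    obtain ⟨w, hw⟩ := hmem
    exact ⟨w, congrArg Prod.fst hw⟩

/-- A standard image of `SU 4` over three consecutive blocks. -/
structure Std4 (g : ↥(SU 4 F q) →* G) (U : ℕ → Subgroup G) (V : ℕ → Subgroup G) (a : ℕ) : Prop where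
  ker_le : g.ker ≤ Subgroup.center ↥(SU 4 F q)
  rangeU : ∀ j, (h : j + 2 ≤ 4) → (g.comp (pair4 j h)).range = U (a + j)
  rangeV0 : (g.comp lo3).range = V a
  rangeV1 : (g.comp hi3).range = V (a + 1)

/-- A scalar fixing a basis vector is trivial, so the blocks embed. -/
theorem inj_block (hF : Fintype.card F = q ^ 2) {g : ↥(SU 4 F q) →* G} (hk : g.ker ≤ Subgroup.center ↥(SU 4 F q))
    {k : ℕ} (e : Fin k ↪ Fin 4) {i : Fin 4} (hi : i ∉ Set.range e) : Function.Injective (g.comp (emb e)) := by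
  refine (injective_iff_map_eq_one _).2 fun x hx => emb_injective e ?_
  have hc : emb e x ∈ Subgroup.center ↥(SU 4 F q) := hk (MonoidHom.mem_ker.2 hx)
  obtain ⟨l, hl⟩ := (H3.mem_center_SU_iff hF (by omega) (emb e x)).1 hc
  have h1 : act (emb e x) (ev i) = l • (ev i : Fin 4 → F) := hl _
  rw [emb_mem e x i hi] at h1
  have hl1 : l = 1 := by simpa [ev, eq_comm] using congrFun h1 i
  rw [map_one]
  refine ext_act fun v => ?_
  rw [act_one]
  show mat (emb e x) *ᵥ v = v
  rw [hl v, hl1, one_smul]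

theorem Std4.inj_lo3 (hF : Fintype.card F = q ^ 2) {g : ↥(SU 4 F q) →* G} {U V : ℕ → Subgroup G} {a : ℕ}
    (h : Std4 g U V a) : Function.Injective (g.comp lo3) :=
  inj_block hF h.ker_le _ (i := 3) (by rw [range_e3]; simp)

theorem Std4.inj_hi3 (hF : Fintype.card F = q ^ 2) {g : ↥(SU 4 F q) →* G} {U V : ℕ → Subgroup G} {a : ℕ}
    (h : Std4 g U V a) : Function.Injective (g.comp hi3) :=
  inj_block hF h.ker_le _ (i := 0) (by rw [range_e3]; simp)

/-- A diagonal semilinear automorphism of three coordinates extends to four. -/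
theorem exists_extension4 (hF : Fintype.card F = q ^ 2) {d : Fin 3 → F} (hd : ∀ i, d i ^ (q + 1) = 1)
    (τ : F ≃+* F) : ∃ E : ↥(SU 4 F q) ≃* ↥(SU 4 F q),
      (∀ x, E (lo3 x) = lo3 (H23.AutPSU.semiHom (H3.guDiag d hd) τ x)) ∧
      ∀ (k : ℕ) (e : Fin k ↪ Fin 4), (emb (F := F) (q := q) e).range.map E.toMonoidHom = (emb e).range := by
  classical
  set c : Fin 4 → F := ![d 0, d 1, d 2, 1] with hc
  have hcn : ∀ i, c i ^ (q + 1) = 1 := fun i => by fin_cases i <;> simp [hc, hd]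
  have hmat : ∀ {N : ℕ} (c : Fin N → F) (hcn : ∀ i, c i ^ (q + 1) = 1) (g : ↥(SU N F q)) i j,
      mat (H23.AutPSU.semiHom (H3.guDiag c hcn) τ g) i j = c i * τ (mat g i j) * c j ^ q := fun c hcn g i j => by
    show (Matrix.diagonal c * (mat g).map τ * Matrix.diagonal (fun k => c k ^ q)) i j = _
    rw [Matrix.mul_diagonal, Matrix.diagonal_mul, Matrix.map_apply]
  let E := H23.AutPSU.semiEquiv (H3.guDiag c hcn) τ
  have hE : ∀ g, E g = H23.AutPSU.semiHom (H3.guDiag c hcn) τ g := fun _ => rfl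
  have hGI : ∀ (I : Set (Fin 4)) (g : ↥(SU 4 F q)), g ∈ GI I → E g ∈ GI I := by
    intro I g hg k hk
    funext l
    have h1 : mat g l k = ev (F := F) k l := by rw [← hg k hk]; simp [act, ev]
    have h2 : act (E g) (ev k) l = mat (E g) l k := by simp [act, ev]
    rw [h2, hE, hmat, h1]
    by_cases hl : l = k
    · subst hl
      simp only [ev, Pi.single_eq_same, map_one, mul_one]
      rw [← pow_succ', hcn]
    · simp [ev, hl]
  refine ⟨E, fun x => ?_, fun k e => Subgroup.eq_of_le_of_card_ge ?_ ?_⟩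
  · obtain ⟨A, hA⟩ := exists_emb _ hF (hGI _ _ (emb_mem (e3 (N := 4) 0 (by omega)) x))
    rw [← hA]
    congr 1
    refine Subtype.ext (Subtype.ext (Matrix.ext fun i j => ?_))
    have hin : ∀ (B : ↥(SU 3 F q)), mat (lo3 B) (e3 (N := 4) 0 (by omega) i) (e3 (N := 4) 0 (by omega) j) = mat B i j :=
      fun B => by simpa [act, ev] using act_emb_ev (e3 (N := 4) 0 (by omega)) B j i
    show mat A i j = mat (H23.AutPSU.semiHom (H3.guDiag d hd) τ x) i j
    rw [← hin A, show lo3 A = E (lo3 x) from hA, hE, hmat, hmat, hin x]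
    fin_cases i <;> fin_cases j <;> simp [hc, e3]
  · rw [range_emb _ hF]
    rintro _ ⟨g, hg, rfl⟩
    exact hGI _ g hg
  · rw [Subgroup.card_map_of_injective (f := E.toMonoidHom) E.injective]

/-- A standard image composed with a diagonal semilinear automorphism stays standard. -/
theorem Std4.twist (hF : Fintype.card F = q ^ 2) {g : ↥(SU 4 F q) →* G} {U V : ℕ → Subgroup G} {a : ℕ}
    (h : Std4 g U V a) {d : Fin 3 → F} (hd : ∀ i, d i ^ (q + 1) = 1) (τ : F ≃+* F) :
    ∃ g' : ↥(SU 4 F q) →* G, Std4 g' U V a ∧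
      ∀ x, g' (lo3 x) = g (lo3 (H23.AutPSU.semiHom (H3.guDiag d hd) τ x)) := by
  obtain ⟨E, hE1, hE2⟩ := exists_extension4 hF hd τ
  refine ⟨g.comp E.toMonoidHom, ⟨fun x hx => ?_, fun j hj => ?_, ?_, ?_⟩, fun x => congrArg g (hE1 x)⟩
  · have h1 := h.ker_le (x := E x) hx
    rw [Subgroup.mem_center_iff] at h1 ⊢
    exact fun y => E.injective (by rw [map_mul, map_mul]; exact h1 _)
  · rw [MonoidHom.comp_assoc, MonoidHom.range_comp, MonoidHom.range_comp, hE2, ← MonoidHom.range_comp]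
    exact h.rangeU j hj
  · rw [MonoidHom.comp_assoc, MonoidHom.range_comp, MonoidHom.range_comp, hE2, ← MonoidHom.range_comp]
    exact h.rangeV0
  · rw [MonoidHom.comp_assoc, MonoidHom.range_comp, MonoidHom.range_comp, hE2, ← MonoidHom.range_comp]
    exact h.rangeV1

/-- The automorphisms of three coordinates preserving both blocks are diagonal semilinear. -/
def Rigid (F : Type*) [Field F] [Fintype F] (q : ℕ) : Prop :=
  ∀ θ : ↥(SU 3 F q) ≃* ↥(SU 3 F q),
    (lo (F := F) (q := q)).range.map θ.toMonoidHom = (lo (F := F) (q := q)).range →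
    (hi (F := F) (q := q)).range.map θ.toMonoidHom = (hi (F := F) (q := q)).range →
    ∃ (d : Fin 3 → F) (hd : ∀ i, d i ^ (q + 1) = 1) (τ : F ≃+* F),
      ∀ x, θ x = H23.AutPSU.semiHom (H3.guDiag d hd) τ x

theorem exists_next4 (hF : Fintype.card F = q ^ 2) (hrig : Rigid F q) {g g' : ↥(SU 4 F q) →* G}
    {U V : ℕ → Subgroup G} {a : ℕ} (h : Std4 g U V a) (h' : Std4 g' U V (a + 1)) :
    ∃ g'' : ↥(SU 4 F q) →* G, Std4 g'' U V (a + 1) ∧ g''.comp lo3 = g.comp hi3 := by
  have heq : (g.comp hi3).range = (g'.comp lo3).range := h.rangeV1.trans h'.rangeV0.symm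
  let θ : ↥(SU 3 F q) ≃* ↥(SU 3 F q) :=
    ((MonoidHom.ofInjective (h.inj_hi3 hF)).trans (MulEquiv.subgroupCongr heq)).trans
      (MonoidHom.ofInjective (h'.inj_lo3 hF)).symm
  have hθ : ∀ x, g' (lo3 (θ x)) = g (hi3 x) := fun x => by
    have h1 := (MonoidHom.ofInjective (h'.inj_lo3 hF)).apply_symm_apply
      (MulEquiv.subgroupCongr heq (MonoidHom.ofInjective (h.inj_hi3 hF) x))
    exact congrArg Subtype.val h1
  have key : ∀ (e : Fin 2 ↪ Fin 3), ((g.comp hi3).comp (emb e)).range = ((g'.comp lo3).comp (emb e)).range →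
      (emb (F := F) (q := q) e).range.map θ.toMonoidHom = (emb e).range := by
    intro e he
    refine Subgroup.eq_of_le_of_card_ge ?_ ?_
    · rintro _ ⟨_, ⟨x, rfl⟩, rfl⟩
      have hx : g (hi3 (emb e x)) ∈ ((g'.comp lo3).comp (emb e)).range := he ▸ ⟨x, rfl⟩
      obtain ⟨y, hy⟩ := hx
      exact ⟨y, h'.inj_lo3 hF (hy.trans (hθ _).symm)⟩
    · rw [Subgroup.card_map_of_injective (f := θ.toMonoidHom) θ.injective]
  obtain ⟨d, hd, τ, hτ⟩ := hrig θ
    (key _ (by
      rw [show (g.comp hi3).comp lo = g.comp (pair4 1 (by omega)) from MonoidHom.ext fun x => congrArg g (hi3_lo x),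
        show (g'.comp lo3).comp lo = g'.comp (pair4 0 (by omega)) from MonoidHom.ext fun x => congrArg g' (lo3_lo x),
        h.rangeU, h'.rangeU]))
    (key _ (by
      rw [show (g.comp hi3).comp hi = g.comp (pair4 2 (by omega)) from MonoidHom.ext fun x => congrArg g (hi3_hi x),
        show (g'.comp lo3).comp hi = g'.comp (pair4 1 (by omega)) from MonoidHom.ext fun x => congrArg g' (lo3_hi x),
        h.rangeU, h'.rangeU]))
  obtain ⟨g'', h'', hg''⟩ := h'.twist hF hd τ
  exact ⟨g'', h'', MonoidHom.ext fun x => (hg'' x).trans (by rw [← hτ]; exact hθ x)⟩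

theorem exists_chain4 (hF : Fintype.card F = q ^ 2) (hrig : Rigid F q) {n : ℕ} (U V : ℕ → Subgroup G)
    (hstd : ∀ a, a + 3 ≤ n → ∃ g : ↥(SU 4 F q) →* G, Std4 g U V a) :
    ∀ m, m + 3 ≤ n → ∃ f : ℕ → (↥(SU 4 F q) →* G), (∀ a, a ≤ m → Std4 (f a) U V a) ∧
      ∀ a, a < m → (f (a + 1)).comp lo3 = (f a).comp hi3 := by
  intro m
  induction m with
  | zero =>
    intro h
    obtain ⟨g, hg⟩ := hstd 0 h
    exact ⟨fun _ => g, fun i hi => by obtain rfl : i = 0 := (by omega); exact hg, fun i hi => by omega⟩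
  | succ m ih =>
    intro h
    obtain ⟨f, h1, h2⟩ := ih (by omega)
    obtain ⟨g', hg'⟩ := hstd (m + 1) h
    obtain ⟨ψ, hψ, hcomp⟩ := exists_next4 hF hrig (h1 m le_rfl) hg'
    refine ⟨Function.update f (m + 1) ψ, fun i hi => ?_, fun i hi => ?_⟩
    · rcases (show i = m + 1 ∨ i ≤ m by omega) with rfl | hle
      · rw [Function.update_self]; exact hψ
      · rw [Function.update_of_ne (by omega)]; exact h1 i hle
    · rcases (show i = m ∨ i < m by omega) with rfl | hlt
      · rw [Function.update_self, Function.update_of_ne (by omega)]; exact hcomp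
      · rw [Function.update_of_ne (by omega), Function.update_of_ne (by omega)]; exact h2 i hlt

/-- Recognition, given standard quadruples and rigidity. -/
theorem exists_surjective4 (hF : Fintype.card F = q ^ 2) (hrig : Rigid F q) (n : ℕ) (hn : 4 ≤ n)
    (U : Fin n → Subgroup G) (V : Fin n → Fin n → Subgroup G) (U' V' : ℕ → Subgroup G)
    (hU' : ∀ i : Fin n, U' (i : ℕ) = U i) (hV' : ∀ i j : Fin n, (i : ℕ) + 1 = j → V' (i : ℕ) = V i j)
    (hstd : ∀ a, a + 3 ≤ n → ∃ g : ↥(SU 4 F q) →* G, Std4 g U' V' a)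
    (hgen : (⨆ i, U i) ⊔ (⨆ (i : Fin n) (j : Fin n) (_ : (i : ℕ) + 1 = j), V i j) = ⊤)
    (cAA : ∀ a b, a + 2 ≤ b → b < n → ∀ x ∈ U' a, ∀ y ∈ U' b, x * y = y * x)
    (cAV : ∀ a b, a + 2 ≤ b → b + 1 < n → ∀ x ∈ U' a, ∀ y ∈ V' b, x * y = y * x)
    (cVA : ∀ a b, a + 3 ≤ b → b < n → ∀ x ∈ V' a, ∀ y ∈ U' b, x * y = y * x)
    (cVV : ∀ a b, a + 3 ≤ b → b + 1 < n → ∀ x ∈ V' a, ∀ y ∈ V' b, x * y = y * x) :
    ∃ f : ↥(SU (n + 1) F q) →* G, Function.Surjective f := by
  obtain ⟨f, hf1, hf2⟩ := exists_chain4 hF hrig U' V' hstd (n - 3) (by omega)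
  obtain ⟨Φ, hΦU, hΦV⟩ := exists_hom4 hF (by omega) f U' V' (fun a j h ha => (hf1 a (by omega)).rangeU j h)
    (fun a ha => (hf1 a (by omega)).rangeV0) (fun a ha => (hf1 a (by omega)).rangeV1)
    (fun a ha => hf2 a (by omega)) cAA cAV cVA cVV
  refine ⟨Φ, MonoidHom.range_eq_top.1 (eq_top_iff.2 (hgen ▸ sup_le (iSup_le fun i => ?_) ?_))⟩
  · rw [← hU']; exact hΦU i i.2
  · refine iSup_le fun i => iSup_le fun j => iSup_le fun hij => ?_
    rw [← hV' i j hij]
    exact hΦV i (by omega)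

end Cfsg.Agent.H78.Phan
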