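import Cfsg.Agent.H78.Phan.Witt

/-!
# The unitary group as completion of the blocks on four adjacent coordinates
-/

set_option autoImplicit false

namespace Cfsg.Agent.H78.Phan

open Matrix Cfsg

variable {F : Type*} [Field F] [Fintype F] {q : ℕ} {N : ℕ}

omit [Fintype F] in
theorem supp_ev {i : Fin N} {c d : ℕ} (h1 : c ≤ (i : ℕ)) (h2 : (i : ℕ) < d) :
    Supp (Iv c d) (ev i : Fin N → F) := fun k hk => by
  have : k ≠ i := fun e => hk (e ▸ ⟨h1, h2⟩)
  simp [ev, this]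

theorem herm_smul_ev (hF : Fintype.card F = q ^ 2) (δ : F) (i : Fin N) :
    hermForm N F q (δ • (ev i : Fin N → F)) (δ • ev i) = nm q δ := by
  rw [H3.hermForm_smul_left hF, H3.hermForm_smul_right hF, herm_ev hF]; simp [ev, nm]

/-- A vector on at least three coordinates is moved into the first two. -/
theorem shrink (hF : Fintype.card F = q ^ 2) {c d : ℕ} (hcd : c + 3 ≤ d) (hd : d ≤ N) {v : Fin N → F}
    (hv : Supp (Iv c d) v) :
    ∃ g ∈ (GI (Iv c d) : Subgroup ↥(SU N F q)), Supp (Iv c (c + 2)) (act g v) := by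
  classical
  by_cases h0 : v = 0
  · exact ⟨1, one_mem _, fun k _ => by rw [h0, act_zero]; rfl⟩
  let i : Fin N := ⟨c, by omega⟩
  let j : Fin N := ⟨c + 1, by omega⟩
  have hij : i ≠ j := fun e => by simp [i, j, Fin.ext_iff] at e
  by_cases hn : hermForm N F q v v = 0
  · obtain ⟨ζ, hζ⟩ := exists_nm hF (μ := (-1 : F)) (by
      rw [show (-1 : F) ^ q = -(1 ^ q) from map_neg (H3.conjQ hF) (1 : F), one_pow])
    set t : Fin N → F := ev i + ζ • ev j with ht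
    have ht2 : Supp (Iv c (c + 2)) t := fun k hk => by
      simp [ht, supp_ev (F := F) (i := i) le_rfl (show c < c + 2 by omega) k hk,
        supp_ev (F := F) (i := j) (show c ≤ c + 1 by omega) (show c + 1 < c + 2 by omega) k hk]
    have htn : hermForm N F q t t = 0 := by
      rw [herm_self, ← Finset.sum_subset (Finset.subset_univ {i, j}) (fun p _ hp => by
        simp only [Finset.mem_insert, Finset.mem_singleton, not_or] at hp
        simp [ht, ev, hp.1, hp.2, nm_zero hF]), Finset.sum_pair hij]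
      simp [ht, ev, hij, hij.symm, nm_one, hζ]
    have ht0 : t ≠ 0 := fun e => by simpa [ht, ev, hij] using congrFun e i
    obtain ⟨g, hg, hgv⟩ := move1 hF hd hv
      (fun k hk => ht2 k fun h => hk ⟨h.1, by have := h.2; omega⟩) (by rw [hn, htn]) (Or.inl ⟨hcd, h0, ht0⟩)
    exact ⟨g, hg, hgv ▸ ht2⟩
  · obtain ⟨δ, hδ⟩ := exists_nm hF (herm_self_pow hF v)
    obtain ⟨g, hg, hgv⟩ := move1 hF hd hv (w := δ • ev i)
      (fun k hk => by simp [supp_ev (F := F) (i := i) le_rfl (show c < d by omega) k hk])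
      (by rw [herm_smul_ev hF, hδ]) (Or.inr ⟨by omega, hn⟩)
    refine ⟨g, hg, ?_⟩
    rw [hgv]
    intro k hk
    simp [supp_ev (F := F) (i := i) le_rfl (show c < c + 2 by omega) k hk]

variable {Γ : Type*} [Group Γ]

/-- Lifts of the blocks on two, three and four coordinates. -/
structure QAmal (π : Γ →* ↥(SU N F q)) where
  A : ℕ → Subgroup Γ
  V : ℕ → Subgroup Γ
  W : ℕ → Subgroup Γ
  hF : Fintype.card F = q ^ 2
  hN : 4 ≤ N
  mapA : ∀ a, a + 2 ≤ N → (A a).map π = GI (Iv a (a + 2))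
  mapV : ∀ a, a + 3 ≤ N → (V a).map π = GI (Iv a (a + 3))
  mapW : ∀ a, a + 4 ≤ N → (W a).map π = GI (Iv a (a + 4))
  injW : ∀ a, a + 4 ≤ N → InjOnS π (W a)
  A_le : ∀ a, a + 3 ≤ N → A a ≤ V a ∧ A (a + 1) ≤ V a
  V_le : ∀ a, a + 4 ≤ N → V a ≤ W a ∧ V (a + 1) ≤ W a
  commAA : ∀ a b, a + 2 ≤ b → b + 2 ≤ N → ∀ x ∈ A a, ∀ y ∈ A b, Commute x y
  commAV : ∀ a b, a + 2 ≤ b → b + 3 ≤ N → ∀ x ∈ A a, ∀ y ∈ V b, Commute x y
  commVA : ∀ a b, a + 3 ≤ b → b + 2 ≤ N → ∀ x ∈ V a, ∀ y ∈ A b, Commute x y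
  commVV : ∀ a b, a + 3 ≤ b → b + 3 ≤ N → ∀ x ∈ V a, ∀ y ∈ V b, Commute x y

namespace QAmal

variable {π : Γ →* ↥(SU N F q)} (Q : QAmal π)

theorem injV {a : ℕ} (ha : a + 3 ≤ N) : InjOnS π (Q.V a) := fun x hx h => by
  by_cases h4 : a + 4 ≤ N
  · exact Q.injW a h4 x ((Q.V_le a h4).1 hx) h
  · obtain ⟨b, rfl⟩ : ∃ b, a = b + 1 := ⟨a - 1, by have := Q.hN; omega⟩
    exact Q.injW b (by omega) x ((Q.V_le b (by omega)).2 hx) h

/-- The lifts over an interval. -/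
def T (a b : ℕ) : Subgroup Γ :=
  (⨆ (k : ℕ) (_ : a ≤ k ∧ k + 2 ≤ b), Q.A k) ⊔ (⨆ (k : ℕ) (_ : a ≤ k ∧ k + 3 ≤ b), Q.V k)

theorem A_le_T {a b k : ℕ} (h : a ≤ k ∧ k + 2 ≤ b) : Q.A k ≤ Q.T a b :=
  le_sup_of_le_left (le_iSup₂_of_le k h le_rfl)

theorem V_le_T {a b k : ℕ} (h : a ≤ k ∧ k + 3 ≤ b) : Q.V k ≤ Q.T a b :=
  le_sup_of_le_right (le_iSup₂_of_le k h le_rfl)

theorem T_le {a b : ℕ} {P : Subgroup Γ} (hA : ∀ k, a ≤ k → k + 2 ≤ b → Q.A k ≤ P)
    (hV : ∀ k, a ≤ k → k + 3 ≤ b → Q.V k ≤ P) : Q.T a b ≤ P :=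
  sup_le (iSup₂_le fun k hk => hA k hk.1 hk.2) (iSup₂_le fun k hk => hV k hk.1 hk.2)

theorem T_mono {a b a' b' : ℕ} (h1 : a' ≤ a) (h2 : b ≤ b') : Q.T a b ≤ Q.T a' b' :=
  Q.T_le (fun _ h3 h4 => Q.A_le_T ⟨by omega, by omega⟩) fun _ h3 h4 => Q.V_le_T ⟨by omega, by omega⟩

theorem T_two (a : ℕ) : Q.T a (a + 2) = Q.A a := by
  refine le_antisymm (Q.T_le (fun k h1 h2 => ?_) fun k h1 h2 => ?_) (Q.A_le_T ⟨le_rfl, le_rfl⟩)
  · obtain rfl : k = a := by omega
    exact le_rfl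
  · omega

theorem T_three {a : ℕ} (ha : a + 3 ≤ N) : Q.T a (a + 3) = Q.V a := by
  refine le_antisymm (Q.T_le (fun k h1 h2 => ?_) fun k h1 h2 => ?_) (Q.V_le_T ⟨le_rfl, le_rfl⟩)
  · rcases (show k = a ∨ k = a + 1 by omega) with rfl | rfl
    · exact (Q.A_le k ha).1
    · exact (Q.A_le a ha).2
  · obtain rfl : k = a := by omega
    exact le_rfl

theorem map_T_le {a b : ℕ} (hb : b ≤ N) : (Q.T a b).map π ≤ GI (Iv a b) :=
  Subgroup.map_le_iff_le_comap.2 (Q.T_le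
    (fun k h1 h2 => Subgroup.map_le_iff_le_comap.1
      ((Q.mapA k (h2.trans hb)).le.trans (GI_mono (Iv_mono h1 h2))))
    fun k h1 h2 => Subgroup.map_le_iff_le_comap.1
      ((Q.mapV k (h2.trans hb)).le.trans (GI_mono (Iv_mono h1 h2))))

theorem map_T : ∀ d a : ℕ, a + (d + 2) ≤ N → (Q.T a (a + (d + 2))).map π = GI (Iv a (a + (d + 2))) := by
  intro d
  induction d with
  | zero => intro a ha; rw [zero_add, Q.T_two, Q.mapA a ha]
  | succ d ih =>
    intro a ha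
    refine le_antisymm (Q.map_T_le ha) ?_
    by_cases hd : d = 0
    · subst hd
      rw [show a + (0 + 1 + 2) = a + 3 by omega, Q.T_three (by omega), Q.mapV a (by omega)]
    · rw [GI_split Q.hF (by omega) ha]
      refine sup_le ?_ ?_
      · rw [← Q.mapA a (by omega)]
        exact Subgroup.map_mono (Q.A_le_T ⟨le_rfl, by omega⟩)
      · rw [show a + (d + 1 + 2) = a + 1 + (d + 2) by omega, ← ih (a + 1) (by omega)]
        exact Subgroup.map_mono (Q.T_mono (by omega) le_rfl)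

theorem lift {a b : ℕ} (h2 : a + 2 ≤ b) (hb : b ≤ N) {g : ↥(SU N F q)} (hg : g ∈ GI (Iv a b)) :
    ∃ x ∈ Q.T a b, π x = g := by
  obtain ⟨d, rfl⟩ : ∃ d, b = a + (d + 2) := ⟨b - a - 2, by omega⟩
  rwa [← Q.map_T d a hb, Subgroup.mem_map] at hg

theorem mem_sub {a b c d : ℕ} (hinj : InjOnS π (Q.T a b)) (h1 : a ≤ c) (h2 : c + 2 ≤ d) (h3 : d ≤ b)
    (hb : b ≤ N) {x : Γ} (hx : x ∈ Q.T a b) (hπ : π x ∈ GI (Iv c d)) : x ∈ Q.T c d := by
  obtain ⟨y, hy, e⟩ := Q.lift h2 (h3.trans hb) hπ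
  rwa [hinj.eq hx (Q.T_mono h1 h3 hy) e.symm]

theorem W_eq {a : ℕ} (ha : a + 4 ≤ N) : Q.W a = Q.A a ⊔ Q.V (a + 1) := by
  have hle : Q.A a ⊔ Q.V (a + 1) ≤ Q.W a :=
    sup_le ((Q.A_le a (by omega)).1.trans (Q.V_le a ha).1) (Q.V_le a ha).2
  refine le_antisymm (fun x hx => ?_) hle
  have h : π x ∈ (Q.A a ⊔ Q.V (a + 1)).map π := by
    rw [Subgroup.map_sup, Q.mapA a (by omega), Q.mapV (a + 1) (by omega),
      show a + 1 + 3 = a + 4 by omega, ← GI_split Q.hF le_rfl ha, ← Q.mapW a ha]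
    exact Subgroup.mem_map_of_mem π hx
  obtain ⟨y, hy, e⟩ := h
  rwa [(Q.injW a ha).eq hx (hle hy) e.symm]

theorem T_split {a b : ℕ} (hab : a + 4 ≤ b) (hb : b ≤ N) : Q.T a b = Q.A a ⊔ Q.T (a + 1) b := by
  refine le_antisymm (Q.T_le (fun k h1 h2 => ?_) fun k h1 h2 => ?_)
    (sup_le (Q.A_le_T ⟨le_rfl, by omega⟩) (Q.T_mono (by omega) le_rfl))
  · rcases (show k = a ∨ a + 1 ≤ k by omega) with rfl | h
    · exact le_sup_left
    · exact le_sup_of_le_right (Q.A_le_T ⟨h, h2⟩)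
  · rcases (show k = a ∨ a + 1 ≤ k by omega) with rfl | h
    · refine ((Q.V_le k (by omega)).1.trans (Q.W_eq (by omega)).le).trans (sup_le le_sup_left ?_)
      exact le_sup_of_le_right (Q.V_le_T ⟨le_rfl, by omega⟩)
    · exact le_sup_of_le_right (Q.V_le_T ⟨h, h2⟩)

theorem T_four {a : ℕ} (ha : a + 4 ≤ N) : Q.T a (a + 4) = Q.W a := by
  rw [Q.T_split le_rfl ha, Q.W_eq ha, show a + 4 = a + 1 + 3 by omega, Q.T_three (by omega)]

theorem comm_A_T {a c d : ℕ} (h : a + 2 ≤ c) (hd : d ≤ N) {x y : Γ} (hx : x ∈ Q.A a) (hy : y ∈ Q.T c d) :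
    Commute x y := by
  have : Q.T c d ≤ Subgroup.centralizer {x} := Q.T_le
    (fun k h1 h2 z hz => Subgroup.mem_centralizer_singleton_iff.2
      (Q.commAA a k (by omega) (h2.trans hd) x hx z hz).eq.symm)
    fun k h1 h2 z hz => Subgroup.mem_centralizer_singleton_iff.2
      (Q.commAV a k (by omega) (h2.trans hd) x hx z hz).eq.symm
  exact ((Subgroup.mem_centralizer_singleton_iff.1 (this hy)).symm : x * y = y * x)

theorem comm_V_T {a c d : ℕ} (h : a + 3 ≤ c) (hd : d ≤ N) {x y : Γ} (hx : x ∈ Q.V a) (hy : y ∈ Q.T c d) :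
    Commute x y := by
  have : Q.T c d ≤ Subgroup.centralizer {x} := Q.T_le
    (fun k h1 h2 z hz => Subgroup.mem_centralizer_singleton_iff.2
      (Q.commVA a k (by omega) (h2.trans hd) x hx z hz).eq.symm)
    fun k h1 h2 z hz => Subgroup.mem_centralizer_singleton_iff.2
      (Q.commVV a k (by omega) (h2.trans hd) x hx z hz).eq.symm
  exact ((Subgroup.mem_centralizer_singleton_iff.1 (this hy)).symm : x * y = y * x)

end QAmal

/-- The data of the induction step. -/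
structure QStep {π : Γ →* ↥(SU N F q)} (Q : QAmal π) where
  a : ℕ
  b : ℕ
  hab : a + 5 ≤ b
  hbN : b ≤ N
  ih : InjOnS π (Q.T (a + 1) b)

namespace QStep

variable {π : Γ →* ↥(SU N F q)} {Q : QAmal π} (S : QStep Q)

/-- The first coordinate. -/
def p0 : Fin N := ⟨S.a, by have := S.hab; have := S.hbN; omega⟩

/-- The second coordinate. -/
def p1 : Fin N := ⟨S.a + 1, by have := S.hab; have := S.hbN; omega⟩

theorem hN2 : S.a + 2 ≤ N := by have := S.hab; have := S.hbN; omega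

theorem hN3 : S.a + 3 ≤ N := by have := S.hab; have := S.hbN; omega

theorem hN4 : S.a + 4 ≤ N := by have := S.hab; have := S.hbN; omega

theorem p0_notMem {c d : ℕ} (h : S.a < c) : S.p0 ∉ (Iv c d : Set (Fin N)) := fun hm => by
  have h1 : c ≤ S.a := hm.1
  omega

/-- The first vector. -/
abbrev e : Fin N → F := ev S.p0

/-- The lift of the stabiliser. -/
abbrev T1 : Subgroup Γ := Q.T (S.a + 1) S.b

theorem map_T1 {x : Γ} (hx : x ∈ S.T1) : π x ∈ GI (Iv (S.a + 1) S.b) :=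
  Q.map_T_le S.hbN (Subgroup.mem_map_of_mem π hx)

theorem T1_fix_e {x : Γ} (hx : x ∈ S.T1) : act (π x) S.e = S.e :=
  S.map_T1 hx S.p0 (S.p0_notMem (Nat.lt_succ_self _))

theorem mapA_mem {x : Γ} (hx : x ∈ Q.A S.a) : π x ∈ GI (Iv S.a (S.a + 2)) :=
  Q.mapA S.a S.hN2 ▸ Subgroup.mem_map_of_mem π hx

theorem mapV_mem {x : Γ} (hx : x ∈ Q.V S.a) : π x ∈ GI (Iv S.a (S.a + 3)) :=
  Q.mapV S.a S.hN3 ▸ Subgroup.mem_map_of_mem π hx

theorem mapW_mem {x : Γ} (hx : x ∈ Q.W S.a) : π x ∈ GI (Iv S.a (S.a + 4)) :=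
  Q.mapW S.a S.hN4 ▸ Subgroup.mem_map_of_mem π hx

theorem A_le_W : Q.A S.a ≤ Q.W S.a := (Q.A_le S.a S.hN3).1.trans (Q.V_le S.a S.hN4).1

theorem A1_le_W : Q.A (S.a + 1) ≤ Q.W S.a := (Q.A_le S.a S.hN3).2.trans (Q.V_le S.a S.hN4).1

theorem V_le_W : Q.V S.a ≤ Q.W S.a := (Q.V_le S.a S.hN4).1

theorem V1_le_W : Q.V (S.a + 1) ≤ Q.W S.a := (Q.V_le S.a S.hN4).2

theorem A1_le_T1 : Q.A (S.a + 1) ≤ S.T1 := Q.A_le_T ⟨le_rfl, by have := S.hab; omega⟩

theorem V1_le_T1 : Q.V (S.a + 1) ≤ S.T1 := Q.V_le_T ⟨le_rfl, by have := S.hab; omega⟩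

theorem fixW {x : Γ} (hx : x ∈ Q.W S.a) (he : act (π x) S.e = S.e) : x ∈ S.T1 := by
  have h : π x ∈ (Q.V (S.a + 1)).map π := by
    rw [Q.mapV (S.a + 1) (by have := S.hN4; omega), show S.a + 1 + 3 = S.a + 4 by omega]
    exact mem_GI_fix (S.mapW_mem hx) rfl he
  obtain ⟨y, hy, e⟩ := h
  rw [(Q.injW S.a S.hN4).eq hx (S.V1_le_W hy) e.symm]
  exact S.V1_le_T1 hy

theorem fix_quot {w1 w2 x : Γ} (hw1 : w1 ∈ Q.W S.a) (hw2 : w2 ∈ Q.W S.a) (hx : x ∈ Q.W S.a)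
    (h : act (π x) (act (π w1) S.e) = act (π w2) S.e) : w2⁻¹ * x * w1 ∈ S.T1 := by
  refine S.fixW (mul_mem (mul_mem (inv_mem hw2) hx) hw1) ?_
  rw [map_mul, map_mul, map_inv, act_mul, act_mul, h]
  exact act_inv_eq rfl

/-- The unit vectors of the step. -/
def Unit' (v : Fin N → F) : Prop := Supp (Iv S.a S.b) v ∧ hermForm N F q v v = 1

theorem unit_act {g : ↥(SU N F q)} (hg : g ∈ GI (Iv S.a S.b)) {v : Fin N → F} (hv : S.Unit' v) :
    S.Unit' (act g v) := ⟨act_supp Q.hF hg hv.1, (herm_act g v v).trans hv.2⟩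

theorem unit_e : S.Unit' S.e :=
  ⟨supp_ev le_rfl (show S.a < S.b by have := S.hab; omega), by rw [herm_ev Q.hF]; simp [ev]⟩

theorem map_T1_I {x : Γ} (hx : x ∈ S.T1) : π x ∈ GI (Iv S.a S.b) :=
  GI_mono (Iv_mono (by omega) le_rfl) (S.map_T1 hx)

theorem mapA_I {x : Γ} (hx : x ∈ Q.A S.a) : π x ∈ GI (Iv S.a S.b) :=
  GI_mono (Iv_mono le_rfl (by have := S.hab; omega)) (S.mapA_mem hx)

/-- A representative of a vector. -/
def Rep (v : Fin N → F) (k w : Γ) : Prop := k ∈ S.T1 ∧ w ∈ Q.V S.a ∧ act (π (k * w)) S.e = v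

theorem tail_supp {v : Fin N → F} {c : ℕ} (hv : Supp (Iv S.a c) v) :
    Supp (Iv (S.a + 1) c) (v - v S.p0 • S.e) := fun k hk => by
  by_cases h : k = S.p0
  · subst h; simp [ev]
  · simp only [Pi.sub_apply, Pi.smul_apply, ev, Pi.single_eq_of_ne h, smul_zero, sub_zero]
    refine hv k fun hm => hk ⟨?_, hm.2⟩
    have h1 := hm.1
    simp only [p0, Fin.ext_iff] at h
    omega

/-- Representatives inside a shorter interval. -/
theorem exists_rep_in {c : ℕ} (hc : S.a + 4 ≤ c) (hcb : c ≤ S.b) {v : Fin N → F} (hv : Supp (Iv S.a c) v)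
    (hn : hermForm N F q v v = 1) :
    ∃ k ∈ Q.T (S.a + 1) c, ∃ w ∈ Q.V S.a, act (π (k * w)) S.e = v := by
  have hcN : c ≤ N := hcb.trans S.hbN
  obtain ⟨g, hg, hgv⟩ := shrink Q.hF (show S.a + 1 + 3 ≤ c by omega) hcN (S.tail_supp hv)
  have hge : act g v = v S.p0 • S.e + act g (v - v S.p0 • S.e) := by
    conv_lhs => rw [← add_sub_cancel (v S.p0 • S.e) v]
    rw [act_add, act_smul, hg S.p0 (S.p0_notMem (Nat.lt_succ_self _))]
  have hgs : Supp (Iv S.a (S.a + 3)) (act g v) := fun k hk => by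
    rw [hge, Pi.add_apply, hgv k fun h => hk ⟨by have := h.1; omega, h.2⟩, add_zero]
    simp [supp_ev (F := F) (i := S.p0) le_rfl (show S.a < S.a + 3 by omega) k hk]
  have h0 : act g v ≠ 0 := fun e => by
    have h := herm_act g v v
    rw [e, hn, H3.hermForm_zero_left Q.hF] at h
    exact zero_ne_one h
  obtain ⟨x, hx, hxe⟩ := move1 (a := S.a) Q.hF S.hN3 (supp_ev (F := F) (i := S.p0) le_rfl (show S.a < S.a + 3 by omega))
    hgs (by rw [herm_act, hn, herm_ev Q.hF]; simp [ev])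
    (Or.inl ⟨le_rfl, fun e => by simpa [ev] using congrFun e S.p0, h0⟩)
  rw [← Q.mapV S.a S.hN3] at hx
  obtain ⟨w, hw, rfl⟩ := hx
  obtain ⟨k, hk, hπ⟩ := Q.lift (a := S.a + 1) (b := c) (by omega) hcN (inv_mem hg)
  exact ⟨k, hk, w, hw, by rw [map_mul, act_mul, hxe, hπ]; exact act_inv_eq rfl⟩

theorem exists_rep {v : Fin N → F} (hv : S.Unit' v) : ∃ k w, S.Rep v k w := by
  obtain ⟨k, hk, w, hw, h⟩ := S.exists_rep_in (by have := S.hab; omega) le_rfl hv.1 hv.2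
  exact ⟨k, w, hk, hw, h⟩

theorem normalise {w : Γ} (hw : w ∈ Q.V S.a)
    (hc : hermForm N F q (act (π w) S.e - act (π w) S.e S.p0 • S.e)
        (act (π w) S.e - act (π w) S.e S.p0 • S.e) ≠ 0 ∨ act (π w) S.e - act (π w) S.e S.p0 • S.e = 0) :
    ∃ h ∈ S.T1, ∃ w0 ∈ Q.A S.a, (h * w0)⁻¹ * w ∈ S.T1 := by
  set p := act (π w) S.e with hp
  set r := p - p S.p0 • S.e with hr
  have hps : Supp (Iv S.a (S.a + 3)) p :=
    act_supp Q.hF (S.mapV_mem hw) (supp_ev le_rfl (show S.a < S.a + 3 by omega))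
  have hpn : hermForm N F q p p = 1 := (herm_act _ _ _).trans S.unit_e.2
  obtain ⟨g, hg, hgr⟩ : ∃ g ∈ (GI (Iv (S.a + 1) (S.a + 3)) : Subgroup ↥(SU N F q)),
      Supp (Iv S.a (S.a + 2)) (act g r) := by
    rcases hc with hc | hc
    · obtain ⟨δ, hδ⟩ := exists_nm Q.hF (herm_self_pow Q.hF r)
      obtain ⟨g, hg, hgr⟩ := move1 Q.hF S.hN3 (S.tail_supp hps) (w := δ • ev S.p1)
        (fun k hk => by
          simp [supp_ev (F := F) (i := S.p1) le_rfl (show S.a + 1 < S.a + 3 by omega) k hk])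
        (by rw [herm_smul_ev Q.hF, hδ]) (Or.inr ⟨by omega, hc⟩)
      refine ⟨g, hg, fun k hk => ?_⟩
      rw [hgr]
      simp [supp_ev (F := F) (i := S.p1) (show S.a ≤ S.a + 1 by omega) (show S.a + 1 < S.a + 2 by omega) k hk]
    · exact ⟨1, one_mem _, fun k _ => by rw [hc, act_zero]; rfl⟩
  rw [show S.a + 3 = S.a + 1 + 2 by omega, ← Q.mapA (S.a + 1) (by have := S.hN3; omega)] at hg
  obtain ⟨h, hh, rfl⟩ := hg
  have hsupp : Supp (Iv S.a (S.a + 2)) (act (π h) p) := fun k hk => by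
    rw [show p = p S.p0 • S.e + r by rw [hr, add_sub_cancel], act_add, act_smul,
      S.T1_fix_e (S.A1_le_T1 hh), Pi.add_apply, hgr k hk, add_zero]
    simp [supp_ev (F := F) (i := S.p0) le_rfl (show S.a < S.a + 2 by omega) k hk]
  obtain ⟨x, hx, hxe⟩ := move1 (a := S.a) Q.hF S.hN2 (supp_ev (F := F) (i := S.p0) le_rfl (show S.a < S.a + 2 by omega))
    hsupp (by rw [herm_act, hpn]; exact S.unit_e.2) (Or.inr ⟨le_rfl, by rw [S.unit_e.2]; exact one_ne_zero⟩)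
  rw [← Q.mapA S.a S.hN2] at hx
  obtain ⟨w0, hw0, rfl⟩ := hx
  refine ⟨h⁻¹, inv_mem (S.A1_le_T1 hh), w0, hw0, ?_⟩
  rw [show (h⁻¹ * w0)⁻¹ * w = w0⁻¹ * h * w by group]
  exact S.fix_quot (S.V_le_W hw) (S.A_le_W hw0) (S.A1_le_W hh) (by rw [← hp, hxe])

theorem rep_unique_A {w1 w2 d : Γ} (hw1 : w1 ∈ Q.A S.a) (hw2 : w2 ∈ Q.A S.a) (hd : d ∈ S.T1)
    (he : act (π d) (act (π w1) S.e) = act (π w2) S.e) : w2⁻¹ * d * w1 ∈ S.T1 := by
  set p := act (π w1) S.e with hp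
  set p' := act (π w2) S.e with hp'
  have hpair : ∀ {w}, w ∈ Q.A S.a → act (π w) S.e =
      act (π w) S.e S.p0 • S.e + act (π w) S.e S.p1 • ev S.p1 := fun {w} hw => funext fun k => by
    by_cases h0 : k = S.p0
    · subst h0; simp [ev, p0, p1, Fin.ext_iff]
    by_cases h1 : k = S.p1
    · subst h1; simp [ev, p0, p1, Fin.ext_iff]
    rw [act_supp Q.hF (S.mapA_mem hw) (supp_ev le_rfl (show S.a < S.a + 2 by omega)) k fun h => by
      have := h.1; have := h.2; simp only [p0, p1, Fin.ext_iff] at h0 h1; omega]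
    simp [ev, h0, h1]
  have hx : p S.p1 • act (π d) (ev S.p1) = p' S.p1 • ev S.p1 := by
    have h := he
    rw [hp, hpair hw1, act_add, act_smul, act_smul, S.T1_fix_e hd, ← hp, hp', hpair hw2, ← hp',
      show p' S.p0 = p S.p0 by rw [← he]; exact act_coord Q.hF (S.map_T1 hd) p (S.p0_notMem (Nat.lt_succ_self _))]
      at h
    exact add_left_cancel h
  by_cases hx0 : p S.p1 = 0
  · have hp1 : p' S.p1 = 0 := by
      have := congrFun hx S.p1
      simpa [hx0, ev] using this.symm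
    have hpp : p = p S.p0 • S.e := by
      conv_lhs => rw [hp, hpair hw1, ← hp, hx0, zero_smul, add_zero]
    have hpp' : p' = p := by rw [← he, hpp, act_smul, S.T1_fix_e hd]
    have key : S.T1 ≤ S.T1.comap (MulAut.conj w1⁻¹).toMonoidHom := by
      conv_lhs => rw [show S.T1 = Q.A (S.a + 1) ⊔ Q.T (S.a + 1 + 1) S.b from
        Q.T_split (by have := S.hab; omega) S.hbN]
      refine sup_le (fun y hy => ?_) fun y hy => ?_
      · show w1⁻¹ * y * w1⁻¹⁻¹ ∈ S.T1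
        rw [inv_inv]
        exact S.fix_quot (S.A_le_W hw1) (S.A_le_W hw1) (S.A1_le_W hy)
          (by rw [← hp, hpp, act_smul, S.T1_fix_e (S.A1_le_T1 hy)])
      · show w1⁻¹ * y * w1⁻¹⁻¹ ∈ S.T1
        rw [inv_inv, mul_assoc, ← (Q.comm_A_T (by omega) S.hbN hw1 hy).eq, inv_mul_cancel_left]
        exact Q.T_mono (by omega) le_rfl hy
    have h2 : w1⁻¹ * d * w1 ∈ S.T1 := by simpa using key hd
    have h3 : w2⁻¹ * 1 * w1 ∈ S.T1 := S.fix_quot (S.A_le_W hw1) (S.A_le_W hw2) (one_mem _)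
      (by rw [map_one, act_one, ← hp, ← hp', hpp'])
    have := mul_mem h3 h2
    rwa [show w2⁻¹ * 1 * w1 * (w1⁻¹ * d * w1) = w2⁻¹ * d * w1 by group] at this
  · set ζ := (p S.p1)⁻¹ * p' S.p1 with hζ
    have hd1 : act (π d) (ev S.p1) = ζ • ev S.p1 := by
      rw [hζ, mul_smul, ← hx, smul_smul, inv_mul_cancel₀ hx0, one_smul]
    have hζn : nm q ζ = 1 := by
      rw [← herm_smul_ev Q.hF ζ S.p1, ← hd1, herm_act, herm_ev Q.hF]; simp [ev]
    obtain ⟨g, hg, hg1⟩ := move1 Q.hF (show S.a + 3 ≤ N from S.hN3)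
      (supp_ev (F := F) (i := S.p1) (c := S.a + 1) (d := S.a + 3) le_rfl (show S.a + 1 < S.a + 3 by omega))
      (w := ζ • ev S.p1)
      (fun k hk => by simp [supp_ev (F := F) (i := S.p1) le_rfl (show S.a + 1 < S.a + 3 by omega) k hk])
      (by rw [herm_smul_ev Q.hF, hζn, herm_ev Q.hF]; simp [ev])
      (Or.inr ⟨by omega, by rw [herm_ev Q.hF]; simp [ev]⟩)
    rw [show S.a + 3 = S.a + 1 + 2 by omega, ← Q.mapA (S.a + 1) (by have := S.hN3; omega)] at hg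
    obtain ⟨d', hd', rfl⟩ := hg
    set t := d'⁻¹ * d with ht
    have htT : t ∈ S.T1 := mul_mem (inv_mem (S.A1_le_T1 hd')) hd
    have htfix : act (π t) (ev S.p1) = ev S.p1 := by
      rw [ht, map_mul, map_inv, act_mul, hd1]; exact act_inv_eq hg1
    have ht2 : t ∈ Q.T (S.a + 1 + 1) S.b :=
      Q.mem_sub S.ih (by omega) (by have := S.hab; omega) le_rfl S.hbN htT
        (mem_GI_fix (S.map_T1 htT) rfl htfix)
    have h3 : w2⁻¹ * d' * w1 ∈ S.T1 := S.fix_quot (S.A_le_W hw1) (S.A_le_W hw2) (S.A1_le_W hd') (by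
      rw [← hp, ← hp', ← he]
      have : act (π t) p = p := by
        rw [hp, hpair hw1, act_add, act_smul, act_smul, S.T1_fix_e htT, htfix]
      conv_lhs => rw [← this]
      rw [← act_mul, ← map_mul, ht, mul_inv_cancel_left])
    rw [show w2⁻¹ * d * w1 = w2⁻¹ * d' * (t * w1) by rw [ht]; group,
      ← (Q.comm_A_T (by omega) S.hbN hw1 ht2).eq, show w2⁻¹ * d' * (w1 * t) = w2⁻¹ * d' * w1 * t by group]
    exact mul_mem h3 htT

theorem rep_unique {v : Fin N → F} {k1 w1 k2 w2 : Γ} (h1 : S.Rep v k1 w1) (h2 : S.Rep v k2 w2) :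
    ((k1 * w1 : Γ) : Γ ⧸ S.T1) = ((k2 * w2 : Γ) : Γ ⧸ S.T1) := by
  obtain ⟨hk1, hw1, e1⟩ := h1
  obtain ⟨hk2, hw2, e2⟩ := h2
  symm
  rw [QuotientGroup.eq, show (k2 * w2)⁻¹ * (k1 * w1) = w2⁻¹ * (k2⁻¹ * k1) * w1 by group]
  set d := k2⁻¹ * k1 with hd
  have hdT : d ∈ S.T1 := mul_mem (inv_mem hk2) hk1
  set p := act (π w1) S.e with hp
  set p' := act (π w2) S.e with hp'
  have hdp : act (π d) p = p' := by
    rw [hd, map_mul, map_inv, act_mul]
    refine act_inv_eq ?_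
    rw [map_mul, act_mul] at e1 e2
    rw [hp', hp, e1, e2]
  set r := p - p S.p0 • S.e with hr
  set r' := p' - p' S.p0 • S.e with hr'
  have hp0 : p' S.p0 = p S.p0 := by
    rw [← hdp, act_coord Q.hF (S.map_T1 hdT) p (S.p0_notMem (Nat.lt_succ_self _))]
  have hpe : p = p S.p0 • S.e + r := by rw [hr, add_sub_cancel]
  have hpe' : p' = p' S.p0 • S.e + r' := by rw [hr', add_sub_cancel]
  have hdr : act (π d) r = r' := by
    have h := hdp
    rw [hpe, act_add, act_smul, S.T1_fix_e hdT, hpe', hp0] at h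
    exact add_left_cancel h
  by_cases hc : hermForm N F q r r ≠ 0 ∨ r = 0
  · have hc' : hermForm N F q r' r' ≠ 0 ∨ r' = 0 := by
      rcases hc with hc | hc
      · exact Or.inl (by rw [← hdr, herm_act]; exact hc)
      · exact Or.inr (by rw [← hdr, hc, act_zero])
    obtain ⟨a1, ha1, u1, hu1, z1⟩ := S.normalise hw1 hc
    obtain ⟨a2, ha2, u2, hu2, z2⟩ := S.normalise hw2 hc'
    have hd' : a2⁻¹ * d * a1 ∈ S.T1 := mul_mem (mul_mem (inv_mem ha2) hdT) ha1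
    have hew : ∀ {x y}, (x * y)⁻¹ * w1 ∈ S.T1 → act (π x) (act (π y) S.e) = p := fun {x y} hxy => by
      rw [hp, show w1 = x * y * ((x * y)⁻¹ * w1) by group, map_mul, act_mul, S.T1_fix_e hxy, map_mul, act_mul]
    have hew' : ∀ {x y}, (x * y)⁻¹ * w2 ∈ S.T1 → act (π x) (act (π y) S.e) = p' := fun {x y} hxy => by
      rw [hp', show w2 = x * y * ((x * y)⁻¹ * w2) by group, map_mul, act_mul, S.T1_fix_e hxy, map_mul, act_mul]
    have := S.rep_unique_A hu1 hu2 hd' (by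
      rw [map_mul, map_mul, map_inv, act_mul, act_mul, hew z1, hdp]
      exact act_inv_eq (hew' z2))
    have := mul_mem (mul_mem (inv_mem z2) this) z1
    rwa [show ((a2 * u2)⁻¹ * w2)⁻¹ * (u2⁻¹ * (a2⁻¹ * d * a1) * u1) * ((a1 * u1)⁻¹ * w1) = w2⁻¹ * d * w1 by
      group] at this
  · push Not at hc
    have hps : ∀ {w}, w ∈ Q.V S.a → Supp (Iv (S.a + 1) (S.a + 4))
        (act (π w) S.e - act (π w) S.e S.p0 • S.e) := fun {w} hw =>
      S.tail_supp fun k hk => act_supp Q.hF (S.mapV_mem hw) (supp_ev le_rfl (show S.a < S.a + 3 by omega)) k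
        fun h => hk ⟨h.1, by have := h.2; omega⟩
    have hr0 : r' ≠ 0 := fun e => hc.2 (by
      have := act_inv_eq hdr
      rw [e, act_zero] at this
      exact this.symm)
    obtain ⟨g, hg, hgr⟩ := move1 Q.hF S.hN4 (hps hw1) (hps hw2)
      (show hermForm N F q r r = hermForm N F q r' r' by rw [← hdr, herm_act])
      (Or.inl ⟨by omega, hc.2, hr0⟩)
    rw [show S.a + 4 = S.a + 1 + 3 by omega, ← Q.mapV (S.a + 1) (by have := S.hN4; omega)] at hg
    obtain ⟨d', hd', rfl⟩ := hg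
    have h3 : w2⁻¹ * d' * w1 ∈ S.T1 := S.fix_quot (S.V_le_W hw1) (S.V_le_W hw2) (S.V1_le_W hd') (by
      rw [← hp, ← hp', hpe, act_add, act_smul, S.T1_fix_e (S.V1_le_T1 hd'), hgr, ← hp0, ← hpe'])
    set t := d'⁻¹ * d with ht
    have htT : t ∈ S.T1 := mul_mem (inv_mem (S.V1_le_T1 hd')) hdT
    have htr : act (π t) r = r := by
      rw [ht, map_mul, map_inv, act_mul, hdr]; exact act_inv_eq hgr
    have hrs : Supp (Iv (S.a + 1) (S.a + 1 + 2)) r :=
      S.tail_supp (act_supp Q.hF (S.mapV_mem hw1) (supp_ev le_rfl (show S.a < S.a + 3 by omega)))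
    let K : Subgroup Γ := S.T1 ⊓ S.T1.comap (MulAut.conj w1⁻¹).toMonoidHom
    have hK : ∀ {y}, y ∈ S.T1 → w1⁻¹ * y * w1 ∈ S.T1 → y ∈ K := fun {y} hy hy' =>
      ⟨hy, by show w1⁻¹ * y * w1⁻¹⁻¹ ∈ S.T1; rwa [inv_inv]⟩
    have hP := stab_iso Q.hF (P := K.map π) (a := S.a + 1) (b := S.b) (by have := S.hab; omega) S.hbN hrs
      hc.1 hc.2 (fun x hx => by
        obtain ⟨y, hy, rfl⟩ := Q.lift (a := S.a + 1 + 2) (b := S.b) (by have := S.hab; omega) S.hbN hx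
        refine Subgroup.mem_map_of_mem π (hK (Q.T_mono (by omega) le_rfl hy) ?_)
        rw [mul_assoc, ← (Q.comm_V_T (by omega) S.hbN hw1 hy).eq, inv_mul_cancel_left]
        exact Q.T_mono (by omega) le_rfl hy)
      (fun x hx hxr => by
        rw [← Q.mapV (S.a + 1) (by have := S.hN4; omega)] at hx
        obtain ⟨y, hy, rfl⟩ := hx
        refine Subgroup.mem_map_of_mem π (hK (S.V1_le_T1 hy) ?_)
        exact S.fix_quot (S.V_le_W hw1) (S.V_le_W hw1) (S.V1_le_W hy) (by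
          rw [← hp, hpe, act_add, act_smul, S.T1_fix_e (S.V1_le_T1 hy), hxr]))
      (S.map_T1 htT) htr
    obtain ⟨y, hy, e⟩ := hP
    rw [S.ih.eq hy.1 htT e] at hy
    have h4 : w1⁻¹ * t * w1 ∈ S.T1 := by simpa using hy.2
    have := mul_mem h3 h4
    rwa [show w2⁻¹ * d' * w1 * (w1⁻¹ * t * w1) = w2⁻¹ * d * w1 by rw [ht]; group] at this

open scoped Classical in
/-- The coset of a unit vector. -/
noncomputable def cv (v : Fin N → F) : Γ ⧸ S.T1 :=
  if h : ∃ p : Γ × Γ, S.Rep v p.1 p.2 then ((h.choose.1 * h.choose.2 : Γ) : Γ ⧸ S.T1) else ((1 : Γ) : Γ ⧸ S.T1)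

theorem cv_eq {v : Fin N → F} {k w : Γ} (h : S.Rep v k w) : S.cv v = ((k * w : Γ) : Γ ⧸ S.T1) := by
  have h' : ∃ p : Γ × Γ, S.Rep v p.1 p.2 := ⟨(k, w), h⟩
  rw [cv, dif_pos h']
  exact S.rep_unique h'.choose_spec h

theorem cv_e : S.cv S.e = ((1 : Γ) : Γ ⧸ S.T1) := by
  rw [S.cv_eq (k := 1) (w := 1) ⟨one_mem _, one_mem _, by rw [mul_one, map_one, act_one]⟩, mul_one]

theorem cv_T1 {y : Γ} (hy : y ∈ S.T1) {v : Fin N → F} (hv : S.Unit' v) : S.cv (act (π y) v) = y • S.cv v := by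
  obtain ⟨k, w, hk, hw, he⟩ := S.exists_rep hv
  rw [S.cv_eq (k := y * k) (w := w) ⟨mul_mem hy hk, hw, by rw [mul_assoc, map_mul, act_mul, he]⟩,
    S.cv_eq ⟨hk, hw, he⟩, MulAction.Quotient.smul_coe, smul_eq_mul, mul_assoc]

theorem cv_W {z : Γ} (hz : z ∈ Q.W S.a) : S.cv (act (π z) S.e) = (z : Γ ⧸ S.T1) := by
  have hs : Supp (Iv S.a (S.a + 4)) (act (π z) S.e) :=
    act_supp Q.hF (S.mapW_mem hz) (supp_ev le_rfl (show S.a < S.a + 4 by omega))
  obtain ⟨k, hk, w, hw, he⟩ := S.exists_rep_in le_rfl (by have := S.hab; omega) hs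
    ((herm_act _ _ _).trans S.unit_e.2)
  have hkV : k ∈ Q.V (S.a + 1) := by
    rwa [show S.a + 4 = S.a + 1 + 3 by omega, Q.T_three (by have := S.hN4; omega)] at hk
  rw [S.cv_eq ⟨S.V1_le_T1 hkV, hw, he⟩, QuotientGroup.eq]
  refine S.fixW (mul_mem (inv_mem (mul_mem (S.V1_le_W hkV) (S.V_le_W hw))) hz) ?_
  rw [map_mul, map_inv, act_mul]
  exact act_inv_eq he

theorem cv_A {u : Γ} (hu : u ∈ Q.A S.a) {v : Fin N → F} (hv : S.Unit' v) :
    S.cv (act (π u) v) = u • S.cv v := by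
  set rest := v - v S.p0 • S.e - v S.p1 • ev S.p1 with hrest
  have hrs : Supp (Iv (S.a + 2) S.b) rest := fun k hk => by
    by_cases h0 : k = S.p0
    · subst h0; simp [hrest, ev, p0, p1, Fin.ext_iff]
    by_cases h1 : k = S.p1
    · subst h1; simp [hrest, ev, p0, p1, Fin.ext_iff]
    simp only [hrest, Pi.sub_apply, Pi.smul_apply, ev, Pi.single_eq_of_ne h0, Pi.single_eq_of_ne h1, smul_zero,
      sub_zero]
    refine hv.1 k fun hm => hk ⟨?_, hm.2⟩
    have := hm.1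
    simp only [p0, p1, Fin.ext_iff] at h0 h1
    omega
  obtain ⟨g, hg, hgs⟩ := shrink Q.hF (show S.a + 2 + 3 ≤ S.b from S.hab) S.hbN hrs
  obtain ⟨m, hm, rfl⟩ := Q.lift (by have := S.hab; omega) S.hbN hg
  have hmT : m ∈ S.T1 := Q.T_mono (by omega) le_rfl hm
  have hx : Supp (Iv S.a (S.a + 4)) (act (π m) v) := fun k hk => by
    rw [show v = v S.p0 • S.e + v S.p1 • ev S.p1 + rest by rw [hrest]; abel, act_add, act_add, act_smul,
      act_smul, S.T1_fix_e hmT, hg S.p1 (fun h => by have h1 : S.a + 2 ≤ S.a + 1 := h.1; omega),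
      Pi.add_apply, hgs k fun h => hk ⟨by have := h.1; omega, h.2⟩]
    simp [supp_ev (F := F) (i := S.p0) le_rfl (show S.a < S.a + 4 by omega) k hk,
      supp_ev (F := F) (i := S.p1) (show S.a ≤ S.a + 1 by omega) (show S.a + 1 < S.a + 4 by omega) k hk]
  obtain ⟨k, hk, w, hw, he⟩ := S.exists_rep_in le_rfl (by have := S.hab; omega) hx
    ((herm_act _ _ _).trans hv.2)
  have hkV : k ∈ Q.V (S.a + 1) := by
    rwa [show S.a + 4 = S.a + 1 + 3 by omega, Q.T_three (by have := S.hN4; omega)] at hk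
  have hz : k * w ∈ Q.W S.a := mul_mem (S.V1_le_W hkV) (S.V_le_W hw)
  have e1 : S.cv (act (π m) (act (π u) v)) = u • m • S.cv v := by
    rw [← act_mul, ← map_mul, ← (Q.comm_A_T le_rfl S.hbN hu hm).eq, map_mul, act_mul, ← he, ← act_mul,
      ← map_mul, S.cv_W (mul_mem (S.A_le_W hu) hz), ← S.cv_T1 hmT hv, ← he, S.cv_W hz,
      MulAction.Quotient.smul_coe, smul_eq_mul]
  rw [S.cv_T1 hmT (S.unit_act (S.mapA_I hu) hv), smul_smul, (Q.comm_A_T le_rfl S.hbN hu hm).eq, ← smul_smul,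
    smul_left_cancel_iff] at e1
  exact e1

/-- The elements for which the coset map is equivariant. -/
def EqG : Subgroup Γ where
  carrier := {g | π g ∈ GI (Iv S.a S.b) ∧ ∀ v, S.Unit' v → S.cv (act (π g) v) = g • S.cv v}
  one_mem' := ⟨by rw [map_one]; exact one_mem _, fun v _ => by rw [map_one, act_one, one_smul]⟩
  mul_mem' := fun {g h} hg hh => ⟨by rw [map_mul]; exact mul_mem hg.1 hh.1, fun v hv => by
    rw [map_mul, act_mul, hg.2 _ (S.unit_act hh.1 hv), hh.2 v hv, mul_smul]⟩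
  inv_mem' := fun {g} hg => ⟨by rw [map_inv]; exact inv_mem hg.1, fun v hv => by
    have h := hg.2 _ (S.unit_act (inv_mem hg.1) hv)
    rw [act_act_inv] at h
    rw [map_inv, eq_inv_smul_iff]
    exact h.symm⟩

theorem inj : InjOnS π (Q.T S.a S.b) := by
  have hle : Q.T S.a S.b ≤ S.EqG := by
    rw [Q.T_split (by have := S.hab; omega) S.hbN]
    exact sup_le (fun u hu => ⟨S.mapA_I hu, fun v hv => S.cv_A hu hv⟩)
      fun y hy => ⟨S.map_T1_I hy, fun v hv => S.cv_T1 hy hv⟩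
  intro x hx h1
  refine S.ih x ?_ h1
  have h := (hle hx).2 S.e S.unit_e
  rw [h1, act_one, S.cv_e, MulAction.Quotient.smul_coe, smul_eq_mul, mul_one, QuotientGroup.eq, inv_one,
    one_mul] at h
  exact h

end QStep

namespace QAmal

variable {π : Γ →* ↥(SU N F q)} (Q : QAmal π)

theorem inj_all : ∀ d a : ℕ, a + (d + 4) ≤ N → InjOnS π (Q.T a (a + (d + 4))) := by
  intro d
  induction d with
  | zero => intro a ha; rw [zero_add, Q.T_four ha]; exact Q.injW a ha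
  | succ d ih =>
    intro a ha
    have h : a + (d + 1 + 4) = a + 1 + (d + 4) := by omega
    exact QStep.inj ({ a := a, b := a + (d + 1 + 4), hab := by omega, hbN := ha,
                       ih := by rw [h]; exact ih (a + 1) (by omega) } : QStep Q)

/-- The completion: a splitting onto the subgroup generated by the lifts. -/
theorem exists_section : ∃ f : ↥(SU N F q) →* Γ, (∀ g, π (f g) = g) ∧ f.range = Q.T 0 N := by
  have hinj : InjOnS π (Q.T 0 N) := by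
    have h := Q.inj_all (N - 4) 0 (by have := Q.hN; omega)
    rwa [show 0 + (N - 4 + 4) = N by have := Q.hN; omega] at h
  set T := Q.T 0 N
  have hb : Function.Bijective (π.comp T.subtype) := by
    refine ⟨fun x y h => Subtype.ext (hinj.eq x.2 y.2 h), fun g => ?_⟩
    obtain ⟨x, hx, rfl⟩ := Q.lift (a := 0) (b := N) (by have := Q.hN; omega) le_rfl
      (show g ∈ GI (Iv 0 N) from fun k hk => absurd ⟨Nat.zero_le _, k.2⟩ hk)
    exact ⟨⟨x, hx⟩, rfl⟩
  let E := MulEquiv.ofBijective _ hb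
  refine ⟨T.subtype.comp E.symm.toMonoidHom, fun g => E.apply_symm_apply g, ?_⟩
  rw [MonoidHom.range_comp, MonoidHom.range_eq_top.2 E.symm.surjective, ← MonoidHom.range_eq_map,
    Subgroup.range_subtype]

end QAmal

end Cfsg.Agent.H78.Phan
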