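import Cfsg.Agent.H78.Phan.Frame

/-!
# The group on two coordinates over nine elements and its lifts to four coordinates
-/

set_option autoImplicit false

namespace Cfsg.Agent.H78.Phan

open Matrix Cfsg

variable {F : Type*} [Field F] [Fintype F] {q : ℕ}

omit [Fintype F] in
theorem mat_mul {N : ℕ} (g h : ↥(SU N F q)) : mat (g * h) = mat g * mat h := rfl

omit [Fintype F] in
theorem su_ext {N : ℕ} {g h : ↥(SU N F q)} (e : mat g = mat h) : g = h := Subtype.ext (Subtype.ext e)

omit [Fintype F] in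
theorem mat_col {N : ℕ} (g : ↥(SU N F q)) (i j : Fin N) : act g (ev j) i = mat g i j := by
  simp [act, ev]

theorem su2_congr (hF : Fintype.card F = q ^ 2) {x y x' y' : F} {h : nm q x + nm q y = 1}
    {h' : nm q x' + nm q y' = 1} (ex : x = x') (ey : y = y') : su2 hF x y h = su2 hF x' y' h' := by
  subst ex; subst ey; rfl

theorem mul_nm (hF : Fintype.card F = q ^ 2) {x y u v : F} (h : nm q x + nm q y = 1) (h' : nm q u + nm q v = 1) :
    nm q (x * u - y ^ q * v) + nm q (y * u + x ^ q * v) = 1 := by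
  have hsub : (x * u - y ^ q * v) ^ q = x ^ q * u ^ q - y * v ^ q := by
    rw [show (x * u - y ^ q * v) ^ q = (x * u) ^ q - (y ^ q * v) ^ q from map_sub (H3.conjQ hF) _ _, mul_pow,
      mul_pow, H3.pow_q_pow_q hF]
  have hadd : (y * u + x ^ q * v) ^ q = y ^ q * u ^ q + x * v ^ q := by
    rw [H3.add_pow_q hF, mul_pow, mul_pow, H3.pow_q_pow_q hF]
  simp only [nm] at h h' ⊢
  rw [hsub, hadd]
  linear_combination (u * u ^ q + v * v ^ q) * h + h'

theorem su2_mul (hF : Fintype.card F = q ^ 2) {x y u v : F} (h : nm q x + nm q y = 1) (h' : nm q u + nm q v = 1) :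
    su2 hF x y h * su2 hF u v h' = su2 hF (x * u - y ^ q * v) (y * u + x ^ q * v) (mul_nm hF h h') := by
  refine ext_act fun w => ?_
  rw [act_mul, act_su2, act_su2, act_su2]
  have hsub : (x * u - y ^ q * v) ^ q = x ^ q * u ^ q - y * v ^ q := by
    rw [show (x * u - y ^ q * v) ^ q = (x * u) ^ q - (y ^ q * v) ^ q from map_sub (H3.conjQ hF) _ _, mul_pow,
      mul_pow, H3.pow_q_pow_q hF]
  have hadd : (y * u + x ^ q * v) ^ q = y ^ q * u ^ q + x * v ^ q := by
    rw [H3.add_pow_q hF, mul_pow, mul_pow, H3.pow_q_pow_q hF]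
  rw [hsub, hadd]
  funext i
  fin_cases i <;> simp <;> ring

theorem su2_one (hF : Fintype.card F = q ^ 2) (h : nm q (1 : F) + nm q (0 : F) = 1) :
    su2 hF 1 0 h = 1 := by
  refine ext_act fun w => ?_
  rw [act_su2, act_one]
  funext i
  fin_cases i <;> simp [zero_pow (q_ne_zero hF)]

section Three

variable (hF : Fintype.card F = 3 ^ 2)
include hF

theorem three_eq_zero : (3 : F) = 0 := by
  have h : ((Fintype.card F : ℕ) : F) = 0 := Nat.cast_card_eq_zero F
  rw [hF] at h
  norm_num at h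
  exact mul_self_eq_zero.1 (by linear_combination h)

theorem two_ne_zero' : (2 : F) ≠ 0 := fun h => one_ne_zero (α := F) (by linear_combination three_eq_zero hF - h)

theorem exists_iota : ∃ ι : F, ι * ι = -1 ∧ ι ^ 3 = -ι := by
  obtain ⟨x, hx⟩ := exists_nm hF (μ := (-1 : F)) (by ring)
  simp only [nm] at hx
  exact ⟨x * x, by linear_combination hx, by linear_combination (x * x) * hx⟩

/-- A root of minus one. -/
noncomputable def iota : F := (exists_iota hF).choose

theorem iota_sq : iota hF * iota hF = -1 := (exists_iota hF).choose_spec.1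

theorem iota_cube : iota hF ^ 3 = -iota hF := (exists_iota hF).choose_spec.2

theorem iota_ne : iota hF ≠ 0 ∧ iota hF ≠ 1 ∧ iota hF ≠ -1 := by
  have h := iota_sq hF
  have h2 := two_ne_zero' hF
  refine ⟨fun e => ?_, fun e => h2 ?_, fun e => h2 ?_⟩
  · rw [e] at h; simp at h
  · rw [e] at h; linear_combination h
  · rw [e] at h; linear_combination h

theorem nm_a : nm 3 (iota hF) + nm 3 (0 : F) = 1 := by
  simp only [nm]; rw [iota_cube hF]; linear_combination -(iota_sq hF)

theorem nm_b : nm 3 (0 : F) + nm 3 (1 : F) = 1 := by simp [nm]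

theorem nm_ng : nm 3 (-1 : F) + nm 3 (0 : F) = 1 := by simp [nm]; ring

theorem nm_c0 : nm 3 (1 + iota hF) + nm 3 (1 - iota hF) = 1 := by
  simp only [nm]
  have h2 := iota_sq hF
  have h0 := three_eq_zero hF
  ring_nf at h2 ⊢
  grobner

/-- The diagonal element of order four. -/
noncomputable def qa : ↥(SU 2 F 3) := su2 hF (iota hF) 0 (nm_a hF)

/-- The anti-diagonal element of order four. -/
noncomputable def qb : ↥(SU 2 F 3) := su2 hF 0 1 (nm_b hF)

/-- The central involution. -/
noncomputable def qn : ↥(SU 2 F 3) := su2 hF (-1) 0 (nm_ng hF)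

/-- An element of order three permuting the quaternion units. -/
noncomputable def qc : ↥(SU 2 F 3) := su2 hF (1 + iota hF) (1 - iota hF) (nm_c0 hF)

theorem qa_sq : qa hF * qa hF = qn hF := by
  rw [qa, qn, su2_mul]
  exact su2_congr hF (by linear_combination iota_sq hF) (by ring)

theorem qb_sq : qb hF * qb hF = qn hF := by
  rw [qb, qn, su2_mul]
  exact su2_congr hF (by ring) (by ring)

theorem qab : qa hF * qb hF = qn hF * (qb hF * qa hF) := by
  rw [qa, qb, qn, su2_mul, su2_mul, su2_mul]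
  refine su2_congr hF (by ring) ?_
  have := iota_cube hF
  linear_combination this

theorem qcomm : qa hF * qb hF * (qa hF)⁻¹ * (qb hF)⁻¹ = qn hF := by
  rw [qab hF]; group

theorem qc_a : qc hF * qa hF = qb hF * qc hF := by
  rw [qc, qa, qb, su2_mul, su2_mul]
  exact su2_congr hF (by linear_combination iota_sq hF) (by linear_combination -(iota_sq hF))

theorem qc_b : qc hF * qb hF = qa hF * qb hF * qc hF := by
  rw [qc, qa, qb, su2_mul, su2_mul, su2_mul]
  refine su2_congr hF ?_ ?_
  · have h3 := iota_cube hF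
    have h2 := iota_sq hF
    have h0 := three_eq_zero hF
    ring_nf at h2 h3 ⊢
    grobner
  · have h3 := iota_cube hF
    have h2 := iota_sq hF
    have h0 := three_eq_zero hF
    ring_nf at h2 h3 ⊢
    grobner

theorem qc_cube : qc hF * qc hF * qc hF = 1 := by
  have h : nm 3 (1 : F) + nm 3 (0 : F) = 1 := by simp [nm]
  rw [← su2_one hF h, qc, su2_mul, su2_mul]
  have h3 := iota_cube hF
  have h2 := iota_sq hF
  have h0 := three_eq_zero hF
  refine su2_congr hF ?_ ?_ <;> (ring_nf at h2 h3 ⊢; grobner)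

theorem qa_conj (x : ↥(SU 2 F 3)) :
    qa hF * x = su2 hF (mat x 0 0) (-mat x 1 0) (by
      rw [nm_neg hF]; exact (exists_su2 hF x).1) * qa hF := by
  obtain ⟨h, e⟩ := exists_su2 hF x
  conv_lhs => rw [e]
  rw [qa, su2_mul, su2_mul]
  refine su2_congr hF (by ring) ?_
  have h3 := iota_cube hF
  linear_combination (mat x 1 0) * h3

/-- The elements of order three generate. -/
theorem closure_cube : Subgroup.closure {c : ↥(SU 2 F 3) | c * c * c = 1} = ⊤ := by
  rw [eq_top_iff, ← H3.su_closure_eq_top hF (le_refl 2) (by omega)]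
  refine Subgroup.closure_mono ?_
  rintro A ⟨v, c, hv, hA⟩
  refine ext_act fun x => ?_
  have hT : ∀ y, act A y = y + (c * hermForm 2 F 3 y v) • v := fun y => by
    show mat A *ᵥ y = _
    rw [show mat A = unitaryTransvection 2 3 v c from hA, H3.unitaryTransvection_mulVec]
  have hv' : ∀ y, hermForm 2 F 3 (act A y) v = hermForm 2 F 3 y v := fun y => by
    rw [hT, H3.hermForm_add_left hF, H3.hermForm_smul_left hF, hv, mul_zero, add_zero]
  rw [act_mul, act_mul, act_one, hT (act A (act A x)), hv', hv', hT (act A x), hv', hT x]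
  funext i
  simp only [Pi.add_apply, Pi.smul_apply, smul_eq_mul]
  linear_combination (c * hermForm 2 F 3 x v * v i) * three_eq_zero hF

theorem eq_top_of_cube {P : Subgroup ↥(SU 2 F 3)} (h : ∀ c, c * c * c = 1 → c ∈ P) : P = ⊤ :=
  top_le_iff.1 (closure_cube hF ▸ (Subgroup.closure_le _).2 fun c hc => h c hc)

theorem cube_root_one {x : F} (h : x * x * x = 1) : x = 1 := by
  refine sub_eq_zero.1 (pow_eq_zero_iff (n := 3) (by norm_num) |>.1 ?_)
  linear_combination h + (-(x * x) + x) * three_eq_zero hF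

theorem center4_pow {z : ↥(SU 4 F 3)} (hz : z ∈ Subgroup.center ↥(SU 4 F 3)) : z * z * z * z = 1 := by
  have h : (⟨z, hz⟩ : Subgroup.center ↥(SU 4 F 3)) ^ Nat.card (Subgroup.center ↥(SU 4 F 3)) = 1 := pow_card_eq_one'
  rw [H3.card_center_SU hF (by omega)] at h
  have h' := congrArg Subtype.val h
  rw [SubmonoidClass.coe_pow, show Nat.gcd 4 (3 + 1) = 4 from rfl] at h'
  simpa [pow_succ, mul_assoc] using h'

variable {G : Type*} [Group G] {g : ↥(SU 4 F 3) →* G} (hk : g.ker ≤ Subgroup.center ↥(SU 4 F 3))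

omit hF in
include hk in
theorem eq_central_mul {X Y : ↥(SU 4 F 3)} (h : g X = g Y) : ∃ z ∈ Subgroup.center ↥(SU 4 F 3), X = z * Y :=
  ⟨X * Y⁻¹, hk (MonoidHom.mem_ker.2 (by rw [map_mul, map_inv, h, mul_inv_cancel])), by group⟩

omit hF [Fintype F] in
theorem comm_congr {Γ : Type*} [Group Γ] {z w A B : Γ} (hz : z ∈ Subgroup.center Γ) (hw : w ∈ Subgroup.center Γ) :
    z * A * (w * B) * (z * A)⁻¹ * (w * B)⁻¹ = A * B * A⁻¹ * B⁻¹ := by
  have h1 := Subgroup.mem_center_iff.1 hz
  have h2 := Subgroup.mem_center_iff.1 hw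
  calc z * A * (w * B) * (z * A)⁻¹ * (w * B)⁻¹
      = z * (A * w) * B * A⁻¹ * z⁻¹ * B⁻¹ * w⁻¹ := by group
    _ = z * w * (A * B * A⁻¹) * z⁻¹ * B⁻¹ * w⁻¹ := by rw [h2 A]; group
    _ = w * z * (A * B * A⁻¹) * z⁻¹ * B⁻¹ * w⁻¹ := by rw [h2 z]
    _ = w * (A * B * A⁻¹) * B⁻¹ * w⁻¹ := by rw [mul_assoc w z, ← h1 (A * B * A⁻¹)]; group
    _ = _ := by rw [mul_assoc w, ← h2 (A * B * A⁻¹ * B⁻¹)]; group

include hk in
theorem lift3 {c : G} (hc : c * c * c = 1) (hr : c ∈ g.range) : ∃ C, g C = c ∧ C * C * C = 1 := by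
  obtain ⟨C, rfl⟩ := hr
  set z := C * C * C
  have hz : z ∈ Subgroup.center ↥(SU 4 F 3) := hk (MonoidHom.mem_ker.2 (by rw [map_mul, map_mul]; exact hc))
  have h4 := center4_pow hF hz
  have hcomm := Subgroup.mem_center_iff.1 hz
  refine ⟨z * C, ?_, ?_⟩
  · rw [map_mul, show g z = 1 by rw [map_mul, map_mul]; exact hc, one_mul]
  · calc z * C * (z * C) * (z * C) = z * (C * z) * C * z * C := by group
      _ = z * (z * C) * C * z * C := by rw [hcomm C]
      _ = z * z * (C * C * z) * C := by group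
      _ = z * z * (z * (C * C)) * C := by rw [hcomm (C * C)]
      _ = z * z * z * z := by simp only [z]; group
      _ = 1 := h4

include hk in
theorem lift3_unique {C D : ↥(SU 4 F 3)} (hC : C * C * C = 1) (hD : D * D * D = 1) (h : g C = g D) : C = D := by
  obtain ⟨z, hz, rfl⟩ := eq_central_mul hk h
  have hcomm := Subgroup.mem_center_iff.1 hz
  have h3 : z * z * z = 1 := by
    have : z * D * (z * D) * (z * D) = z * z * z := by
      calc z * D * (z * D) * (z * D) = z * (D * z) * D * z * D := by group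
        _ = z * (z * D) * D * z * D := by rw [hcomm D]
        _ = z * z * (D * D * z) * D := by group
        _ = z * z * (z * (D * D)) * D := by rw [hcomm (D * D)]
        _ = z * z * z * (D * D * D) := by group
        _ = _ := by rw [hD, mul_one]
    rw [← this]; exact hC
  have h4 := center4_pow hF hz
  rw [h3, one_mul] at h4
  rw [h4, one_mul]

/-- The canonical lift of the central involution of a block. -/
structure Invol (g : ↥(SU 4 F 3) →* G) (ε : ↥(SU 2 F 3) →* G) (T : ↥(SU 4 F 3)) : Prop where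
  map_eq : g T = ε (qn hF)
  sq : T * T = 1
  comm3 : ∀ C, C * C * C = 1 → g C ∈ ε.range → C * T = T * C
  comm_conj : ∀ X, (∀ x, g X * ε x * (g X)⁻¹ = ε (qa hF * x * (qa hF)⁻¹)) → X * T = T * X
  exists_lifts : ∃ A B, g A = ε (qa hF) ∧ g B = ε (qb hF) ∧ T = A * B * A⁻¹ * B⁻¹ ∧
    A * T = T * A ∧ B * T = T * B

include hk in
theorem exists_invol (ε : ↥(SU 2 F 3) →* G) (hr : ε.range ≤ g.range) : ∃ T, Invol hF g ε T := by
  obtain ⟨A, hA⟩ := hr ⟨qa hF, rfl⟩
  obtain ⟨B, hB⟩ := hr ⟨qb hF, rfl⟩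
  set T := A * B * A⁻¹ * B⁻¹ with hT
  have hgT : g T = ε (qn hF) := by
    rw [hT, map_mul, map_mul, map_mul, map_inv, map_inv, hA, hB, ← map_inv, ← map_inv, ← map_mul, ← map_mul,
      ← map_mul, qcomm hF]
  obtain ⟨z, hz, hzA⟩ := eq_central_mul hk (X := A * A) (Y := T) (by rw [map_mul, hA, ← map_mul, qa_sq, hgT])
  obtain ⟨w, hw, hwB⟩ := eq_central_mul hk (X := B * B) (Y := T) (by rw [map_mul, hB, ← map_mul, qb_sq, hgT])
  have hz' := Subgroup.mem_center_iff.1 hz
  have hw' := Subgroup.mem_center_iff.1 hw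
  have hTA : A * T = T * A := by
    rw [show T = z⁻¹ * (A * A) by rw [hzA]; group, ← mul_assoc,
      (Subgroup.mem_center_iff.1 (inv_mem hz) A)]
    group
  have hTB : B * T = T * B := by
    rw [show T = w⁻¹ * (B * B) by rw [hwB]; group, ← mul_assoc,
      (Subgroup.mem_center_iff.1 (inv_mem hw) B)]
    group
  have hsq : T * T = 1 := by
    have e1 : A * A * B * (A * A)⁻¹ * B⁻¹ = T * T := by
      calc A * A * B * (A * A)⁻¹ * B⁻¹ = A * (A * B * A⁻¹ * B⁻¹) * A⁻¹ * (A * B * A⁻¹ * B⁻¹) := by group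
        _ = A * T * A⁻¹ * T := by rw [← hT]
        _ = T * T := by rw [hTA]; group
    rw [← e1, hzA, show z * T * B = z * T * (1 * B) by rw [one_mul]]
    conv_lhs => arg 2; rw [← one_mul B]
    rw [comm_congr hz (one_mem _), ← hTB]
    group
  have hconj : ∀ X α L, (∀ x, g X * ε x * (g X)⁻¹ = ε (α * x * α⁻¹)) → g L = ε α →
      X * T * X⁻¹ = L * T * L⁻¹ := by
    intro X α L hα hL'
    have key : ∀ Y y, g Y = ε y → ∃ c ∈ Subgroup.center ↥(SU 4 F 3), X * Y * X⁻¹ = c * (L * Y * L⁻¹) :=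
      fun Y y hY => eq_central_mul hk (by
        rw [map_mul, map_mul, map_inv, map_mul, map_mul, map_inv, hY, hα y, map_mul, map_mul, map_inv, hL'])
    obtain ⟨c, hc, ec⟩ := key A _ hA
    obtain ⟨d, hd, ed⟩ := key B _ hB
    calc X * T * X⁻¹ = (X * A * X⁻¹) * (X * B * X⁻¹) * (X * A * X⁻¹)⁻¹ * (X * B * X⁻¹)⁻¹ := by rw [hT]; group
      _ = (L * A * L⁻¹) * (L * B * L⁻¹) * (L * A * L⁻¹)⁻¹ * (L * B * L⁻¹)⁻¹ := by rw [ec, ed, comm_congr hc hd]
      _ = L * T * L⁻¹ := by rw [hT]; group
  refine ⟨T, hgT, hsq, fun C hC hmem => ?_, fun X hX => ?_, A, B, hA, hB, hT, hTA, hTB⟩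
  · obtain ⟨x, hx⟩ := hmem
    have hcen : qn hF * x = x * qn hF := by
      obtain ⟨h, e⟩ := exists_su2 hF x
      rw [e, qn, su2_mul, su2_mul]
      exact su2_congr hF (by ring) (by ring)
    obtain ⟨u, hu, eu⟩ := eq_central_mul hk (X := C * T * C⁻¹) (Y := T) (by
      rw [map_mul, map_mul, map_inv, ← hx, hgT, ← map_inv, ← map_mul, ← map_mul, ← hcen]
      congr 1; group)
    have hu' := Subgroup.mem_center_iff.1 hu
    have h3 : u * u * u = 1 := by
      have e : C * T = u * T * C := by rw [← eu]; group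
      have : C * C * C * T = u * u * u * (T * (C * C * C)) := by
        calc C * C * C * T = C * C * (C * T) := by group
          _ = C * (C * u) * T * C := by rw [e]; group
          _ = C * (u * C) * T * C := by rw [hu' C]
          _ = C * u * (C * T) * C := by group
          _ = u * C * (u * T * C) * C := by rw [hu' C, e]
          _ = u * (C * u) * T * C * C := by group
          _ = u * (u * C) * T * C * C := by rw [hu' C]
          _ = u * u * (C * T) * C * C := by group
          _ = u * u * u * (T * (C * C * C)) := by rw [e]; group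
      rw [hC, one_mul, mul_one, eq_comm, mul_eq_right] at this
      exact this
    have h4 := center4_pow hF hu
    rw [h3, one_mul] at h4
    rw [h4, one_mul, mul_inv_eq_iff_eq_mul] at eu
    exact eu
  · have h := hconj X (qa hF) A hX hA
    rwa [hTA, mul_inv_cancel_right, mul_inv_eq_iff_eq_mul] at h

end Three

end Cfsg.Agent.H78.Phan
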