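import Cfsg.Agent.H78.Phan.ThreeGroup

/-!
# Standard images of four coordinates over nine elements
-/

set_option autoImplicit false

namespace Cfsg.Agent.H78.Phan

open Matrix Cfsg

variable {F : Type*} [Field F] [Fintype F]

/-- The submatrix on two chosen coordinates. -/
def sub2 {N : ℕ} (k m : Fin N) (X : ↥(SU N F 3)) : Matrix (Fin 2) (Fin 2) F :=
  (mat X).submatrix ![k, m] ![k, m]

omit [Fintype F] in
theorem diag_mat {N q : ℕ} {T : ↥(SU N F q)} {l : Fin N → F} (h : ∀ i, act T (ev i) = l i • ev i) :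
    mat T = Matrix.diagonal l := Matrix.ext fun i j => by
  rw [← mat_col T i j, h j]
  by_cases e : i = j
  · subst e; simp [ev]
  · simp [ev, e]

omit [Fintype F] in
theorem comm_diag {N q : ℕ} {T X : ↥(SU N F q)} {l : Fin N → F} (hT : mat T = Matrix.diagonal l) (h : X * T = T * X)
    {r s : Fin N} (hne : l r ≠ l s) : mat X r s = 0 := by
  have e := congrFun (congrFun (congrArg mat h) r) s
  rw [mat_mul, mat_mul, hT, Matrix.mul_diagonal, Matrix.diagonal_mul] at e
  exact (mul_eq_zero.1 (show (l s - l r) * mat X r s = 0 by linear_combination e)).resolve_left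
    (sub_ne_zero.2 hne.symm)

section

variable (hF : Fintype.card F = 3 ^ 2) {G : Type*} [Group G] {g : ↥(SU 4 F 3) →* G}
  (hk : g.ker ≤ Subgroup.center ↥(SU 4 F 3))
include hF hk

/-- The lifts of the elements of order three of a block fix the positive plane of its involution. -/
theorem block_fix (ε : ↥(SU 2 F 3) →* G) (hr : ε.range ≤ g.range) {T T' : ↥(SU 4 F 3)} (hI : Invol hF g ε T)
    {l μ : Fin 4 → F} (hl : mat T = Matrix.diagonal l) (hμ : mat T' = Matrix.diagonal μ) {k m : Fin 4}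
    (hkm : k ≠ m) (lk : l k = 1) (lm : l m = 1) (μk : μ k = 1) (μm : μ m = -1)
    (lo' : ∀ r, r ≠ k → r ≠ m → l r = -1) (hμ2 : ∀ r, μ r * μ r = 1)
    (hT' : ∀ x, g T' * ε x * (g T')⁻¹ = ε (qa hF * x * (qa hF)⁻¹))
    {C : ↥(SU 4 F 3)} (hC : C * C * C = 1) (hgC : g C ∈ ε.range) :
    act C (ev k) = ev k ∧ act C (ev m) = ev m := by
  classical
  set R := sub2 (F := F) k m
  have h2 := two_ne_zero' hF
  have hone : (1 : F) ≠ -1 := fun e => h2 (by linear_combination e)
  have hzero : ∀ {X}, X * T = T * X → ∀ {r s : Fin 4}, (s = k ∨ s = m) → r ≠ k → r ≠ m →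
      mat X r s = 0 ∧ mat X s r = 0 := fun {X} hX {r s} hs h1 h2 => by
    have e1 := lo' r h1 h2
    have e2 : l s = 1 := by rcases hs with rfl | rfl <;> assumption
    exact ⟨comm_diag hl hX (by rw [e1, e2]; exact hone.symm), comm_diag hl hX (by rw [e1, e2]; exact hone)⟩
  have hmul : ∀ {X}, X * T = T * X → ∀ Y, R (X * Y) = R X * R Y := fun {X} hX Y => by
    ext r s
    show mat (X * Y) (![k, m] r) (![k, m] s) = _
    rw [mat_mul, Matrix.mul_apply, ← Finset.sum_subset (Finset.subset_univ {k, m}) (fun p _ hp => by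
      simp only [Finset.mem_insert, Finset.mem_singleton, not_or] at hp
      rw [(hzero hX (s := ![k, m] r) (by fin_cases r <;> simp) hp.1 hp.2).2, zero_mul]),
      Finset.sum_pair hkm, Matrix.mul_apply, Fin.sum_univ_two]
    rfl
  have hcen : ∀ z ∈ Subgroup.center ↥(SU 4 F 3), ∃ c : F, c ≠ 0 ∧ z * T = T * z ∧ R z = c • 1 ∧
      ∀ Y, R (z * Y) = c • R Y := by
    intro z hz
    obtain ⟨c, hc⟩ := (H3.mem_center_SU_iff hF (by omega) z).1 hz
    have hm : mat z = c • 1 := Matrix.ext_of_mulVec_single fun i => by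
      rw [Matrix.smul_mulVec, Matrix.one_mulVec]; exact hc _
    have hc0 : c ≠ 0 := fun e => by
      have hd : (mat z).det = 1 := z.1.2
      rw [hm, e, zero_smul, Matrix.det_zero] at hd
      exact zero_ne_one hd
    refine ⟨c, hc0, (Subgroup.mem_center_iff.1 hz T).symm, ?_, fun Y => ?_⟩
    · show (mat z).submatrix _ _ = _
      rw [hm]
      ext r s
      fin_cases r <;> fin_cases s <;> simp [hkm, hkm.symm]
    · show (mat (z * Y)).submatrix _ _ = c • (mat Y).submatrix _ _
      rw [mat_mul, hm, smul_one_mul]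
      rfl
  have R1 : R 1 = 1 := by
    show (1 : Matrix (Fin 4) (Fin 4) F).submatrix ![k, m] ![k, m] = 1
    refine Matrix.submatrix_one _ fun r s e => ?_
    fin_cases r <;> fin_cases s <;> first | rfl | exact absurd e hkm | exact absurd e hkm.symm
  have RT : R T = 1 := by
    show (mat T).submatrix _ _ = _
    rw [hl]
    ext r s
    fin_cases r <;> fin_cases s <;> simp [hkm, hkm.symm, lk, lm]
  obtain ⟨A, B, hA, hB, hT, hAT, hBT⟩ := hI.exists_lifts
  set M := R A
  set M' := R B
  have hABT : A * B * T = T * (A * B) := by rw [mul_assoc, hBT, ← mul_assoc, hAT, mul_assoc]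
  have hMM : M * M' = M' * M := by
    have e : A * B = T * (B * A) := by rw [hT]; group
    have := congrArg R e
    rwa [hmul hAT, hmul (rfl : T * T = T * T), RT, one_mul, hmul hBT] at this
  have sq : ∀ {X : ↥(SU 4 F 3)} {y}, X * T = T * X → g X = ε y → y * y = qn hF →
      ∃ c : F, c ≠ 0 ∧ R X * R X = c • 1 := fun {X y} hX hg hy => by
    obtain ⟨z, hz, e⟩ := eq_central_mul hk (X := X * X) (Y := T) (by rw [map_mul, hg, ← map_mul, hy, hI.map_eq])
    obtain ⟨c, hc0, -, -, hc⟩ := hcen z hz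
    exact ⟨c, hc0, by rw [← hmul hX, e, hc, RT]⟩
  obtain ⟨a, ha0, ha⟩ := sq hAT hA (qa_sq hF)
  obtain ⟨b, hb0, hb⟩ := sq hBT hB (qb_sq hF)
  obtain ⟨C0, hC0, hC0c⟩ := lift3 hF hk (c := ε (qc hF)) (by rw [← map_mul, ← map_mul, qc_cube, map_one])
    (hr ⟨_, rfl⟩)
  have hC0T : C0 * T = T * C0 := hI.comm3 C0 hC0c (by rw [hC0]; exact ⟨_, rfl⟩)
  set K := R C0
  have hK : K * K * K = 1 := by
    rw [← hmul hC0T, ← hmul (by rw [mul_assoc, hC0T, ← mul_assoc, hC0T, mul_assoc]), hC0c, R1]
  obtain ⟨r, hr0, e1⟩ : ∃ r : F, r ≠ 0 ∧ K * M = r • (M' * K) := by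
    obtain ⟨z, hz, e⟩ := eq_central_mul hk (X := C0 * A) (Y := B * C0) (by
      rw [map_mul, map_mul, hA, hB, hC0, ← map_mul, ← map_mul, qc_a])
    obtain ⟨c, hc0, -, -, hc⟩ := hcen z hz
    exact ⟨c, hc0, by rw [← hmul hC0T, e, hc, hmul hBT]⟩
  obtain ⟨r', hr'0, e2⟩ : ∃ r : F, r ≠ 0 ∧ K * M' = r • (M * M' * K) := by
    obtain ⟨z, hz, e⟩ := eq_central_mul hk (X := C0 * B) (Y := A * B * C0) (by
      rw [map_mul, map_mul, map_mul, hA, hB, hC0, ← map_mul, ← map_mul, ← map_mul, qc_b])
    obtain ⟨c, hc0, -, -, hc⟩ := hcen z hz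
    exact ⟨c, hc0, by rw [← hmul hC0T, e, hc, hmul hABT, hmul hAT]⟩
  obtain ⟨s, hs⟩ : ∃ s : F, M = s • 1 := by
    by_contra hns
    obtain ⟨x, y, hxy⟩ := commutant_two hns hMM
    have hb' : (x * x + y * y * a - b) • (1 : Matrix (Fin 2) (Fin 2) F) + (2 * (x * y)) • M = 0 := by
      have e : M' * M' = b • 1 := hb
      rw [hxy] at e
      simp only [add_mul, mul_add, smul_mul_assoc, mul_smul_comm, one_mul, mul_one, smul_smul,
        show M * M = a • 1 from ha] at e
      rw [sub_smul, ← sub_eq_zero.2 e]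
      module
    have hxy0 : x * y = 0 := by
      by_contra hne
      refine hns ⟨-(x * x + y * y * a - b) / (2 * (x * y)), ?_⟩
      rw [neg_div, neg_smul, div_eq_inv_mul, mul_smul, eq_neg_iff_add_eq_zero,
        ← smul_eq_zero_iff_right (mul_ne_zero h2 hne), smul_add, smul_inv_smul₀ (mul_ne_zero h2 hne), add_comm]
      exact hb'
    have cancel : ∀ {c : F}, K * M = c • K → False := fun {c} e => hns ⟨c, by
      calc M = K * K * K * M := by rw [hK, one_mul]
        _ = K * K * (K * M) := by rw [mul_assoc]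
        _ = c • 1 := by rw [e, mul_smul_comm, hK]⟩
    rcases mul_eq_zero.1 hxy0 with hx | hy
    · have hy0 : y ≠ 0 := fun e => hb0 (by
        have e' := congrFun (congrFun (show M' * M' = b • 1 from hb) 0) 0
        rw [hxy, hx, e] at e'
        simpa using e'.symm)
      rw [hxy, hx, zero_smul, zero_add, mul_smul_comm, mul_smul_comm, smul_mul_assoc, ha, smul_mul_assoc,
        one_mul, smul_smul, smul_smul] at e2
      refine cancel (c := y⁻¹ * (r' * y * a)) ?_
      rw [mul_smul, ← e2, smul_smul, inv_mul_cancel₀ hy0, one_smul]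
    · refine cancel (c := r * x) ?_
      rw [e1, hxy, hy, zero_smul, add_zero, smul_mul_assoc, one_mul, smul_smul]
  have hT'T : T' * T = T * T' := su_ext (by
    rw [mat_mul, mat_mul, hl, hμ, Matrix.diagonal_mul_diagonal, Matrix.diagonal_mul_diagonal]
    exact congrArg _ (funext fun i => mul_comm _ _))
  have hCT : C * T = T * C := hI.comm3 C hC hgC
  have hconj : T' * C * T'⁻¹ = A * C * A⁻¹ := by
    refine lift3_unique hF hk ?_ ?_ ?_
    · rw [show T' * C * T'⁻¹ * (T' * C * T'⁻¹) * (T' * C * T'⁻¹) = T' * (C * C * C) * T'⁻¹ by group, hC]; group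
    · rw [show A * C * A⁻¹ * (A * C * A⁻¹) * (A * C * A⁻¹) = A * (C * C * C) * A⁻¹ by group, hC]; group
    · obtain ⟨x, hx⟩ := hgC
      rw [map_mul, map_mul, map_inv, map_mul, map_mul, map_inv, ← hx, hT', hA, map_mul, map_mul, map_inv]
  have hT'2 : T' * T' = 1 := su_ext (by
    rw [mat_mul, hμ, Matrix.diagonal_mul_diagonal, funext hμ2]
    exact Matrix.diagonal_one)
  have hswap : T' * C * T' * A = A * C := by
    rw [show T' * C * T' * A = T' * C * T'⁻¹ * A by rw [inv_eq_of_mul_eq_one_left hT'2], hconj]; group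
  have hR := congrArg R hswap
  rw [mul_assoc T', mul_assoc T', hmul hT'T, mul_assoc C, hmul hCT, hmul hT'T, hmul hAT,
    show R A = s • 1 from hs] at hR
  simp only [mul_smul_comm, smul_mul_assoc, mul_one, one_mul] at hR
  have hs0 : s ≠ 0 := fun e => ha0 (by
    have e' := congrFun (congrFun ha 0) 0
    rw [show R A = s • 1 from hs, e] at e'
    simpa using e'.symm)
  have hR' : R T' * (R C * R T') = R C := smul_right_injective _ hs0 hR
  have RT' : R T' = Matrix.diagonal ![1, -1] := by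
    show (mat T').submatrix _ _ = _
    rw [hμ]
    ext r s
    fin_cases r <;> fin_cases s <;> simp [hkm, hkm.symm, μk, μm]
  have z01 : R C 0 1 = 0 := by
    have e := congrFun (congrFun hR' 0) 1
    rw [RT', Matrix.diagonal_mul, Matrix.mul_diagonal] at e
    simp at e
    exact (mul_eq_zero.1 (show (2 : F) * R C 0 1 = 0 by linear_combination -e)).resolve_left h2
  have z10 : R C 1 0 = 0 := by
    have e := congrFun (congrFun hR' 1) 0
    rw [RT', Matrix.diagonal_mul, Matrix.mul_diagonal] at e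
    simp at e
    exact (mul_eq_zero.1 (show (2 : F) * R C 1 0 = 0 by linear_combination -e)).resolve_left h2
  have hR3 : R C * R C * R C = 1 := by
    rw [← hmul hCT, ← hmul (by rw [mul_assoc, hCT, ← mul_assoc, hCT, mul_assoc]), hC, R1]
  have d0 : R C 0 0 = 1 := cube_root_one hF (by
    have e := congrFun (congrFun hR3 0) 0
    simpa [Matrix.mul_apply, Fin.sum_univ_two, z01, z10] using e)
  have d1 : R C 1 1 = 1 := cube_root_one hF (by
    have e := congrFun (congrFun hR3 1) 1
    simpa [Matrix.mul_apply, Fin.sum_univ_two, z01, z10] using e)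
  constructor
  · funext p
    rw [mat_col]
    by_cases h1 : p = k
    · subst h1; simpa [R, sub2, ev] using d0
    by_cases h3 : p = m
    · subst h3; simpa [R, sub2, ev, hkm.symm] using z10
    · simp [(hzero hCT (Or.inl rfl) h1 h3).1, ev, h1]
  · funext p
    rw [mat_col]
    by_cases h1 : p = k
    · subst h1; simpa [R, sub2, ev, hkm] using z01
    by_cases h3 : p = m
    · subst h3; simpa [R, sub2, ev] using d1
    · simp [(hzero hCT (Or.inr rfl) h1 h3).1, ev, h3]

/-- A block is determined by the lifts of its elements of order three. -/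
theorem block_range {ε : ↥(SU 2 F 3) →* G} (hε : Function.Injective ε) (hr : ε.range ≤ g.range)
    (e : Fin 2 ↪ Fin 4) {i : Fin 4} (hi : i ∉ Set.range e)
    (hfix : ∀ C, C * C * C = 1 → g C ∈ ε.range → C ∈ GI (Set.range e)) :
    (g.comp (emb e)).range = ε.range := by
  have hle : ε.range ≤ (g.comp (emb e)).range := by
    rintro _ ⟨x, rfl⟩
    have htop : (g.comp (emb e)).range.comap ε = ⊤ := eq_top_of_cube hF fun c hc => by
      obtain ⟨C, hgC, hC⟩ := lift3 hF hk (c := ε c) (by rw [← map_mul, ← map_mul, hc, map_one]) (hr ⟨c, rfl⟩)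
      obtain ⟨y, rfl⟩ := exists_emb e hF (hfix C hC (by rw [hgC]; exact ⟨c, rfl⟩))
      exact ⟨y, hgC⟩
    exact (htop.ge (Subgroup.mem_top x))
  haveI : Finite ↥(g.comp (emb e)).range :=
    Finite.of_surjective (g.comp (emb e)).rangeRestrict (g.comp (emb e)).rangeRestrict_surjective
  refine (Subgroup.eq_of_le_of_card_ge hle ?_).symm
  rw [← Nat.card_congr (MonoidHom.ofInjective hε).toEquiv,
    ← Nat.card_congr (MonoidHom.ofInjective (inj_block hF hk e hi)).toEquiv]

end

/-- Automorphisms transport the canonical involution. -/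
theorem Invol.transport (hF : Fintype.card F = 3 ^ 2) {G : Type*} [Group G] {g : ↥(SU 4 F 3) →* G}
    {ε : ↥(SU 2 F 3) →* G} {T : ↥(SU 4 F 3)} (h : Invol hF g ε T) (E : ↥(SU 4 F 3) ≃* ↥(SU 4 F 3)) :
    Invol hF (g.comp E.toMonoidHom) ε (E.symm T) := by
  refine ⟨by simpa using h.map_eq, by rw [← map_mul, h.sq, map_one], fun C hC hm => ?_, fun X hX => ?_, ?_⟩
  · apply E.injective
    rw [map_mul, map_mul, E.apply_symm_apply]
    exact h.comm3 _ (by rw [← map_mul, ← map_mul, hC, map_one]) hm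
  · apply E.injective
    rw [map_mul, map_mul, E.apply_symm_apply]
    exact h.comm_conj _ hX
  · obtain ⟨A, B, hA, hB, hT, hAT, hBT⟩ := h.exists_lifts
    exact ⟨E.symm A, E.symm B, by simpa using hA, by simpa using hB, by rw [hT]; simp,
      by rw [← map_mul, hAT, map_mul], by rw [← map_mul, hBT, map_mul]⟩

/-- Four sign patterns realising all combinations. -/
theorem sign_pigeon : ∀ A B : Fin 4 → Bool,
    (A 0 != A 1) = (A 2 != A 3) → (B 0 != B 1) = (B 2 != B 3) →
    (∃ i, A i ≠ A 0) → (∃ i, B i ≠ B 0) → (∃ i, (A i != B i) ≠ (A 0 != B 0)) →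
    ∀ p r : Bool, ∃ i, A i = p ∧ B i = r := by decide

section

variable (hF : Fintype.card F = 3 ^ 2)
include hF

theorem center3 : Subgroup.center ↥(SU 3 F 3) = ⊥ := Subgroup.eq_bot_of_card_eq _ (by
  rw [H3.card_center_SU hF (by omega)]; rfl)

theorem conj_hi (x : ↥(SU 2 F 3)) :
    hi (qn hF) * lo x * (hi (qn hF))⁻¹ = lo (qa hF * x * (qa hF)⁻¹) := by
  rw [mul_inv_eq_iff_eq_mul,
    show qa hF * x * (qa hF)⁻¹ = su2 hF (mat x 0 0) (-mat x 1 0) (by
      rw [nm_neg hF]; exact (exists_su2 hF x).1) by rw [qa_conj hF, mul_inv_cancel_right]]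
  obtain ⟨h, e⟩ := exists_su2 hF x
  conv_lhs => rw [e]
  refine ext_act fun v => ?_
  rw [qn, act_mul, act_mul, act_lo, act_hi, act_lo, act_hi]
  funext i
  fin_cases i <;> simp <;> ring

theorem conj_lo (x : ↥(SU 2 F 3)) :
    lo (qn hF) * hi x * (lo (qn hF))⁻¹ = hi (qa hF * x * (qa hF)⁻¹) := by
  rw [mul_inv_eq_iff_eq_mul,
    show qa hF * x * (qa hF)⁻¹ = su2 hF (mat x 0 0) (-mat x 1 0) (by
      rw [nm_neg hF]; exact (exists_su2 hF x).1) by rw [qa_conj hF, mul_inv_cancel_right]]
  obtain ⟨h, e⟩ := exists_su2 hF x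
  conv_lhs => rw [e]
  refine ext_act fun v => ?_
  rw [qn, act_mul, act_mul, act_lo, act_hi, act_lo, act_hi]
  funext i
  fin_cases i <;> simp <;> ring

theorem not_comm_lo : lo (qn hF) * hi (qb hF) ≠ hi (qb hF) * lo (qn hF) := by
  intro h
  have e := congrFun (congrArg (fun g => act g (ev 1 : Fin 3 → F)) h) 2
  simp only [act_mul, qn, qb, act_lo, act_hi] at e
  simp [ev] at e
  exact two_ne_zero' hF (by first | linear_combination e | linear_combination -e)

theorem not_comm_hi : hi (qn hF) * lo (qb hF) ≠ lo (qb hF) * hi (qn hF) := by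
  intro h
  have e := congrFun (congrArg (fun g => act g (ev 1 : Fin 3 → F)) h) 0
  simp only [act_mul, qn, qb, act_lo, act_hi] at e
  simp [ev] at e
  exact two_ne_zero' hF (by first | linear_combination e | linear_combination -e)

theorem not_comm_prod : lo (qn hF) * hi (qn hF) * lo (qb hF) ≠ lo (qb hF) * (lo (qn hF) * hi (qn hF)) := by
  intro h
  have e := congrFun (congrArg (fun g => act g (ev 1 : Fin 3 → F)) h) 0
  simp only [act_mul, qn, qb, act_lo, act_hi] at e
  simp [ev] at e
  exact two_ne_zero' hF (by first | linear_combination e | linear_combination -e)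

variable {G : Type*} [Group G]

theorem std3_inj {φ : ↥(SU 3 F 3) →* G} {A B : Subgroup G} (hS : Std φ A B) : Function.Injective φ :=
  (MonoidHom.ker_eq_bot_iff φ).1 (le_bot_iff.1 (hS.ker_le.trans (center3 hF).le))

theorem range_three {φ : ↥(SU 3 F 3) →* G} : φ.range = (φ.comp lo).range ⊔ (φ.comp hi).range := by
  rw [MonoidHom.range_comp, MonoidHom.range_comp, ← Subgroup.map_sup, MonoidHom.range_eq_map]
  congr 1
  refine (eq_top_iff.2 fun g _ => ?_).symm
  rw [range_emb _ hF, range_emb _ hF, range_e2, range_e2]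
  exact gen_three_odd hF (two_ne_zero' hF) (a := 0) le_rfl (fun k hk => absurd ⟨Nat.zero_le _, k.2⟩ hk)

variable {g : ↥(SU 4 F 3) →* G} (hk : g.ker ≤ Subgroup.center ↥(SU 4 F 3))
include hk

/-- Coordinates adapted to two adjacent blocks. -/
theorem exists_adapted {φ : ↥(SU 3 F 3) →* G} {A B : Subgroup G} (hS : Std φ A B) (hr : φ.range ≤ g.range) :
    ∃ g' : ↥(SU 4 F 3) →* G, g'.ker ≤ Subgroup.center ↥(SU 4 F 3) ∧ g'.range = g.range ∧
      (g'.comp (pair4 0 (by omega))).range = A ∧ (g'.comp (pair4 1 (by omega))).range = B := by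
  classical
  have hφ := std3_inj hF hS
  set ε1 := φ.comp lo with hε1
  set ε2 := φ.comp hi with hε2
  have hr1 : ε1.range ≤ g.range := fun _ ⟨x, hx⟩ => hr ⟨lo x, hx⟩
  have hr2 : ε2.range ≤ g.range := fun _ ⟨x, hx⟩ => hr ⟨hi x, hx⟩
  obtain ⟨T1, hT1⟩ := exists_invol hF hk ε1 hr1
  obtain ⟨T2, hT2⟩ := exists_invol hF hk ε2 hr2
  have c12 : ∀ x, g T2 * ε1 x * (g T2)⁻¹ = ε1 (qa hF * x * (qa hF)⁻¹) := fun x => by
    rw [hT2.map_eq, hε1, hε2, MonoidHom.comp_apply, MonoidHom.comp_apply, ← map_inv, ← map_mul, ← map_mul,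
      MonoidHom.comp_apply, conj_hi]
  have c21 : ∀ x, g T1 * ε2 x * (g T1)⁻¹ = ε2 (qa hF * x * (qa hF)⁻¹) := fun x => by
    rw [hT1.map_eq, hε1, hε2, MonoidHom.comp_apply, MonoidHom.comp_apply, ← map_inv, ← map_mul, ← map_mul,
      MonoidHom.comp_apply, conj_lo]
  have hcomm : T1 * T2 = T2 * T1 := (hT1.comm_conj T2 c12).symm
  have hm1 : nm 3 (-1 : F) = 1 := by simp [nm]; ring
  obtain ⟨f, l, μ, hf, hlm⟩ := exists_frame hF (eigSplit_two (two_ne_zero' hF) hm1 hT1.sq)
    (eigSplit_two (two_ne_zero' hF) hm1 hT2.sq) hcomm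
  obtain ⟨E0, hE0⟩ := exists_coord_change hF hf
  have dg : ∀ {T : ↥(SU 4 F 3)} {d : Fin 4 → F}, (∀ i, act T (f i) = d i • f i) → mat (E0.symm T) = Matrix.diagonal d :=
    fun {T d} h => diag_mat fun i => hE0 _ _ _ (by rw [E0.apply_symm_apply]; exact h i)
  have d1 := dg fun i => (hlm i).1
  have d2 := dg fun i => (hlm i).2
  have pm : ∀ {T : ↥(SU 4 F 3)} {d : Fin 4 → F}, T * T = 1 → mat T = Matrix.diagonal d → ∀ i, d i = 1 ∨ d i = -1 :=
    fun {T d} h hd i => by
      have e := congrFun (congrFun (congrArg mat h) i) i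
      rw [mat_mul, hd, Matrix.diagonal_mul_diagonal, Matrix.diagonal_apply_eq] at e
      refine mul_self_eq_one_iff.1 (e.trans ?_)
      simp [mat]
  have p1 := pm (T := E0.symm T1) (by rw [← map_mul, hT1.sq, map_one]) d1
  have p2 := pm (T := E0.symm T2) (by rw [← map_mul, hT2.sq, map_one]) d2
  have hne : (-1 : F) ≠ 1 := fun e => two_ne_zero' hF (by linear_combination -e)
  let sgn : Bool → F := fun c => if c then -1 else 1
  let bA : Fin 4 → Bool := fun i => decide (l i = -1)
  let bB : Fin 4 → Bool := fun i => decide (μ i = -1)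
  have sA : ∀ i, l i = sgn (bA i) := fun i => by
    rcases p1 i with h | h <;> simp [sgn, bA, h, hne.symm]
  have sB : ∀ i, μ i = sgn (bB i) := fun i => by
    rcases p2 i with h | h <;> simp [sgn, bB, h, hne.symm]
  have par : ∀ {T : ↥(SU 4 F 3)} {c : Fin 4 → Bool}, mat T = Matrix.diagonal (fun i => sgn (c i)) →
      (c 0 != c 1) = (c 2 != c 3) := fun {T c} h => by
    have hd : (mat T).det = 1 := T.1.2
    rw [h, Matrix.det_diagonal, Fin.prod_univ_four] at hd
    revert hd
    cases c 0 <;> cases c 1 <;> cases c 2 <;> cases c 3 <;> simp [sgn, hne]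
  have nonconst : ∀ {T : ↥(SU 4 F 3)} {c : Fin 4 → Bool}, mat (E0.symm T) = Matrix.diagonal (fun i => sgn (c i)) →
      T ∉ Subgroup.center ↥(SU 4 F 3) → ∃ i, c i ≠ c 0 := fun {T c} h hn => by
    by_contra hc
    push Not at hc
    have hc' : E0.symm T ∈ Subgroup.center ↥(SU 4 F 3) := (H3.mem_center_SU_iff hF (by omega) _).2
      ⟨sgn (c 0), fun x => funext fun j => by
        show (mat (E0.symm T) *ᵥ x) j = _
        rw [h, Matrix.mulVec_diagonal, hc j]
        rfl⟩
    apply hn
    rw [Subgroup.mem_center_iff] at hc' ⊢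
    exact fun y => E0.symm.injective (by rw [map_mul, map_mul]; exact hc' _)
  have noncen : ∀ {T : ↥(SU 4 F 3)} {x w : ↥(SU 3 F 3)}, g T = φ x → x * w ≠ w * x →
      T ∉ Subgroup.center ↥(SU 4 F 3) := fun {T x w} hT hne hc => by
    obtain ⟨W, hW⟩ := hr ⟨w, rfl⟩
    refine hne (hφ ?_)
    rw [map_mul, map_mul, ← hT, ← hW, ← map_mul, ← map_mul, Subgroup.mem_center_iff.1 hc W]
  have d1' : mat (E0.symm T1) = Matrix.diagonal (fun i => sgn (bA i)) := by rw [d1, funext sA]
  have d2' : mat (E0.symm T2) = Matrix.diagonal (fun i => sgn (bB i)) := by rw [d2, funext sB]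
  have d12 : mat (E0.symm (T1 * T2)) = Matrix.diagonal (fun i => sgn (bA i != bB i)) := by
    rw [map_mul, mat_mul, d1', d2', Matrix.diagonal_mul_diagonal]
    congr 1
    funext i
    cases bA i <;> cases bB i <;> simp [sgn]
  have pig := sign_pigeon bA bB (par d1') (par d2')
    (nonconst d1' (noncen hT1.map_eq (not_comm_lo hF)))
    (nonconst d2' (noncen hT2.map_eq (not_comm_hi hF)))
    (nonconst d12 (noncen (x := lo (qn hF) * hi (qn hF))
      (by rw [map_mul, hT1.map_eq, hT2.map_eq, map_mul]; rfl) (not_comm_prod hF)))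
  -- the permuted frame
  let tA : Fin 4 → Bool := ![true, true, false, false]
  let tB : Fin 4 → Bool := ![false, true, true, false]
  choose σ hσA hσB using fun i => pig (tA i) (tB i)
  have hσ : Function.Injective σ := fun i j e => by
    have e1 := (hσA i).symm.trans ((congrArg bA e).trans (hσA j))
    have e2 := (hσB i).symm.trans ((congrArg bB e).trans (hσB j))
    revert e1 e2
    fin_cases i <;> fin_cases j <;> simp [tA, tB]
  obtain ⟨E, hE⟩ := exists_coord_change hF (f := f ∘ σ) (fun i j => by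
    simp only [Function.comp_apply, hf, hσ.eq_iff])
  have D1 : mat (E.symm T1) = Matrix.diagonal (fun i => sgn (tA i)) := diag_mat fun i =>
    hE _ _ _ (by rw [E.apply_symm_apply, ← hσA i, ← sA]; exact (hlm (σ i)).1)
  have D2 : mat (E.symm T2) = Matrix.diagonal (fun i => sgn (tB i)) := diag_mat fun i =>
    hE _ _ _ (by rw [E.apply_symm_apply, ← hσB i, ← sB]; exact (hlm (σ i)).2)
  set g' := g.comp E.toMonoidHom with hg'
  have hk' : g'.ker ≤ Subgroup.center ↥(SU 4 F 3) := fun x hx => by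
    have h1 := hk (x := E x) hx
    rw [Subgroup.mem_center_iff] at h1 ⊢
    exact fun y => E.injective (by rw [map_mul, map_mul]; exact h1 _)
  have hrg : g'.range = g.range := by
    rw [hg', MonoidHom.range_comp, MonoidHom.range_eq_top.2 E.surjective, ← MonoidHom.range_eq_map]
  have sq1 : ∀ (c : Fin 4 → Bool) r, sgn (c r) * sgn (c r) = 1 := fun c r => by cases c r <;> simp [sgn]
  refine ⟨g', hk', hrg, ?_, ?_⟩
  · rw [← hS.rangeA]
    refine block_range hF hk' (hφ.comp (emb_injective _)) (hrg ▸ hr1) _ (i := 3) (by rw [range_e2]; simp) ?_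
    intro C hC hm
    obtain ⟨h2', h3'⟩ := block_fix hF hk' ε1 (hrg ▸ hr1) (hT1.transport hF E) D1 D2 (k := 3) (m := 2) (by decide)
      rfl rfl rfl rfl (fun r h1 h2 => by fin_cases r <;> first | rfl | exact absurd rfl h1 | exact absurd rfl h2)
      (sq1 tB) (fun x => by simpa [hg'] using c12 x) hC hm
    intro p hp
    rw [range_e2] at hp
    fin_cases p <;> first | exact h2' | exact h3' | exact absurd (by decide) hp
  · rw [← hS.rangeB]
    refine block_range hF hk' (hφ.comp (emb_injective _)) (hrg ▸ hr2) _ (i := 3) (by rw [range_e2]; simp) ?_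
    intro C hC hm
    obtain ⟨h2', h3'⟩ := block_fix hF hk' ε2 (hrg ▸ hr2) (hT2.transport hF E) D2 D1 (k := 3) (m := 0) (by decide)
      rfl rfl rfl rfl (fun r h1 h2 => by fin_cases r <;> first | rfl | exact absurd rfl h1 | exact absurd rfl h2)
      (sq1 tA) (fun x => by simpa [hg'] using c21 x) hC hm
    intro p hp
    rw [range_e2] at hp
    fin_cases p <;> first | exact h2' | exact h3' | exact absurd (by decide) hp

/-- The third block. -/
theorem third_block {ε1 ε3 : ↥(SU 2 F 3) →* G} (h3 : Function.Injective ε3) (hr : ε3.range ≤ g.range)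
    (he1 : (g.comp (pair4 0 (by omega))).range = ε1.range) (hc : ∀ x ∈ ε1.range, ∀ y ∈ ε3.range, x * y = y * x) :
    (g.comp (pair4 2 (by omega))).range = ε3.range := by
  refine block_range hF hk h3 hr _ (i := 0) (by rw [range_e2]; simp) fun C hC hm => ?_
  have hcen : ∀ x : ↥(SU 2 F 3), C * pair4 0 (by omega) x = pair4 0 (by omega) x * C := by
    have : (Subgroup.centralizer {C}).comap (pair4 0 (by omega)) = (⊤ : Subgroup ↥(SU 2 F 3)) := by
      refine eq_top_of_cube hF fun c hc3 => Subgroup.mem_centralizer_singleton_iff.2 ?_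
      set X := pair4 (F := F) (q := 3) 0 (by omega) c with hX
      have hX3 : X * X * X = 1 := by rw [hX, ← map_mul, ← map_mul, hc3, map_one]
      have h := lift3_unique hF hk (C := C * X * C⁻¹) (D := X)
        (by rw [show C * X * C⁻¹ * (C * X * C⁻¹) * (C * X * C⁻¹) = C * (X * X * X) * C⁻¹ by group, hX3]; group)
        hX3 (by rw [map_mul, map_mul, map_inv, ← hc _ (he1 ▸ ⟨c, rfl⟩) _ hm, mul_inv_cancel_right])
      exact (mul_inv_eq_iff_eq_mul.1 h).symm
    intro x
    exact (Subgroup.mem_centralizer_singleton_iff.1 (this ▸ Subgroup.mem_top x : x ∈ (Subgroup.centralizer {C}).comap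
      (pair4 0 (by omega)))).symm
  obtain ⟨hι0, hι1, hι2⟩ := iota_ne hF
  have hq3 := two_ne_zero' hF
  have hD : mat (pair4 0 (by omega) (qa hF)) = Matrix.diagonal ![iota hF, -iota hF, 1, 1] := diag_mat fun i => by
    funext p
    by_cases hp : p ∈ Set.range (e2 (N := 4) 0 (by omega))
    · obtain ⟨j, rfl⟩ := hp
      rw [act_emb_in, qa, act_su2]
      fin_cases i <;> fin_cases j <;> simp [ev, e2, iota_cube hF]
    · rw [act_emb_out _ _ _ hp]
      rw [range_e2] at hp
      fin_cases p <;> first | exact absurd (by decide) hp | (fin_cases i <;> simp [ev])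
  have hd0 : ∀ r s : Fin 4, (![iota hF, -iota hF, 1, 1] : Fin 4 → F) r ≠ ![iota hF, -iota hF, 1, 1] s → mat C r s = 0 :=
    fun r s => comm_diag hD (hcen _)
  have hneg : iota hF ≠ -iota hF := fun e => hι0 ((mul_eq_zero.1 (show (2 : F) * iota hF = 0 by
    linear_combination e)).resolve_left hq3)
  have hm1 : -iota hF ≠ 1 := fun e => hι2 (by linear_combination -e)
  have hcol0 : act C (ev 0) = mat C 0 0 • (ev 0 : Fin 4 → F) := funext fun p => by
    rw [mat_col]
    fin_cases p <;> simp [ev]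
    all_goals exact hd0 _ 0 (by simp [hneg, hneg.symm, hι1.symm, hm1, Ne.symm hι1])
  have hswap : act (pair4 0 (by omega) (qb hF)) (ev 0) = (ev 1 : Fin 4 → F) := by
    funext p
    by_cases hp : p ∈ Set.range (e2 (N := 4) 0 (by omega))
    · obtain ⟨j, rfl⟩ := hp
      rw [act_emb_in, qb, act_su2]
      fin_cases j <;> simp [ev, e2]
    · rw [act_emb_out _ _ _ hp]
      rw [range_e2] at hp
      fin_cases p <;> first | exact absurd (by decide) hp | simp [ev]
  have hcol1 : act C (ev 1) = mat C 0 0 • (ev 1 : Fin 4 → F) := by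
    conv_lhs => rw [← hswap, ← act_mul, hcen, act_mul, hcol0, act_smul, hswap]
  have h1 : mat C 0 0 = 1 := cube_root_one hF (by
    have e := congrFun (congrArg (fun X => act X (ev 0 : Fin 4 → F)) hC) 0
    simp only [act_mul, act_one, hcol0, act_smul] at e
    simpa [ev, mul_assoc] using e)
  rw [h1, one_smul] at hcol0 hcol1
  intro p hp
  rw [range_e2] at hp
  fin_cases p <;> first | exact hcol0 | exact hcol1 | exact absurd (by decide) hp

end

end Cfsg.Agent.H78.Phan
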