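import Cfsg.Agent.H78.Phan.Basic
import Cfsg.Agent.H3.SUTwo
import Cfsg.Agent.H70.AutPSL.Main
import Cfsg.Agent.H23.AutPSU.Semilinear
import Cfsg.Agent.H3.Count

/-!
# Automorphisms of `SU 2` preserving the diagonal subgroup, and their extensions to `SU 3`
-/

set_option autoImplicit false

namespace Cfsg.Agent.H78.Phan

open Matrix Cfsg

variable {F : Type*} [Field F] [Fintype F] {q : ℕ}

/-- Two adjacent coordinates. -/
def e2 {N : ℕ} (a : ℕ) (h : a + 2 ≤ N) : Fin 2 ↪ Fin N :=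
  ⟨fun i => ⟨a + i, by omega⟩, fun i j e => Fin.ext (by simpa using e)⟩

/-- Three adjacent coordinates. -/
def e3 {N : ℕ} (a : ℕ) (h : a + 3 ≤ N) : Fin 3 ↪ Fin N :=
  ⟨fun i => ⟨a + i, by omega⟩, fun i j e => Fin.ext (by simpa using e)⟩

theorem range_e2 {N : ℕ} (a : ℕ) (h : a + 2 ≤ N) : Set.range (e2 a h) = {k : Fin N | a ≤ (k : ℕ) ∧ (k : ℕ) < a + 2} := by
  ext k
  constructor
  · rintro ⟨i, rfl⟩
    exact ⟨Nat.le_add_right _ _, by show a + (i : ℕ) < a + 2; omega⟩
  · rintro ⟨h1, h2⟩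
    exact ⟨⟨(k : ℕ) - a, by omega⟩, Fin.ext (by show a + ((k : ℕ) - a) = k; omega)⟩

theorem range_e3 {N : ℕ} (a : ℕ) (h : a + 3 ≤ N) : Set.range (e3 a h) = {k : Fin N | a ≤ (k : ℕ) ∧ (k : ℕ) < a + 3} := by
  ext k
  constructor
  · rintro ⟨i, rfl⟩
    exact ⟨Nat.le_add_right _ _, by show a + (i : ℕ) < a + 3; omega⟩
  · rintro ⟨h1, h2⟩
    exact ⟨⟨(k : ℕ) - a, by omega⟩, Fin.ext (by show a + ((k : ℕ) - a) = k; omega)⟩

omit [Fintype F] in
theorem emb_trans {k m N : ℕ} (f : Fin k ↪ Fin m) (g : Fin m ↪ Fin N) (A : ↥(SU k F q)) :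
    emb g (emb f A) = emb (f.trans g) A := by
  refine ext_act fun v => funext fun p => ?_
  by_cases hp : p ∈ Set.range g
  · obtain ⟨i, rfl⟩ := hp
    rw [act_emb_in]
    by_cases hi : i ∈ Set.range f
    · obtain ⟨j, rfl⟩ := hi
      rw [act_emb_in, show g (f j) = f.trans g j from rfl, act_emb_in]
      rfl
    · rw [act_emb_out f A _ hi, act_emb_out]
      · rfl
      · rintro ⟨j, hj⟩
        exact hi ⟨j, g.injective hj⟩
  · rw [act_emb_out g _ _ hp, act_emb_out]
    rintro ⟨j, hj⟩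
    exact hp ⟨f j, hj⟩

/-- The first two coordinates of three. -/
noncomputable abbrev lo : ↥(SU 2 F q) →* ↥(SU 3 F q) := emb (e2 (N := 3) 0 (by omega))

/-- The last two coordinates of three. -/
noncomputable abbrev hi : ↥(SU 2 F q) →* ↥(SU 3 F q) := emb (e2 (N := 3) 1 (by omega))

theorem range_lo (hF : Fintype.card F = q ^ 2) :
    (lo (F := F) (q := q)).range = suBlock 3 F q {0, 1} := by
  rw [range_emb _ hF, suBlock_eq hF, range_e2]
  congr 1
  ext k
  fin_cases k <;> simp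

theorem range_hi (hF : Fintype.card F = q ^ 2) :
    (hi (F := F) (q := q)).range = suBlock 3 F q {1, 2} := by
  rw [range_emb _ hF, suBlock_eq hF, range_e2]
  congr 1
  ext k
  fin_cases k <;> simp

/-! ### Elements of `SU 2` -/

theorem mat_su2 (hF : Fintype.card F = q ^ 2) (x y : F) (h : nm q x + nm q y = 1) :
    mat (su2 hF x y h) = !![x, -(y ^ q); y, x ^ q] := rfl

theorem exists_su2 (hF : Fintype.card F = q ^ 2) (g : ↥(SU 2 F q)) :
    ∃ h, g = su2 hF (mat g 0 0) (mat g 1 0) h := by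
  have he : act g (ev 0) = ![mat g 0 0, mat g 1 0] := by
    funext i
    fin_cases i <;> simp [act, ev, Matrix.mulVec_single_one]
  have h : nm q (mat g 0 0) + nm q (mat g 1 0) = 1 := by
    have h1 := herm_act g (ev 0) (ev 0)
    rw [he, herm_self, herm_ev hF, Fin.sum_univ_two] at h1
    simpa [ev] using h1
  refine ⟨h, ?_⟩
  have h2 : (su2 hF _ _ h)⁻¹ * g ∈ (GI {1} : Subgroup ↥(SU 2 F q)) := by
    intro k hk
    obtain rfl : k = 0 := by fin_cases k <;> simp_all
    rw [act_mul]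
    refine act_inv_eq ?_
    rw [he, act_su2]
    funext i
    fin_cases i <;> simp [ev]
  exact (inv_mul_eq_one.1 (eq_one_of_GI_singleton hF h2)).symm

theorem mat_eq (hF : Fintype.card F = q ^ 2) (g : ↥(SU 2 F q)) :
    mat g = !![mat g 0 0, -(mat g 1 0 ^ q); mat g 1 0, mat g 0 0 ^ q] := by
  obtain ⟨h, e⟩ := exists_su2 hF g
  exact (congrArg mat e).trans (mat_su2 hF _ _ h)

/-- The diagonal elements. -/
def IsDiag (g : ↥(SU 2 F q)) : Prop := mat g 1 0 = 0

theorem IsDiag.commute (hF : Fintype.card F = q ^ 2) {g k : ↥(SU 2 F q)} (hg : IsDiag g) (hk : IsDiag k) :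
    Commute g k := by
  obtain ⟨h1, e1⟩ := exists_su2 hF g
  obtain ⟨h2, e2⟩ := exists_su2 hF k
  refine Subtype.ext (Subtype.ext ?_)
  show mat g * mat k = mat k * mat g
  rw [e1, e2, mat_su2, mat_su2, hg, hk, zero_pow (q_ne_zero hF), neg_zero]
  ext i j
  fin_cases i <;> fin_cases j <;> simp [Matrix.mul_apply, mul_comm]

/-- A norm one element different from its conjugate. -/
theorem exists_phase (hF : Fintype.card F = q ^ 2) (hq : 4 ≤ q) : ∃ a : F, nm q a = 1 ∧ a ^ q ≠ a := by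
  classical
  by_contra h
  push Not at h
  have hc := H3.card_norm_eq hF (μ := 1) one_ne_zero (one_pow q)
  rw [Nat.card_eq_fintype_card, Fintype.card_subtype] at hc
  have hsub : (Finset.univ.filter fun x : F => x ^ (q + 1) = 1) ⊆ {1, -1} := by
    intro x hx
    simp only [Finset.mem_filter, Finset.mem_univ, true_and] at hx
    have h1 := h x (by rw [nm, ← pow_succ', hx])
    rw [pow_succ, h1] at hx
    simpa using mul_self_eq_one_iff.1 hx
  have := (Finset.card_le_card hsub).trans Finset.card_le_two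
  omega

/-! ### Semilinearity -/

/-- Homomorphisms from a perfect group agreeing modulo the centre agree. -/
theorem hom_eq_of_perf {A E Q : Type*} [Group A] [Group E] [Group Q] (hperf : commutator A = ⊤) {ψ : E →* Q}
    (hc : ψ.ker ≤ Subgroup.center E) {f g : A →* E} (h : ψ.comp f = ψ.comp g) : f = g := by
  have hz : ∀ a, f a * (g a)⁻¹ ∈ Subgroup.center E := fun a => hc (by
    rw [MonoidHom.mem_ker, map_mul, map_inv, ← MonoidHom.comp_apply, h, MonoidHom.comp_apply, mul_inv_cancel])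
  let δ : A →* Subgroup.center E := MonoidHom.mk' (fun a => ⟨f a * (g a)⁻¹, hz a⟩) fun a b => by
    apply Subtype.ext
    show f (a * b) * (g (a * b))⁻¹ = f a * (g a)⁻¹ * (f b * (g b)⁻¹)
    have h := Subgroup.mem_center_iff.1 (hz b) (g a)⁻¹
    rw [map_mul, map_mul, _root_.mul_inv_rev, mul_assoc (f a) (g a)⁻¹, h]
    group
  have hker : commutator A ≤ δ.ker := by
    rw [commutator_def, Subgroup.commutator_le]
    intro a _ b _
    rw [MonoidHom.mem_ker, map_commutatorElement, commutatorElement_eq_one_iff_mul_comm]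
    exact Subtype.ext (Subgroup.mem_center_iff.1 (δ b).2 (δ a).1)
  exact MonoidHom.ext fun a => mul_inv_eq_one.1
    (congrArg Subtype.val (MonoidHom.mem_ker.1 (hker (hperf ▸ Subgroup.mem_top a))))

/-- A field automorphism of a subfield extends. -/
theorem exists_extend (K : Subfield F) (σ : ↥K ≃+* ↥K) : ∃ τ : F ≃+* F, ∀ x : ↥K, τ x = σ x := by
  obtain ⟨p, hp⟩ := CharP.exists F
  haveI := hp
  haveI : Fact p.Prime := ⟨(CharP.char_is_prime_or_zero F p).resolve_right (CharP.char_ne_zero_of_finite F p)⟩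
  haveI : CharP ↥K p := RingHom.charP K.subtype K.subtype.injective p
  letI := ZMod.algebra (↥K) p
  obtain ⟨i, hi⟩ := (FiniteField.bijective_frobeniusAlgEquivOfAlgebraic_pow (ZMod p) ↥K).2
    (AlgEquiv.ofRingEquiv (f := σ) fun x => by
      exact RingHom.congr_fun (RingHom.ext_zmod (σ.toRingHom.comp (algebraMap (ZMod p) ↥K)) (algebraMap (ZMod p) ↥K)) x)
  refine ⟨iterateFrobeniusEquiv F p i, fun x => ?_⟩
  have h := congrArg (fun f => ((f x : ↥K) : F)) hi
  have h' : (((FiniteField.frobeniusAlgEquivOfAlgebraic (ZMod p) ↥K ^ (i : ℕ)) x : ↥K) : F) = σ x := h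
  rw [← h', iterateFrobeniusEquiv_def]
  simp [FiniteField.coe_frobeniusAlgEquivOfAlgebraic, pow_iterate, AlgEquiv.coe_pow, ZMod.card]

/-- Automorphisms of `SU 2` are semilinear. -/
theorem exists_semilinear (hF : Fintype.card F = q ^ 2) (hq : 4 ≤ q) (θ : ↥(SU 2 F q) ≃* ↥(SU 2 F q)) :
    ∃ (h : GL (Fin 2) F) (τ : F ≃+* F), ∀ g, mat (θ g) * (h : Matrix (Fin 2) (Fin 2) F) =
      (h : Matrix (Fin 2) (Fin 2) F) * (mat g).map τ := by
  classical
  obtain ⟨P, δ, hδ0, -, hP⟩ := H3.exists_hypBasis hF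
  set K := RingHom.eqLocusField (H3.conjQ hF) (RingHom.id F) with hK
  haveI : Fintype K := Fintype.ofFinite K
  have hKc : Fintype.card K = q := by
    rw [← Nat.card_eq_fintype_card]
    exact (Nat.card_congr (Equiv.subtypeEquivRight fun x => Iff.rfl)).trans (H3.card_fixed hF)
  let ι : ↥K →+* F := K.subtype
  let Φ : Matrix.SpecialLinearGroup (Fin 2) ↥K →* ↥(SU 2 F q) :=
    (H3.slConjMap ι P).codRestrict _ fun M => H3.mem_SU_iff.2 fun x y => by
      obtain ⟨u, rfl⟩ := H3.exists_mulVec_eq P x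
      obtain ⟨z, rfl⟩ := H3.exists_mulVec_eq P y
      rw [H3.slConjMap_val, H3.conj_mulVec, H3.conj_mulVec, hP, hP,
        H3.preserves_hyp_of_fixed hF (ι.mapMatrix (M : Matrix (Fin 2) (Fin 2) ↥K))
          (by rw [← RingHom.map_det, Matrix.SpecialLinearGroup.det_coe, map_one])
          (fun i j => ((M : Matrix (Fin 2) (Fin 2) ↥K) i j).2)]
  have hΦv : ∀ M, mat (Φ M) = (P : Matrix (Fin 2) (Fin 2) F) *
      (M : Matrix (Fin 2) (Fin 2) ↥K).map ι * ((P⁻¹ : GL (Fin 2) F) : Matrix (Fin 2) (Fin 2) F) := fun _ => rfl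
  have hΦ : Function.Bijective Φ := by
    refine ⟨fun M M' h => ?_, fun g => ?_⟩
    · have h1 := congrArg mat h
      rw [hΦv, hΦv] at h1
      exact Subtype.ext (Matrix.map_injective ι.injective
        ((Units.mul_right_inj P).1 ((Units.mul_left_inj P⁻¹).1 h1)))
    · set M := ((P⁻¹ : GL (Fin 2) F) : Matrix (Fin 2) (Fin 2) F) * mat g * (P : Matrix (Fin 2) (Fin 2) F) with hM
      have hd : M.det = 1 := by rw [hM, Matrix.det_units_conj']; exact g.1.2
      have hu : ∀ u, (P : Matrix (Fin 2) (Fin 2) F) *ᵥ (M *ᵥ u) = mat g *ᵥ ((P : Matrix (Fin 2) (Fin 2) F) *ᵥ u) :=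
        fun u => by
          rw [Matrix.mulVec_mulVec, Matrix.mulVec_mulVec, hM, ← mul_assoc, ← mul_assoc,
            ← Units.val_mul, mul_inv_cancel, Units.val_one, one_mul]
      have hfx := H3.fixed_of_preserves_hyp hF M hd fun u z => mul_left_cancel₀ hδ0 (by
        rw [← hP, ← hP, hu, hu]
        exact H3.mem_SU_iff.1 g.2 _ _)
      let M' : Matrix (Fin 2) (Fin 2) ↥K := fun i j => ⟨M i j, hfx i j⟩
      have hM' : M'.map ι = M := rfl
      have hd' : M'.det = 1 := ι.injective (by rw [RingHom.map_det, RingHom.mapMatrix_apply, hM', map_one, hd])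
      refine ⟨⟨M', hd'⟩, Subtype.ext (Subtype.ext ?_)⟩
      refine (hΦv _).trans ?_
      show (P : Matrix (Fin 2) (Fin 2) F) * M'.map ι * _ = _
      rw [hM', hM, ← mul_assoc, ← mul_assoc, ← Units.val_mul, mul_inv_cancel, Units.val_one, one_mul, mul_assoc,
        ← Units.val_mul, mul_inv_cancel, Units.val_one, mul_one]
  let Ψ := MulEquiv.ofBijective Φ hΦ
  let Θ := (Ψ.trans θ).trans Ψ.symm
  let β : MulAut (Matrix.ProjectiveSpecialLinearGroup (Fin 2) ↥K) :=
    QuotientGroup.congr _ _ Θ (H70.AutPSL.map_center_equiv Θ)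
  obtain ⟨g, σ, hβ | ⟨h3, -⟩⟩ := H70.AutPSL.exists_semiAut le_rfl β
  swap
  · omega
  obtain ⟨a, -, ha⟩ : ∃ a ∈ (Finset.univ : Finset ↥K), a ∉ ({0, 1, -1} : Finset ↥K) :=
    Finset.exists_mem_notMem_of_card_lt_card (by
      rw [Finset.card_univ, hKc]; exact lt_of_le_of_lt Finset.card_le_three (by omega))
  simp only [Finset.mem_insert, Finset.mem_singleton, not_or] at ha
  have hperf := Matrix.SL2.commutator_eq_top ha.1
    (fun e => by rcases sq_eq_one_iff.1 e with e | e <;> [exact ha.2.1 e; exact ha.2.2 e])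
  have heq : Θ.toMonoidHom = H70.AutPSL.semiHom g σ := by
    refine hom_eq_of_perf hperf (ψ := H70.AutPSL.proj) (le_of_eq (QuotientGroup.ker_mk' _))
      (MonoidHom.ext fun s => ?_)
    show β (H70.AutPSL.proj s) = H70.AutPSL.proj (H70.AutPSL.semiHom g σ s)
    rw [hβ]
    rfl
  obtain ⟨τ, hτ⟩ := exists_extend K σ
  refine ⟨P * (Matrix.GeneralLinearGroup.map ι g) * (Matrix.GeneralLinearGroup.map (τ : F →+* F) P)⁻¹, τ,
    fun A => ?_⟩
  obtain ⟨M, rfl⟩ := hΦ.2 A
  have h1 : θ (Φ M) = Φ (H70.AutPSL.semiHom g σ M) := by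
    have := congrArg Ψ (DFunLike.congr_fun heq M)
    simpa [Θ, Ψ] using this
  have e2 : ((M : Matrix (Fin 2) (Fin 2) ↥K).map σ).map ι = ((M : Matrix (Fin 2) (Fin 2) ↥K).map ι).map τ := by
    ext i j
    exact (hτ _).symm
  rw [h1, hΦv, hΦv, H70.AutPSL.semiHom_coe, Matrix.map_mul, Matrix.map_mul, e2]
  simp only [Matrix.map_mul, Units.val_mul, ← map_inv (Matrix.GeneralLinearGroup.map (τ : F →+* F))]
  set gι := Matrix.GeneralLinearGroup.map ι g
  have hg1 : ((g : Matrix (Fin 2) (Fin 2) ↥K)).map ι = (gι : Matrix (Fin 2) (Fin 2) F) := rfl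
  have hg2 : (((g⁻¹ : GL (Fin 2) ↥K)) : Matrix (Fin 2) (Fin 2) ↥K).map ι = ((gι⁻¹ : GL (Fin 2) F) : Matrix (Fin 2) (Fin 2) F) := by
    show _ = (((Matrix.GeneralLinearGroup.map ι g)⁻¹ : GL (Fin 2) F) : Matrix (Fin 2) (Fin 2) F)
    rw [← map_inv]
    rfl
  set Q := Matrix.GeneralLinearGroup.map (τ : F →+* F) P with hQ
  have hQ2 : ((Matrix.GeneralLinearGroup.map (τ : F →+* F) P⁻¹ : GL (Fin 2) F) : Matrix (Fin 2) (Fin 2) F) =
      ((Q⁻¹ : GL (Fin 2) F) : Matrix (Fin 2) (Fin 2) F) := by rw [hQ, map_inv]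
  rw [hg1, hg2, hQ2, show (P : Matrix (Fin 2) (Fin 2) F).map τ = (Q : Matrix (Fin 2) (Fin 2) F) from rfl,
    show ((P⁻¹ : GL (Fin 2) F) : Matrix (Fin 2) (Fin 2) F).map τ = _ from hQ2]
  simp [mul_assoc]

/-- Automorphisms preserving the diagonal subgroup are diagonal semilinear. -/
theorem exists_normal (hF : Fintype.card F = q ^ 2) (hq : 4 ≤ q) (θ : ↥(SU 2 F q) ≃* ↥(SU 2 F q))
    (hθ : ∀ g, IsDiag g → IsDiag (θ g)) : ∃ (r : F) (τ : F ≃+* F), nm q r = 1 ∧
      ∀ g, mat (θ g) 0 0 = τ (mat g 0 0) ∧ mat (θ g) 1 0 = r * τ (mat g 1 0) := by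
  obtain ⟨h, τ, hh⟩ := exists_semilinear hF hq θ
  set H := (h : Matrix (Fin 2) (Fin 2) F) with hH
  obtain ⟨a, ha, hane⟩ := exists_phase hF hq
  have ha0 : nm q a + nm q (0 : F) = 1 := by rw [ha, nm_zero hF, add_zero]
  set d := su2 hF a 0 ha0 with hd
  obtain ⟨hn, ed⟩ := exists_su2 hF (θ d)
  have hd1 : mat (θ d) 1 0 = 0 := hθ d rfl
  have hdd := hh d
  rw [ed, mat_su2, hd, mat_su2, hd1] at hdd
  set b := mat (θ d) 0 0
  have hτne : τ (a ^ q) ≠ τ a := fun e => hane (τ.injective e)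
  have m00 := congrFun (congrFun hdd 0) 0
  have m01 := congrFun (congrFun hdd 0) 1
  have m10 := congrFun (congrFun hdd 1) 0
  have m11 := congrFun (congrFun hdd 1) 1
  simp [Matrix.mul_apply, Fin.sum_univ_two, zero_pow (q_ne_zero hF)] at m00 m01 m10 m11
  have hdet : H 0 0 * H 1 1 - H 0 1 * H 1 0 ≠ 0 := by
    rw [← Matrix.det_fin_two]; exact Matrix.GeneralLinearGroup.det_ne_zero h
  have z1 : H 0 0 = 0 ∨ H 0 1 = 0 := by
    by_contra hc
    push Not at hc
    have e1 : b = τ a := mul_right_cancel₀ hc.1 (by linear_combination m00)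
    have e2 : b = τ (a ^ q) := mul_right_cancel₀ hc.2 (by rw [map_pow]; linear_combination m01)
    exact hτne (e2.symm.trans e1)
  have z2 : H 1 0 = 0 ∨ H 1 1 = 0 := by
    by_contra hc
    push Not at hc
    have e1 : b ^ q = τ a := mul_right_cancel₀ hc.1 (by linear_combination m10)
    have e2 : b ^ q = τ (a ^ q) := mul_right_cancel₀ hc.2 (by rw [map_pow]; linear_combination m11)
    exact hτne (e2.symm.trans e1)
  have entry : ∀ g, ∀ i j : Fin 2, (mat (θ g) * H) i j = (H * (mat g).map τ) i j := fun g i j => by rw [hh g]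
  have h1 : nm q (0 : F) + nm q (1 : F) = 1 := by rw [nm_zero hF, nm_one, zero_add]
  set w := su2 hF 0 1 h1 with hw
  have ew := mat_eq hF (θ w)
  rcases z1 with e00 | e01
  · have e01' : H 0 1 ≠ 0 := fun e => hdet (by rw [e00, e]; ring)
    have e10' : H 1 0 ≠ 0 := fun e => hdet (by rw [e00, e]; ring)
    have e11 : H 1 1 = 0 := z2.resolve_left e10'
    refine ⟨-(H 1 0 / H 0 1), (RingEquiv.ofBijective _ (H3.conjQ_bijective hF)).trans τ, ?_, fun g => ?_⟩
    · have k1 := entry w 1 1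
      have k0 := entry w 0 0
      rw [ew, hw, mat_su2] at k0 k1
      simp [Matrix.mul_apply, Fin.sum_univ_two, e00, e11, zero_pow (q_ne_zero hF)] at k0 k1
      set y := mat (θ (su2 hF 0 1 h1)) 1 0
      have hy : y = -(H 1 0 / H 0 1) := by field_simp; linear_combination k1
      rw [nm, ← hy]
      have hy2 : y ^ q = -(H 0 1 / H 1 0) := by field_simp; linear_combination -k0
      rw [hy2, hy]
      field_simp
    · have eg := mat_eq hF g
      have eg' := mat_eq hF (θ g)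
      have k1 := entry g 1 1
      have k0 := entry g 0 1
      rw [eg', eg] at k0 k1
      simp [Matrix.mul_apply, Fin.sum_univ_two, e00, e11] at k0 k1
      show _ = τ (mat g 0 0 ^ q) ∧ _ = _ * τ (mat g 1 0 ^ q)
      rw [map_pow, map_pow]
      refine ⟨mul_right_cancel₀ e01' (by linear_combination k0), mul_right_cancel₀ e01' ?_⟩
      field_simp
      linear_combination k1
  · have e00' : H 0 0 ≠ 0 := fun e => hdet (by rw [e01, e]; ring)
    have e11' : H 1 1 ≠ 0 := fun e => hdet (by rw [e01, e]; ring)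
    have e10 : H 1 0 = 0 := z2.resolve_right e11'
    refine ⟨H 1 1 / H 0 0, τ, ?_, fun g => ?_⟩
    · have k1 := entry w 1 0
      have k0 := entry w 0 1
      rw [ew, hw, mat_su2] at k0 k1
      simp [Matrix.mul_apply, Fin.sum_univ_two, e01, e10, zero_pow (q_ne_zero hF)] at k0 k1
      set y := mat (θ (su2 hF 0 1 h1)) 1 0
      have hy : y = H 1 1 / H 0 0 := by field_simp; linear_combination k1
      rw [nm, ← hy]
      have hy2 : y ^ q = H 0 0 / H 1 1 := by field_simp; linear_combination k0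
      rw [hy2, hy]
      field_simp
    · have k1 := entry g 1 0
      have k0 := entry g 0 0
      simp [Matrix.mul_apply, Fin.sum_univ_two, e01, e10] at k0 k1
      refine ⟨mul_right_cancel₀ e00' (by linear_combination k0), mul_right_cancel₀ e00' ?_⟩
      field_simp
      linear_combination k1

/-- An automorphism of `SU 2` preserving the diagonal subgroup extends to `SU 3`. -/
theorem exists_extension (hF : Fintype.card F = q ^ 2) (hq : 4 ≤ q) (θ : ↥(SU 2 F q) ≃* ↥(SU 2 F q))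
    (hθ : ∀ g, IsDiag g → IsDiag (θ g)) : ∃ E : ↥(SU 3 F q) ≃* ↥(SU 3 F q),
      (∀ g, E (lo g) = lo (θ g)) ∧
      (hi (F := F) (q := q)).range.map E.toMonoidHom = (hi (F := F) (q := q)).range := by
  classical
  obtain ⟨r, τ, hr, hθr⟩ := exists_normal hF hq θ hθ
  set d : Fin 3 → F := ![1, r, 1] with hd
  have hdn : ∀ i, d i ^ (q + 1) = 1 := fun i => by
    rw [pow_succ']
    fin_cases i
    · simp [hd]
    · exact hr
    · simp [hd]
  let E := H23.AutPSU.semiEquiv (H3.guDiag d hdn) τ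
  have hmat : ∀ g i j, mat (E g) i j = d i * τ (mat g i j) * d j ^ q := fun g i j => by
    show (Matrix.diagonal d * (mat g).map τ * Matrix.diagonal (fun k => d k ^ q)) i j = _
    rw [Matrix.mul_diagonal, Matrix.diagonal_mul, Matrix.map_apply]
  have hGI : ∀ (I : Set (Fin 3)) (g : ↥(SU 3 F q)), g ∈ GI I → E g ∈ GI I := by
    intro I g hg k hk
    funext l
    have h1 : mat g l k = ev (F := F) k l := by rw [← hg k hk]; simp [act, ev]
    have h2 : act (E g) (ev k) l = mat (E g) l k := by simp [act, ev]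
    rw [h2, hmat, h1]
    by_cases hl : l = k
    · subst hl
      simp only [ev, Pi.single_eq_same, map_one, mul_one]
      rw [← pow_succ', hdn]
    · simp [ev, hl]
  have hf0 : e2 (N := 3) 0 (by omega) 0 = 0 := rfl
  have hf1 : e2 (N := 3) 0 (by omega) 1 = 1 := rfl
  refine ⟨E, fun g => ?_, ?_⟩
  · obtain ⟨A, hA⟩ := exists_emb _ hF (hGI _ _ (emb_mem (e2 (N := 3) 0 (by omega)) g))
    rw [← hA]
    congr 1
    have key : ∀ i j, mat A i j = d (e2 (N := 3) 0 (by omega) i) * τ (mat g i j) * d (e2 (N := 3) 0 (by omega) j) ^ q := by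
      intro i j
      have hin : ∀ (B : ↥(SU 2 F q)), mat (lo B) (e2 (N := 3) 0 (by omega) i) (e2 (N := 3) 0 (by omega) j) = mat B i j :=
        fun B => by simpa [act, ev] using act_emb_ev (e2 (N := 3) 0 (by omega)) B j i
      rw [← hin A, show lo A = E (lo g) from hA, hmat, hin g]
    obtain ⟨h1, h2⟩ := hθr g
    obtain ⟨hA1, eA⟩ := exists_su2 hF A
    obtain ⟨hA2, eθ⟩ := exists_su2 hF (θ g)
    have k0 : mat A 0 0 = mat (θ g) 0 0 := by rw [key, hf0, h1]; simp [hd]
    have k1 : mat A 1 0 = mat (θ g) 1 0 := by rw [key, hf1, hf0, h2]; simp [hd]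
    rw [eA, eθ]
    simp only [k0, k1]
  · refine Subgroup.eq_of_le_of_card_ge ?_ ?_
    · rw [range_emb _ hF]
      rintro _ ⟨g, hg, rfl⟩
      exact hGI _ g hg
    · rw [Subgroup.card_map_of_injective (f := E.toMonoidHom) E.injective]

end Cfsg.Agent.H78.Phan
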