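import Cfsg.Agent.H78.Phan.ThreeStd
import Cfsg.Agent.H78.Phan.Fixer

/-!
# Two and three coordinates over four elements
-/

set_option autoImplicit false

namespace Cfsg.Agent.H78.Phan

open Matrix Cfsg

variable {F : Type*} [Field F] [Fintype F] (hF : Fintype.card F = 2 ^ 2)
include hF

theorem char_two : (2 : F) = 0 := by
  have h : ((Fintype.card F : ℕ) : F) = 0 := Nat.cast_card_eq_zero F
  rw [hF] at h
  norm_num at h
  exact mul_self_eq_zero.1 (by linear_combination h)

theorem cube_one {x : F} (hx : x ≠ 0) : x * x * x = 1 := by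
  have h := FiniteField.pow_card_sub_one_eq_one x hx
  rw [hF] at h
  simpa [pow_succ] using h

theorem exists_omega : ∃ w : F, w * w + w + 1 = 0 := by
  classical
  obtain ⟨x, hx⟩ : ∃ x : F, x ∉ ({0, 1} : Finset F) := by
    obtain ⟨x, -, hx⟩ := Finset.exists_mem_notMem_of_card_lt_card (s := ({0, 1} : Finset F)) (t := Finset.univ)
      (lt_of_le_of_lt Finset.card_le_two (by rw [Finset.card_univ, hF]; norm_num))
    exact ⟨x, hx⟩
  simp only [Finset.mem_insert, Finset.mem_singleton, not_or] at hx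
  refine ⟨x, (mul_eq_zero.1 (show (x - 1) * (x * x + x + 1) = 0 by
    linear_combination cube_one hF hx.1)).resolve_left (sub_ne_zero.2 hx.2)⟩

/-- A primitive cube root of one. -/
noncomputable def omg : F := (exists_omega hF).choose

theorem omg_eq : omg hF * omg hF + omg hF + 1 = 0 := (exists_omega hF).choose_spec

theorem omg_sq : omg hF * omg hF = omg hF + 1 := by
  linear_combination omg_eq hF - (omg hF + 1) * char_two hF

theorem omg_ne : omg hF ≠ 0 ∧ omg hF ≠ 1 ∧ omg hF * omg hF ≠ 1 ∧ omg hF ≠ omg hF * omg hF := by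
  have h := omg_sq hF
  have h2 := char_two hF
  refine ⟨fun e => ?_, fun e => ?_, fun e => ?_, fun e => ?_⟩ <;> apply one_ne_zero (α := F)
  · rw [e] at h; linear_combination -h
  · rw [e] at h; linear_combination -h
  · rw [e] at h
    rw [show omg hF = 0 by linear_combination -h] at e
    linear_combination -e
  · rw [← e] at h; linear_combination -h

theorem omg_cube : omg hF * omg hF * omg hF = 1 := cube_one hF (omg_ne hF).1

theorem cube_cases {x : F} (hx : x * x * x = 1) : x = 1 ∨ x = omg hF ∨ x = omg hF * omg hF := by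
  have h : (x - 1) * ((x - omg hF) * (x - omg hF * omg hF)) = 0 := by
    linear_combination hx + (x - x * x) * omg_eq hF + (x - 1) * omg_cube hF
  rcases mul_eq_zero.1 h with h | h
  · exact Or.inl (sub_eq_zero.1 h)
  · rcases mul_eq_zero.1 h with h | h
    · exact Or.inr (Or.inl (sub_eq_zero.1 h))
    · exact Or.inr (Or.inr (sub_eq_zero.1 h))

theorem sq_root_one {x : F} (h : x * x = 1) : x = 1 :=
  sub_eq_zero.1 (mul_self_eq_zero.1 (by linear_combination h - (x - 1) * char_two hF))

theorem nm_two {x : F} (hx : x ≠ 0) : nm 2 x = 1 := by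
  rw [nm, pow_two, ← mul_assoc, cube_one hF hx]

theorem add_sq (x y : F) : (x + y) ^ 2 = x ^ 2 + y ^ 2 := by linear_combination (x * y) * char_two hF

theorem nm_diag {x : F} (hx : x ≠ 0) : nm 2 x + nm 2 (0 : F) = 1 := by
  rw [nm_two hF hx, nm_zero hF, add_zero]

theorem nm_anti {y : F} (hy : y ≠ 0) : nm 2 (0 : F) + nm 2 y = 1 := by
  rw [nm_two hF hy, nm_zero hF, zero_add]

/-- The diagonal element of order three. -/
noncomputable def tA : ↥(SU 2 F 2) := su2 hF (omg hF) 0 (nm_diag hF (omg_ne hF).1)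

/-- An involution. -/
noncomputable def tB : ↥(SU 2 F 2) := su2 hF 0 1 (nm_anti hF one_ne_zero)

theorem su2_cases (g : ↥(SU 2 F 2)) :
    (∃ x, ∃ hx : x ≠ 0, g = su2 hF x 0 (nm_diag hF hx)) ∨ ∃ y, ∃ hy : y ≠ 0, g = su2 hF 0 y (nm_anti hF hy) := by
  obtain ⟨h, e⟩ := exists_su2 hF g
  by_cases hx : mat g 0 0 = 0
  · have hy : mat g 1 0 ≠ 0 := fun hy => by
      rw [hx, hy, nm_zero hF, add_zero] at h
      exact zero_ne_one h
    exact Or.inr ⟨_, hy, e.trans (su2_congr hF hx rfl)⟩
  · have hy : mat g 1 0 = 0 := by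
      by_contra hy
      rw [nm_two hF hx, nm_two hF hy] at h
      exact one_ne_zero (α := F) (by linear_combination -h + char_two hF)
    exact Or.inl ⟨_, hx, e.trans (su2_congr hF rfl hy)⟩

theorem anti_sq {y : F} (hy : y ≠ 0) : su2 hF 0 y (nm_anti hF hy) * su2 hF 0 y (nm_anti hF hy) = 1 := by
  rw [← su2_one hF (h := nm_diag hF one_ne_zero), su2_mul]
  refine su2_congr hF ?_ (by ring)
  linear_combination -(cube_one hF hy) - char_two hF

theorem tB_sq : tB hF * tB hF = 1 := anti_sq hF one_ne_zero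

theorem tA_cube : tA hF * tA hF * tA hF = 1 := by
  rw [← su2_one hF (h := nm_diag hF one_ne_zero), tA, su2_mul, su2_mul]
  exact su2_congr hF (by linear_combination omg_cube hF) (by ring)

theorem tAB_sq : tA hF * tB hF * (tA hF * tB hF) = 1 := by
  have hy : omg hF ^ 2 ≠ 0 := pow_ne_zero 2 (omg_ne hF).1
  have e : tA hF * tB hF = su2 hF 0 (omg hF ^ 2) (nm_anti hF hy) := by
    rw [tA, tB, su2_mul]
    exact su2_congr hF (by ring) (by ring)
  rw [e, anti_sq hF hy]

theorem eq_top_of_mem {P : Subgroup ↥(SU 2 F 2)} (hA : tA hF ∈ P) (hB : tB hF ∈ P) : P = ⊤ := by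
  have diag : ∀ x, (hx : x ≠ 0) → su2 hF x 0 (nm_diag hF hx) ∈ P := fun x hx => by
    rcases cube_cases hF (cube_one hF hx) with rfl | rfl | rfl
    · rw [su2_one hF]; exact one_mem _
    · exact hA
    · have e : su2 hF (omg hF * omg hF) 0 (nm_diag hF hx) = tA hF * tA hF := by
        rw [tA, su2_mul]; exact su2_congr hF (by ring) (by ring)
      rw [e]; exact mul_mem hA hA
  refine eq_top_iff.2 fun g _ => ?_
  rcases su2_cases hF g with ⟨x, hx, rfl⟩ | ⟨y, hy, rfl⟩
  · exact diag x hx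
  · have e : su2 hF 0 y (nm_anti hF hy) = tB hF * su2 hF y 0 (nm_diag hF hy) := by
      rw [tB, su2_mul]; exact su2_congr hF (by ring) (by ring)
    rw [e]; exact mul_mem hB (diag y hy)

/-- The matrix of the transform on three coordinates. -/
noncomputable def fourMat : Matrix (Fin 3) (Fin 3) F :=
  !![1, 1, 1; 1, omg hF, omg hF * omg hF; 1, omg hF * omg hF, omg hF]

/-- The transform on three coordinates. -/
noncomputable def four : ↥(SU 3 F 2) :=
  ⟨⟨fourMat hF, by
    rw [Matrix.det_fin_three, fourMat]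
    simp
    have h := omg_sq hF
    have h2 := char_two hF
    grobner⟩, fun u v => by
    show hermForm 3 F 2 (fourMat hF *ᵥ u) (fourMat hF *ᵥ v) = hermForm 3 F 2 u v
    simp only [fourMat, hermForm, Fin.sum_univ_three, Matrix.mulVec, dotProduct]
    simp
    have h := omg_sq hF
    have h2 := char_two hF
    grobner⟩

theorem act_four (v : Fin 3 → F) : act (four hF) v = ![v 0 + v 1 + v 2, v 0 + omg hF * v 1 + omg hF * omg hF * v 2,
    v 0 + omg hF * omg hF * v 1 + omg hF * v 2] := by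
  show fourMat hF *ᵥ v = _
  funext i
  fin_cases i <;> simp [fourMat, Matrix.mulVec, dotProduct, Fin.sum_univ_three]

/-- The cyclic permutation. -/
noncomputable def cyc : ↥(SU 3 F 2) := lo (tB hF) * hi (tB hF)

theorem act_tB_lo (v : Fin 3 → F) : act (lo (tB hF)) v = ![v 1, v 0, v 2] := by
  rw [tB, act_lo]
  have h2 := char_two hF
  funext i
  fin_cases i <;> simp
  grobner

theorem act_tB_hi (v : Fin 3 → F) : act (hi (tB hF)) v = ![v 0, v 2, v 1] := by
  rw [tB, act_hi]
  have h2 := char_two hF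
  funext i
  fin_cases i <;> simp
  grobner

theorem act_cyc (v : Fin 3 → F) : act (cyc hF) v = ![v 2, v 0, v 1] := by
  rw [cyc, act_mul, act_tB_hi, act_tB_lo]
  simp

theorem act_hiA (v : Fin 3 → F) : act (hi (tA hF)) v = ![v 0, omg hF * v 1, omg hF * omg hF * v 2] := by
  rw [tA, act_hi]
  funext i
  fin_cases i <;> simp [pow_two]

theorem act_loA (v : Fin 3 → F) : act (lo (tA hF)) v = ![omg hF * v 0, omg hF * omg hF * v 1, v 2] := by
  rw [tA, act_lo]
  funext i
  fin_cases i <;> simp [pow_two]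

theorem four_sq : four hF * four hF = hi (tB hF) := by
  refine ext_act fun v => ?_
  rw [act_mul, act_four, act_four, act_tB_hi]
  have h := omg_sq hF
  have h2 := char_two hF
  funext i
  fin_cases i <;> simp <;> grobner

theorem four_b : four hF * cyc hF = hi (tA hF) * four hF := by
  refine ext_act fun v => ?_
  rw [act_mul, act_mul, act_four, act_cyc, act_hiA, act_four]
  have h := omg_sq hF
  have h2 := char_two hF
  funext i
  fin_cases i <;> simp <;> grobner

theorem four_cyc : cyc hF * four hF = four hF * (hi (tA hF) * hi (tA hF)) := by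
  refine ext_act fun v => ?_
  rw [act_mul, act_mul, act_mul, act_hiA, act_hiA, act_four, act_cyc, act_four]
  have h := omg_sq hF
  have h2 := char_two hF
  funext i
  fin_cases i <;> simp <;> grobner

/-- The scalar of order three. -/
noncomputable def scal3 : ↥(SU 3 F 2) := lo (tA hF) * (hi (tA hF))⁻¹

theorem act_scal3 (v : Fin 3 → F) : act (scal3 hF) v = omg hF • v := by
  have h := omg_sq hF
  have h2 := char_two hF
  have e : act (hi (tA hF)) ![v 0, omg hF * omg hF * v 1, omg hF * v 2] = v := by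
    rw [act_hiA]
    funext i
    fin_cases i <;> simp <;> grobner
  rw [scal3, act_mul, act_inv_eq e, act_loA]
  funext i
  fin_cases i <;> simp <;> grobner

theorem scal3_mem : scal3 hF ∈ Subgroup.center ↥(SU 3 F 2) :=
  (H3.mem_center_SU_iff hF (by omega) _).2 ⟨omg hF, act_scal3 hF⟩

theorem scal3_ne : scal3 hF ≠ 1 := fun e => (omg_ne hF).2.1 (by
  have := congrFun (congrArg (fun g => act g (ev 0 : Fin 3 → F)) e) 0
  simpa [act_scal3, act_one, ev] using this)

theorem center3_two : Subgroup.center ↥(SU 3 F 2) = Subgroup.zpowers (scal3 hF) := by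
  refine (Subgroup.eq_of_le_of_card_ge (Subgroup.zpowers_le.2 (scal3_mem hF)) ?_).symm
  rw [H3.card_center_SU hF (by omega), Nat.card_zpowers]
  haveI : Fact (Nat.Prime 3) := ⟨Nat.prime_three⟩
  rw [orderOf_eq_prime (p := 3) ?_ (scal3_ne hF)]
  · rfl
  · refine ext_act fun v => ?_
    rw [pow_succ, pow_two, act_mul, act_mul, act_scal3, act_scal3, act_scal3, act_one, smul_smul, smul_smul,
      omg_cube hF, one_smul]

theorem hiA_cyc : hi (tA hF) * cyc hF = scal3 hF * (cyc hF * hi (tA hF)) := by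
  refine ext_act fun v => ?_
  rw [act_mul, act_mul, act_mul, act_scal3, act_hiA, act_cyc, act_hiA, act_cyc]
  have h := omg_sq hF
  have h2 := char_two hF
  funext i
  fin_cases i <;> simp <;> grobner

/-- Conjugation by a diagonal element. -/
noncomputable def twist (e : F) (he : e ≠ 0) : ↥(SU 3 F 2) →* ↥(SU 3 F 2) :=
  H23.AutPSU.semiHom (H3.guDiag ![1, 1, e] (fun i => by
    rw [pow_succ, pow_two]
    fin_cases i
    · simp
    · simp
    · exact cube_one hF he)) 1

theorem act_twist (e : F) (he : e ≠ 0) (g : ↥(SU 3 F 2)) (v : Fin 3 → F) :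
    act (twist hF e he g) v = ![1, 1, e] * act g ![v 0, v 1, e * e * v 2] := by
  show H23.AutPSU.semiMat _ 1 (mat g) *ᵥ v = _
  rw [H23.AutPSU.semiMat]
  show (Matrix.diagonal ![1, 1, e] * (mat g).map ⇑(1 : F ≃+* F) * Matrix.diagonal (fun k => (![1, 1, e] k) ^ 2)) *ᵥ v = _
  rw [show (mat g).map ⇑(1 : F ≃+* F) = mat g from Matrix.map_id _, ← Matrix.mulVec_mulVec, ← Matrix.mulVec_mulVec]
  have : (Matrix.diagonal fun k => (![1, 1, e] k) ^ 2) *ᵥ v = ![v 0, v 1, e * e * v 2] := by
    funext i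
    rw [Matrix.mulVec_diagonal]
    fin_cases i <;> simp [pow_two]
  rw [this]
  funext i
  rw [Matrix.mulVec_diagonal]
  rfl

theorem twist_GI (e : F) (he : e ≠ 0) {I : Set (Fin 3)} {g : ↥(SU 3 F 2)} (hg : g ∈ GI I) :
    twist hF e he g ∈ GI I := by
  intro k hk
  rw [act_twist hF]
  have h := cube_one hF he
  have hv : ![(ev k : Fin 3 → F) 0, ev k 1, e * e * ev k 2] = (![1, 1, e * e] k) • ev k := by
    funext i
    fin_cases i <;> fin_cases k <;> simp [ev]
  rw [hv, act_smul, hg k hk]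
  funext i
  fin_cases i <;> fin_cases k <;> simp [ev]
  grobner

theorem twist_b (e : F) (he : e ≠ 0) : twist hF e he (hi (tA hF)) = hi (tA hF) := by
  refine ext_act fun v => ?_
  rw [act_twist hF, act_hiA, act_hiA]
  have h := cube_one hF he
  funext i
  fin_cases i <;> simp
  grobner

theorem twist_cyc : twist hF (omg hF) (omg_ne hF).1 (cyc hF) = cyc hF * hi (tA hF) := by
  refine ext_act fun v => ?_
  rw [act_twist hF, act_mul, act_cyc, act_hiA, act_cyc]
  funext i
  fin_cases i <;> simp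
  all_goals grobner

/-- The blocks and the twisted transforms generate. -/
theorem eq_top_three {P : Subgroup ↥(SU 3 F 2)} (hlo : (lo (F := F) (q := 2)).range ≤ P)
    (hhi : (hi (F := F) (q := 2)).range ≤ P) (h4 : ∀ e he, twist hF e he (four hF) ∈ P) : P = ⊤ := by
  suffices main : ∀ v : Fin 3 → F, hermForm 3 F 2 v v = 1 → ∃ p ∈ P, act p (ev 0) = v by
    refine eq_top_iff.2 fun g _ => ?_
    obtain ⟨p, hp, hpe⟩ := main (act g (ev 0)) (by rw [herm_act, herm_ev hF]; simp [ev])
    have : p⁻¹ * g ∈ (hi (F := F) (q := 2)).range := by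
      rw [range_hi hF, suBlock_eq hF, GI_eq_Fix0, mem_Fix, act_mul]
      exact act_inv_eq hpe
    simpa using mul_mem hp (hhi this)
  intro v hv
  have dlo : ∀ (x : F) (hx : x ≠ 0) (u : Fin 3 → F),
      act (lo (su2 hF x 0 (nm_diag hF hx))) u = ![x * u 0, x * x * u 1, u 2] := fun x hx u => by
    rw [act_lo]; funext i; fin_cases i <;> simp [pow_two]
  have dhi : ∀ (x : F) (hx : x ≠ 0) (u : Fin 3 → F),
      act (hi (su2 hF x 0 (nm_diag hF hx))) u = ![u 0, x * u 1, x * x * u 2] := fun x hx u => by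
    rw [act_hi]; funext i; fin_cases i <;> simp [pow_two]
  have hn : nm 2 (v 0) + nm 2 (v 1) + nm 2 (v 2) = 1 := by rw [← hv, herm_self, Fin.sum_univ_three]
  have h2 := char_two hF
  classical
  have hz : ∀ x : F, nm 2 x = if x = 0 then 0 else 1 := fun x => by
    split_ifs with h
    · rw [h, nm_zero hF]
    · exact nm_two hF h
  rw [hz, hz, hz] at hn
  by_cases z0 : v 0 = 0 <;> by_cases z1 : v 1 = 0 <;> by_cases z2 : v 2 = 0 <;>
    simp only [z0, z1, z2, if_true, if_false, zero_add, add_zero] at hn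
  · exact absurd hn zero_ne_one
  · refine ⟨hi (tB hF) * lo (tB hF) * lo (su2 hF (v 2) 0 (nm_diag hF z2)),
      mul_mem (mul_mem (hhi ⟨_, rfl⟩) (hlo ⟨_, rfl⟩)) (hlo ⟨_, rfl⟩), ?_⟩
    rw [act_mul, act_mul, dlo _ z2, act_tB_lo, act_tB_hi]
    funext i
    fin_cases i <;> simp [ev, z0, z1]
  · refine ⟨lo (tB hF) * lo (su2 hF (v 1) 0 (nm_diag hF z1)), mul_mem (hlo ⟨_, rfl⟩) (hlo ⟨_, rfl⟩), ?_⟩
    rw [act_mul, dlo _ z1, act_tB_lo]
    funext i
    fin_cases i <;> simp [ev, z0, z2]
  · exact absurd (show (1 : F) = 0 by linear_combination -hn + h2) one_ne_zero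
  · refine ⟨lo (su2 hF (v 0) 0 (nm_diag hF z0)), hlo ⟨_, rfl⟩, ?_⟩
    rw [dlo _ z0]
    funext i
    fin_cases i <;> simp [ev, z1, z2]
  · exact absurd (show (1 : F) = 0 by linear_combination -hn + h2) one_ne_zero
  · exact absurd (show (1 : F) = 0 by linear_combination -hn + h2) one_ne_zero
  · have hp : v 0 * v 1 * v 2 ≠ 0 := mul_ne_zero (mul_ne_zero z0 z1) z2
    refine ⟨lo (su2 hF (v 0) 0 (nm_diag hF z0)) * hi (su2 hF (v 0 * v 1) 0 (nm_diag hF (mul_ne_zero z0 z1))) *
      twist hF _ hp (four hF), mul_mem (mul_mem (hlo ⟨_, rfl⟩) (hhi ⟨_, rfl⟩)) (h4 _ hp), ?_⟩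
    rw [act_mul, act_mul, act_twist hF, act_four, dhi _ (mul_ne_zero z0 z1), dlo _ z0]
    have c0 := cube_one hF z0
    have c1 := cube_one hF z1
    funext i
    fin_cases i <;> simp [ev] <;> grobner

/-- Characters of order dividing three trivial on the blocks are trivial. -/
theorem char_trivial (f : ↥(SU 3 F 2) →* F) (hlo : ∀ x, f (lo x) = 1) (hhi : ∀ x, f (hi x) = 1)
    (g : ↥(SU 3 F 2)) : f g = 1 := by
  let P : Subgroup ↥(SU 3 F 2) := f.toHomUnits.ker
  have hm : ∀ x, x ∈ P ↔ f x = 1 := fun x => by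
    rw [MonoidHom.mem_ker, Units.ext_iff]; rfl
  have h : P = ⊤ := by
    refine eq_top_three hF (fun _ ⟨x, hx⟩ => (hm _).2 (hx ▸ hlo x)) (fun _ ⟨x, hx⟩ => (hm _).2 (hx ▸ hhi x))
      fun e he => (hm _).2 (sq_root_one hF ?_)
    rw [← map_mul, ← map_mul, four_sq]
    obtain ⟨A, hA⟩ : twist hF e he (hi (tB hF)) ∈ (hi (F := F) (q := 2)).range := by
      rw [range_emb _ hF]; exact twist_GI hF e he (emb_mem _ _)
    rw [← hA, hhi]
  exact (hm g).1 (h ▸ Subgroup.mem_top g)

end Cfsg.Agent.H78.Phan
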