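import Cfsg.Agent.H78.Phan.TwoStd
import Cfsg.Agent.H23.AutPSU.Semilinear
import Cfsg.Agent.H3.Simple

/-!
# Recognition over four elements
-/

set_option autoImplicit false

namespace Cfsg.Agent.H78.Phan

open Matrix Cfsg

variable {F : Type*} [Field F] [Fintype F] (hF : Fintype.card F = 2 ^ 2)
include hF

theorem tA_ne : tA hF ≠ 1 := fun e => (omg_ne hF).2.1 (by
  have h := congrFun (congrFun (congrArg mat e) 0) 0
  rw [tA, mat_su2] at h
  simpa [mat] using h)

theorem tB_ne : tB hF ≠ 1 := fun e => zero_ne_one (α := F) (by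
  have h := congrFun (congrFun (congrArg mat e) 0) 0
  rw [tB, mat_su2] at h
  simpa [mat] using h)

theorem order_three_diag {u : ↥(SU 2 F 2)} (h3 : u * u * u = 1) (h1 : u ≠ 1) :
    ∃ x, ∃ hx : x ≠ 0, x ≠ 1 ∧ u = su2 hF x 0 (nm_diag hF hx) := by
  rcases su2_cases hF u with ⟨x, hx, e⟩ | ⟨y, hy, e⟩
  · exact ⟨x, hx, fun e1 => h1 (by subst e1; rw [e, su2_one hF]), e⟩
  · exfalso
    apply h1
    have h2 : u * u = 1 := by rw [e]; exact anti_sq hF hy
    rwa [h2, one_mul] at h3

theorem involution_anti {u : ↥(SU 2 F 2)} (h2 : u * u = 1) (h1 : u ≠ 1) :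
    ∃ y, ∃ hy : y ≠ 0, u = su2 hF 0 y (nm_anti hF hy) := by
  rcases su2_cases hF u with ⟨x, hx, e⟩ | ⟨y, hy, e⟩
  · exfalso
    rw [e, su2_mul, ← su2_one hF (h := nm_diag hF one_ne_zero)] at h2
    have h3 := congrFun (congrFun (congrArg mat h2) 0) 0
    rw [mat_su2, mat_su2] at h3
    simp [zero_pow] at h3
    have hx1 : x = 1 := sq_root_one hF h3
    subst hx1
    exact h1 (by rw [e, su2_one hF])
  · exact ⟨y, hy, e⟩

theorem mat_pair {j : ℕ} (h : j + 2 ≤ 4) {x : F} (hx : x ≠ 0) :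
    mat (pair4 j h (su2 hF x 0 (nm_diag hF hx))) =
      Matrix.diagonal fun i : Fin 4 => if (i : ℕ) = j then x else if (i : ℕ) = j + 1 then x * x else 1 :=
  diag_mat fun i => by
    funext r
    by_cases hr : r ∈ Set.range (e2 (N := 4) j h)
    · obtain ⟨s, rfl⟩ := hr
      rw [act_emb_in, act_su2]
      have hp : ∀ t : Fin 2, ((e2 (N := 4) j h t : Fin 4) : ℕ) = j + t := fun _ => rfl
      rcases (show s = 0 ∨ s = 1 by omega) with rfl | rfl <;> by_cases hi0 : (i : ℕ) = j <;>
        by_cases hi1 : (i : ℕ) = j + 1 <;>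
        simp [ev, Pi.single_apply, Fin.ext_iff, hp, hi0, hi1, eq_comm, pow_two]
    · rw [act_emb_out _ _ _ hr]
      have hr' : (r : ℕ) ≠ j ∧ (r : ℕ) ≠ j + 1 := by
        constructor <;> intro e <;> apply hr
        · exact ⟨0, Fin.ext e.symm⟩
        · exact ⟨1, Fin.ext e.symm⟩
      by_cases e : r = i
      · subst e; simp [ev, hr'.1, hr'.2]
      · simp [ev, e]

variable {G : Type*} [Group G]

/-- The lift of a homomorphism through an injective one. -/
noncomputable def liftInj {A B : Type*} [Group A] [Group B] (g : B →* G) (hg : Function.Injective g) (φ : A →* G)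
    (h : φ.range ≤ g.range) : A →* B :=
  (MonoidHom.ofInjective hg).symm.toMonoidHom.comp (φ.codRestrict g.range fun x => h ⟨x, rfl⟩)

omit hF [Field F] [Fintype F] in
theorem liftInj_spec {A B : Type*} [Group A] [Group B] (g : B →* G) (hg : Function.Injective g) (φ : A →* G)
    (h : φ.range ≤ g.range) (x : A) : g (liftInj g hg φ h x) = φ x :=
  congrArg Subtype.val ((MonoidHom.ofInjective hg).apply_symm_apply ⟨φ x, h ⟨x, rfl⟩⟩)

/-- Standard quadruples. -/
theorem std4_two {U V : ℕ → Subgroup G} {a : ℕ}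
    (hs0 : ∃ φ : ↥(SU 3 F 2) →* G, Std φ (U a) (U (a + 1)) ∧ φ.range = V a)
    (hs1 : ∃ φ : ↥(SU 3 F 2) →* G, Std φ (U (a + 1)) (U (a + 2)) ∧ φ.range = V (a + 1))
    (hc : ∀ x ∈ U a, ∀ y ∈ U (a + 2), x * y = y * x)
    (h4 : ∃ g : ↥(SU 4 F 2) →* ↥(V a ⊔ V (a + 1)), Function.Surjective g) :
    ∃ g : ↥(SU 4 F 2) →* G, Std4 g U V a := by
  obtain ⟨φ, hφ, hφr⟩ := hs0
  obtain ⟨ψ, hψ, hψr⟩ := hs1
  obtain ⟨g0, hg0⟩ := h4
  set g := (V a ⊔ V (a + 1)).subtype.comp g0 with hg
  have hrange : g.range = V a ⊔ V (a + 1) := by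
    rw [hg, MonoidHom.range_comp, MonoidHom.range_eq_top.2 hg0, ← MonoidHom.range_eq_map, Subgroup.range_subtype]
  have hφle : φ.range ≤ g.range := by rw [hφr, hrange]; exact le_sup_left
  have hψle : ψ.range ≤ g.range := by rw [hψr, hrange]; exact le_sup_right
  have hginj : Function.Injective g := by
    rcases H3.normal_le_center_or_eq_top hF (by omega : 3 ≤ 4) (by omega) g.ker with h | h
    · refine (MonoidHom.ker_eq_bot_iff g).1 (le_bot_iff.1 (h.trans (le_of_eq ?_)))
      exact Subgroup.eq_bot_of_card_eq _ (by rw [H3.card_center_SU hF (by omega)]; rfl)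
    · exfalso
      obtain ⟨x, hx⟩ := hφle ⟨lo (tB hF), rfl⟩
      refine tB_ne hF (hφ.inj_lo hF ?_)
      rw [map_one, MonoidHom.comp_apply, ← hx]
      exact MonoidHom.mem_ker.1 (h ▸ Subgroup.mem_top x)
  set Φ := liftInj g hginj φ hφle with hΦdef
  have hΦ : ∀ x, g (Φ x) = φ x := liftInj_spec g hginj φ hφle
  have hΦhi : Function.Injective (Φ.comp hi) := fun x y e => hφ.inj_hi hF (by
    show φ _ = φ _
    rw [← hΦ, ← hΦ]; exact congrArg g e)
  have hΦinj : Function.Injective Φ := inj_of_hi hF Φ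
    (fun x hx => hφ.ker_le (MonoidHom.mem_ker.2 (by rw [← hΦ, MonoidHom.mem_ker.1 hx, map_one]))) hΦhi
  obtain ⟨c, E, hc1, hc3, dz, dX, -⟩ := exists_type hF Φ hΦhi
  set Φ' := E.symm.toMonoidHom.comp Φ with hΦ'def
  set g' := g.comp E.toMonoidHom with hg'def
  have hg'inj : Function.Injective g' := hginj.comp E.injective
  have hg' : ∀ x, g' (Φ' x) = φ x := fun x => by
    show g (E (E.symm (Φ x))) = _
    rw [E.apply_symm_apply, hΦ]
  have hrg : g'.range = g.range := by
    rw [hg'def, MonoidHom.range_comp, MonoidHom.range_eq_top.2 E.surjective, ← MonoidHom.range_eq_map]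
  have hΦ'inj : Function.Injective Φ' := E.symm.injective.comp hΦinj
  have dX' : mat (Φ' (hi (tA hF))) = Matrix.diagonal ![1, c, c * c, 1] := dX
  have dz' : mat (Φ' (scal3 hF)) = Matrix.diagonal ![c, c, c, 1] := dz
  have dL : mat (Φ' (lo (tA hF))) = Matrix.diagonal ![c, c * c, 1, 1] := by
    rw [show lo (tA hF) = scal3 hF * hi (tA hF) by rw [scal3, inv_mul_cancel_right], map_mul, mat_mul, dX', dz',
      Matrix.diagonal_mul_diagonal]
    congr 1
    funext i
    fin_cases i <;> simp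
    linear_combination hc3
  have hcc : c * c ≠ 1 := fun e => hc1 (sq_root_one hF e)
  have f3 : ∀ x, act (Φ' x) (ev 3) = ev 3 := col_fix hF Φ' (p := 3) dz'
    (fun r hr => by fin_cases r <;> simp [hc1] <;> exact absurd rfl hr)
    (fun x hx => by
      rcases hx with rfl | rfl
      · rw [dL]; simp
      · rw [dX']; simp)
  have f2 : ∀ x, act (Φ'.comp lo x) (ev 2) = ev 2 := swap_fix hF (φ := Φ'.comp lo) dL (k := 2) (p := 3) rfl (f3 _)
    (fun r h1 h2 => by fin_cases r <;> simp [hc1, hcc] <;> first | exact absurd rfl h1 | exact absurd rfl h2)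
    (by decide)
  have f0 : ∀ x, act (Φ'.comp hi x) (ev 0) = ev 0 := swap_fix hF (φ := Φ'.comp hi) dX' (k := 0) (p := 3) rfl (f3 _)
    (fun r h1 h2 => by fin_cases r <;> simp [hc1, hcc] <;> first | exact absurd rfl h1 | exact absurd rfl h2)
    (by decide)
  have r3 : Φ'.range = (lo3 (F := F) (q := 2)).range := range_eq_block hF _ hΦ'inj fun x k hk => by
    rw [range_e3] at hk
    fin_cases k <;> first | exact f3 x | exact absurd (by decide) hk
  have r0 : (Φ'.comp lo).range = (pair4 (F := F) (q := 2) 0 (by omega)).range :=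
    range_eq_block hF _ (hΦ'inj.comp (emb_injective _)) fun x k hk => by
      rw [range_e2] at hk
      fin_cases k <;> first | exact f2 x | exact f3 _ | exact absurd (by decide) hk
  have r1 : (Φ'.comp hi).range = (pair4 (F := F) (q := 2) 1 (by omega)).range :=
    range_eq_block hF _ (hΦ'inj.comp (emb_injective _)) fun x k hk => by
      rw [range_e2] at hk
      fin_cases k <;> first | exact f0 x | exact f3 _ | exact absurd (by decide) hk
  have push : ∀ {k : ℕ} (α : ↥(SU k F 2) →* ↥(SU 3 F 2)) (β : ↥(SU k F 2) →* ↥(SU 4 F 2)),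
      (Φ'.comp α).range = β.range → (g'.comp β).range = (φ.comp α).range := fun α β e => by
    rw [MonoidHom.range_comp, ← e, ← MonoidHom.range_comp]
    exact congrArg MonoidHom.range (MonoidHom.ext fun x => hg' _)
  have hU0 : (g'.comp (pair4 0 (by omega))).range = U a := (push lo _ r0).trans hφ.rangeA
  have hU1 : (g'.comp (pair4 1 (by omega))).range = U (a + 1) := (push hi _ r1).trans hφ.rangeB
  have hV0 : (g'.comp lo3).range = V a := by
    rw [push (MonoidHom.id _) _ (by rw [MonoidHom.comp_id]; exact r3), MonoidHom.comp_id, hφr]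
  -- the second standard pair
  set Ψ := liftInj g' hg'inj ψ (hrg ▸ hψle) with hΨdef
  have hΨ : ∀ x, g' (Ψ x) = ψ x := liftInj_spec g' hg'inj ψ (hrg ▸ hψle)
  have hΨhi : Function.Injective (Ψ.comp hi) := fun x y e => hψ.inj_hi hF (by
    show ψ _ = ψ _
    rw [← hΨ, ← hΨ]; exact congrArg g' e)
  have hΨinj : Function.Injective Ψ := inj_of_hi hF Ψ
    (fun x hx => hψ.ker_le (MonoidHom.mem_ker.2 (by rw [← hΨ, MonoidHom.mem_ker.1 hx, map_one]))) hΨhi
  have hcomm : ∀ x y, Ψ (hi y) * pair4 0 (by omega) x = pair4 0 (by omega) x * Ψ (hi y) := fun x y => hg'inj (by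
    rw [map_mul, map_mul, hΨ]
    exact (hc _ (hU0 ▸ ⟨x, rfl⟩) _ (hψ.rangeB ▸ ⟨y, rfl⟩)).symm)
  have hD : mat (pair4 0 (by omega) (tA hF)) =
      Matrix.diagonal (![omg hF, omg hF * omg hF, 1, 1] : Fin 4 → F) := by
    rw [tA, mat_pair hF _ (omg_ne hF).1]
    congr 1
    funext i
    fin_cases i <;> simp
  obtain ⟨-, w1, w2, w3⟩ := omg_ne hF
  have col0 : ∀ y, act (Ψ (hi y)) (ev 0) = mat (Ψ (hi y)) 0 0 • (ev 0 : Fin 4 → F) := fun y => funext fun r => by
    rw [mat_col]
    by_cases e : r = 0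
    · subst e; simp [ev]
    · rw [comm_diag hD (hcomm _ y) (r := r) (s := 0) (by
        fin_cases r <;> simp [w1.symm, w3.symm] <;> exact absurd rfl e)]
      simp [ev, e]
  have hswap : act (pair4 0 (by omega) (tB hF)) (ev 0) = (ev 1 : Fin 4 → F) := by
    funext p
    by_cases hp : p ∈ Set.range (e2 (N := 4) 0 (by omega))
    · obtain ⟨j, rfl⟩ := hp
      rw [act_emb_in, tB, act_su2]
      fin_cases j <;> simp [ev, e2]
    · rw [act_emb_out _ _ _ hp]
      rw [range_e2] at hp
      fin_cases p <;> first | exact absurd (by decide) hp | simp [ev]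
  have fix01 : ∀ y, y * y = 1 → act (Ψ (hi y)) (ev 0) = (ev 0 : Fin 4 → F) ∧ act (Ψ (hi y)) (ev 1) = (ev 1 : Fin 4 → F) := by
    intro y hy
    have h1 : mat (Ψ (hi y)) 0 0 = 1 := sq_root_one hF (by
      have e : act (Ψ (hi y)) (act (Ψ (hi y)) (ev 0)) = (ev 0 : Fin 4 → F) := by
        rw [← act_mul, ← map_mul, ← map_mul, hy, map_one, map_one, act_one]
      rw [col0 y, act_smul, col0 y, smul_smul] at e
      simpa [ev] using congrFun e 0)
    have h0 : act (Ψ (hi y)) (ev 0) = (ev 0 : Fin 4 → F) := by rw [col0 y, h1, one_smul]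
    refine ⟨h0, ?_⟩
    rw [← hswap, ← act_mul, hcomm, act_mul, h0]
  have g01 : ∀ y, act (Ψ (hi y)) (ev 0) = (ev 0 : Fin 4 → F) ∧ act (Ψ (hi y)) (ev 1) = (ev 1 : Fin 4 → F) := by
    let P : Subgroup ↥(SU 2 F 2) := (Fix (ev 0 : Fin 4 → F) ⊓ Fix (ev 1)).comap (Ψ.comp hi)
    have hB : tB hF ∈ P := fix01 _ (tB_sq hF)
    have hA : tA hF ∈ P := by
      rw [show tA hF = tA hF * tB hF * tB hF by rw [mul_assoc, tB_sq, mul_one]]
      exact mul_mem (fix01 _ (tAB_sq hF)) hB
    intro y
    exact ((eq_top_of_mem hF hA hB).ge (Subgroup.mem_top y) : y ∈ P)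
  have r2 : (Ψ.comp hi).range = (pair4 (F := F) (q := 2) 2 (by omega)).range :=
    range_eq_block hF _ hΨhi fun x k hk => by
      rw [range_e2] at hk
      fin_cases k <;> first | exact (g01 x).1 | exact (g01 x).2 | exact absurd (by decide) hk
  have push' : ∀ {k : ℕ} (α : ↥(SU k F 2) →* ↥(SU 3 F 2)) (β : ↥(SU k F 2) →* ↥(SU 4 F 2)),
      (Ψ.comp α).range = β.range → (g'.comp β).range = (ψ.comp α).range := fun α β e => by
    rw [MonoidHom.range_comp, ← e, ← MonoidHom.range_comp]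
    exact congrArg MonoidHom.range (MonoidHom.ext fun x => hΨ _)
  have hU2 : (g'.comp (pair4 2 (by omega))).range = U (a + 2) := (push' hi _ r2).trans hψ.rangeB
  have tA3 : ∀ {k : ℕ} (α : ↥(SU 2 F 2) →* ↥(SU k F 2)), α (tA hF) * α (tA hF) * α (tA hF) = 1 := fun α => by
    rw [← map_mul, ← map_mul, tA_cube, map_one]
  obtain ⟨u, hu⟩ : ∃ u, pair4 1 (by omega) u = Ψ (lo (tA hF)) := by
    obtain ⟨u, hu⟩ : ψ (lo (tA hF)) ∈ (g'.comp (pair4 1 (by omega))).range := by
      rw [hU1, ← hψ.rangeA]; exact ⟨_, rfl⟩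
    exact ⟨u, hg'inj (hu.trans (hΨ _).symm)⟩
  obtain ⟨v, hv⟩ : ∃ v, pair4 2 (by omega) v = Ψ (hi (tA hF)) := by
    have hm : Ψ (hi (tA hF)) ∈ (pair4 (F := F) (q := 2) 2 (by omega)).range := r2 ▸ ⟨_, rfl⟩
    exact hm
  obtain ⟨e, he0, he1, rfl⟩ := order_three_diag hF (u := u) (emb_injective _ (by
      rw [map_mul, map_mul, hu, map_one]; exact tA3 (Ψ.comp lo)))
    (fun h1 => tA_ne hF ((emb_injective (e2 (N := 3) 0 (by omega))) (hΨinj (by
      rw [← hu, h1]; simp))))
  obtain ⟨f, hf0, hf1, rfl⟩ := order_three_diag hF (u := v) (emb_injective _ (by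
      rw [map_mul, map_mul, hv, map_one]; exact tA3 (Ψ.comp hi)))
    (fun h1 => tA_ne hF ((emb_injective (e2 (N := 3) 1 (by omega))) (hΨinj (by
      rw [← hv, h1]; simp))))
  have he3 := cube_one hF he0
  have hf3 := cube_one hF hf0
  have dL2 : mat (Ψ (lo (tA hF))) = Matrix.diagonal (![1, e, e * e, 1] : Fin 4 → F) := by
    rw [← hu, mat_pair hF _ he0]
    congr 1
    funext i
    fin_cases i <;> simp
  have dH2 : mat (Ψ (hi (tA hF))) = Matrix.diagonal (![1, 1, f, f * f] : Fin 4 → F) := by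
    rw [← hv, mat_pair hF _ hf0]
    congr 1
    funext i
    fin_cases i <;> simp
  have dz2 : mat (Ψ (scal3 hF)) = Matrix.diagonal (![1, e, e * e * (f * f), f] : Fin 4 → F) := by
    have hinv : (hi (tA hF))⁻¹ = hi (tA hF) * hi (tA hF) := inv_eq_of_mul_eq_one_left (tA3 hi)
    rw [scal3, hinv, map_mul, map_mul, mat_mul, mat_mul, dL2, dH2, Matrix.diagonal_mul_diagonal,
      Matrix.diagonal_mul_diagonal]
    congr 1
    funext i
    fin_cases i <;> simp
    linear_combination f * hf3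
  have hef : f = e := by
    by_contra hne
    have hf2 : f = e * e := by
      have h : (f - 1) * ((f - e) * (f - e * e)) = 0 := by
        have hroot : e * e + e + 1 = 0 := (mul_eq_zero.1 (show (e - 1) * (e * e + e + 1) = 0 by
          linear_combination he3)).resolve_left (sub_ne_zero.2 he1)
        linear_combination hf3 + (f - f * f) * hroot + (f - 1) * he3
      rcases mul_eq_zero.1 ((mul_eq_zero.1 h).resolve_left (sub_ne_zero.2 hf1)) with h' | h'
      · exact absurd (sub_eq_zero.1 h') hne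
      · exact sub_eq_zero.1 h'
    obtain ⟨-, -, -, -, -, -, hfixed⟩ := exists_type hF Ψ hΨhi
    have fixd : ∀ i : Fin 4, (![1, e, e * e * (f * f), f] : Fin 4 → F) i = 1 →
        act (Ψ (scal3 hF)) (ev i) = ev i := fun i hi1 => funext fun r => by
      rw [mat_col, dz2]
      by_cases er : r = i
      · subst er; simp [ev, hi1]
      · simp [ev, er]
    rcases hfixed (ev 0) (ev 2) (fixd 0 rfl)
      (fixd 2 (by simp [hf2]; linear_combination (e * e * e + 1) * he3))
      (by rw [herm_ev hF]; simp [ev]) with h | h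
    · simpa [ev] using congrFun h 0
    · simpa [ev] using congrFun h 2
  subst hef
  have dz3 : mat (Ψ (scal3 hF)) = Matrix.diagonal (![1, f, f, f] : Fin 4 → F) := by
    rw [dz2]
    congr 1
    funext i
    fin_cases i <;> simp
    linear_combination f * he3
  have g0' : ∀ x, act (Ψ x) (ev 0) = ev 0 := col_fix hF Ψ (p := 0) dz3
    (fun r hr => by fin_cases r <;> simp [he1] <;> exact absurd rfl hr)
    (fun x hx => by
      rcases hx with rfl | rfl
      · rw [dL2]; simp
      · rw [dH2]; simp)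
  have rhi3 : Ψ.range = (hi3 (F := F) (q := 2)).range := range_eq_block hF _ hΨinj fun x k hk => by
    rw [range_e3] at hk
    fin_cases k <;> first | exact g0' x | exact absurd (by decide) hk
  have hV1 : (g'.comp hi3).range = V (a + 1) := by
    rw [push' (MonoidHom.id _) _ (by rw [MonoidHom.comp_id]; exact rhi3), MonoidHom.comp_id, hψr]
  refine ⟨g', ?_, fun j hj => ?_, hV0, hV1⟩
  · rw [(MonoidHom.ker_eq_bot_iff g').2 hg'inj]; exact bot_le
  · rcases (show j = 0 ∨ j = 1 ∨ j = 2 by omega) with rfl | rfl | rfl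
    · exact hU0
    · exact hU1
    · exact hU2

/-- Automorphisms of three coordinates preserving the blocks are diagonal semilinear. -/
theorem rigid_two : Rigid F 2 := by
  classical
  intro θ hlo hhi
  have img : ∀ {e : ↥(SU 2 F 2) →* ↥(SU 3 F 2)}, e.range.map θ.toMonoidHom = e.range → ∀ x, ∃ u, e u = θ (e x) :=
    fun {e} he x => by
      have : θ (e x) ∈ e.range := he ▸ ⟨e x, ⟨x, rfl⟩, rfl⟩
      exact this
  obtain ⟨uA, huA⟩ := img hlo (tA hF)
  obtain ⟨vA, hvA⟩ := img hhi (tA hF)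
  obtain ⟨uB, huB⟩ := img hlo (tB hF)
  obtain ⟨vB, hvB⟩ := img hhi (tB hF)
  obtain ⟨e, he0, he1, rfl⟩ := order_three_diag hF (u := uA) (emb_injective _ (by
      rw [map_mul, map_mul, huA, map_one, ← map_mul, ← map_mul, ← map_mul, ← map_mul, tA_cube, map_one, map_one]))
    (fun h1 => tA_ne hF (emb_injective _ (θ.injective (by rw [← huA, h1]; simp))))
  obtain ⟨f, hf0, hf1, rfl⟩ := order_three_diag hF (u := vA) (emb_injective _ (by
      rw [map_mul, map_mul, hvA, map_one, ← map_mul, ← map_mul, ← map_mul, ← map_mul, tA_cube, map_one, map_one]))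
    (fun h1 => tA_ne hF (emb_injective _ (θ.injective (by rw [← hvA, h1]; simp))))
  obtain ⟨y, hy, rfl⟩ := involution_anti hF (u := uB) (emb_injective _ (by
      rw [map_mul, huB, map_one, ← map_mul, ← map_mul, tB_sq, map_one, map_one]))
    (fun h1 => tB_ne hF (emb_injective _ (θ.injective (by rw [← huB, h1]; simp))))
  obtain ⟨y', hy', rfl⟩ := involution_anti hF (u := vB) (emb_injective _ (by
      rw [map_mul, hvB, map_one, ← map_mul, ← map_mul, tB_sq, map_one, map_one]))
    (fun h1 => tB_ne hF (emb_injective _ (θ.injective (by rw [← hvB, h1]; simp))))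
  have hef : f = e := by
    have hz : θ (scal3 hF) ∈ Subgroup.center ↥(SU 3 F 2) := Subgroup.mem_center_iff.2 fun x => by
      obtain ⟨x, rfl⟩ := θ.surjective x
      rw [← map_mul, ← map_mul, Subgroup.mem_center_iff.1 (scal3_mem hF) x]
    obtain ⟨l, hl⟩ := (H3.mem_center_SU_iff hF (by omega) _).1 hz
    have hinv : (hi (su2 hF f 0 (nm_diag hF hf0)))⁻¹ =
        hi (su2 hF f 0 (nm_diag hF hf0)) * hi (su2 hF f 0 (nm_diag hF hf0)) := by
      refine inv_eq_of_mul_eq_one_left ?_
      rw [hvA, ← map_mul, ← map_mul, hiA_cube, map_one]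
    have key : ∀ v, act (θ (scal3 hF)) v = ![e * v 0, e * e * (f * f) * v 1, f * f * (f * f) * v 2] := fun v => by
      rw [scal3, map_mul, map_inv, ← huA, ← hvA, hinv, act_mul, act_mul, act_hi, act_hi, act_lo]
      funext i
      fin_cases i <;> simp [pow_two] <;> ring
    have k0 := congrFun ((key (ev 0)).symm.trans (hl _)) 0
    have k2 := congrFun ((key (ev 2)).symm.trans (hl _)) 2
    simp [ev] at k0 k2
    linear_combination k2 - k0 - f * cube_one hF hf0
  subst hef
  obtain ⟨τ, hτ⟩ : ∃ τ : F ≃+* F, τ (omg hF) = f := by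
    rcases cube_cases hF (cube_one hF he0) with h | h | h
    · exact absurd h he1
    · exact ⟨RingEquiv.refl F, h.symm⟩
    · refine ⟨RingEquiv.ofBijective _ (H3.conjQ_bijective hF), ?_⟩
      show omg hF ^ 2 = f
      rw [h, pow_two]
  let d : Fin 3 → F := ![1, y, y * y']
  have hd : ∀ i, d i ^ (2 + 1) = 1 := fun i => by
    rw [pow_succ, pow_two]
    fin_cases i
    · simp [d]
    · exact cube_one hF hy
    · exact cube_one hF (mul_ne_zero hy hy')
  let E := H23.AutPSU.semiEquiv (H3.guDiag d hd) τ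
  have hE : ∀ g i j, mat (E g) i j = d i * τ (mat g i j) * d j ^ 2 := fun g i j => by
    show (Matrix.diagonal d * (mat g).map τ * Matrix.diagonal (fun k => d k ^ 2)) i j = _
    rw [Matrix.mul_diagonal, Matrix.diagonal_mul, Matrix.map_apply]
  have c1 := cube_one hF hy
  have c2 := cube_one hF hy'
  have agree : ∀ x ∈ ({lo (tA hF), lo (tB hF), hi (tA hF), hi (tB hF)} : Set ↥(SU 3 F 2)), E x = θ x := by
    intro x hx
    rcases hx with rfl | rfl | rfl | rfl
    all_goals first | rw [← huA] | rw [← huB] | rw [← hvA] | rw [← hvB]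
    all_goals refine su_ext (Matrix.ext fun i j => ?_)
    all_goals rw [hE, ← mat_col, ← mat_col]
    all_goals simp only [tA, tB, act_lo, act_hi]
    all_goals fin_cases i <;> fin_cases j <;> simp [d, ev, hτ, map_mul, pow_two, map_neg]
    all_goals
      have h2 := char_two hF
      grobner
  have fixed : ∀ e : ↥(SU 2 F 2) →* ↥(SU 3 F 2), E (e (tA hF)) = θ (e (tA hF)) →
      E (e (tB hF)) = θ (e (tB hF)) → ∀ x, E (e x) = θ (e x) := fun e h1 h2 x => by
    have := eq_top_of_mem hF (P := ((E.toMonoidHom.comp e).eqLocus (θ.toMonoidHom.comp e))) h1 h2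
    exact (this.ge (Subgroup.mem_top x) : x ∈ (E.toMonoidHom.comp e).eqLocus (θ.toMonoidHom.comp e))
  have flo : ∀ x, E (lo x) = θ (lo x) := fixed lo (agree _ (by simp)) (agree _ (by simp))
  have fhi : ∀ x, E (hi x) = θ (hi x) := fixed hi (agree _ (by simp)) (agree _ (by simp))
  let L := E.toMonoidHom.eqLocus θ.toMonoidHom
  have hLlo : (lo (F := F) (q := 2)).range ≤ L := by rintro _ ⟨x, rfl⟩; exact flo x
  have hLhi : (hi (F := F) (q := 2)).range ≤ L := by rintro _ ⟨x, rfl⟩; exact fhi x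
  have htop : L = ⊤ := by
    refine eq_top_three hF hLlo hLhi fun r hr => ?_
    set k := twist hF r hr (four hF) with hk
    set P := twist hF r hr (cyc hF) with hP
    set b := hi (tA hF) with hb
    have hPL : P ∈ L := by
      rw [hP, cyc, map_mul]
      refine mul_mem (hLlo ?_) (hLhi ?_) <;> rw [range_emb _ hF] <;> exact twist_GI hF r hr (emb_mem _ _)
    have hbL : b ∈ L := hLhi ⟨_, rfl⟩
    have e1 : k * P = b * k := by
      have := congrArg (twist hF r hr) (four_b hF)
      rwa [map_mul, map_mul, twist_b] at this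
    have e2 : P * k = k * (b * b) := by
      have := congrArg (twist hF r hr) (four_cyc hF)
      rwa [map_mul, map_mul, map_mul, twist_b] at this
    set x := k⁻¹ * E.symm (θ k) with hxdef
    have inv : ∀ {u}, u ∈ L → E.symm (θ u) = u := fun {u} hu => by
      rw [← show E u = θ u from hu, E.symm_apply_apply]
    set k' := E.symm (θ k)
    clear_value x
    have e1' : k' * P = b * k' := by
      have := congrArg (fun z => E.symm (θ z)) e1
      simpa only [map_mul, inv hPL, inv hbL] using this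
    have e2' : P * k' = k' * (b * b) := by
      have := congrArg (fun z => E.symm (θ z)) e2
      simpa only [map_mul, inv hPL, inv hbL] using this
    have hxP : x * P = P * x := by
      rw [hxdef, mul_assoc, e1', ← mul_assoc, ← mul_assoc, show k⁻¹ * b = P * k⁻¹ by
        rw [inv_mul_eq_iff_eq_mul, ← mul_assoc, e1, mul_inv_cancel_right]]
    have hxbb : x * (b * b) = b * b * x := by
      rw [hxdef, mul_assoc, ← e2', ← mul_assoc, ← mul_assoc, show k⁻¹ * P = b * b * k⁻¹ by
        rw [inv_mul_eq_iff_eq_mul, ← mul_assoc, ← e2, mul_inv_cancel_right]]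
    have hb3 : b * b * b = 1 := hiA_cube hF
    have hxb : x * b = b * x := by
      have hbb : b * b * (b * b) = b := by rw [← mul_assoc, hb3, one_mul]
      calc x * b = x * (b * b) * (b * b) := by rw [mul_assoc, hbb]
        _ = b * b * (x * (b * b)) := by rw [← mul_assoc (b * b) x, ← hxbb]
        _ = b * b * (b * b) * x := by rw [hxbb, ← mul_assoc]
        _ = b * x := by rw [hbb]
    have dbm : mat b = Matrix.diagonal ![1, omg hF, omg hF * omg hF] := diag_mat fun i => by
      rw [hb, act_hiA]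
      funext r
      fin_cases i <;> fin_cases r <;> simp [ev]
    obtain ⟨-, w1, w2, w3⟩ := omg_ne hF
    have off : ∀ i j : Fin 3, i ≠ j → mat x i j = 0 := fun i j hij => comm_diag dbm hxb (by
      fin_cases i <;> fin_cases j <;> simp [w1, w2, w3, w1.symm, w2.symm, w3.symm] <;> exact hij rfl)
    have hcol : ∀ j, act x (ev j) = mat x j j • ev j := fun j => funext fun i => by
      rw [mat_col]
      by_cases h : i = j
      · subst h; simp [ev]
      · simp [ev, h, off i j h]
    have hPe : ∀ v, act P v = ![r * r * v 2, v 0, r * v 1] := fun v => by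
      rw [hP, act_twist hF, act_cyc]
      funext i
      fin_cases i <;> simp
    have P0 : act P (ev 0) = (ev 1 : Fin 3 → F) := by
      rw [hPe]; funext i; fin_cases i <;> simp [ev]
    have P1 : act P (ev 1) = r • (ev 2 : Fin 3 → F) := by
      rw [hPe]; funext i; fin_cases i <;> simp [ev]
    have d10 : mat x 1 1 = mat x 0 0 := by
      have h := congrFun (congrArg (fun z => act z (ev 0 : Fin 3 → F)) hxP) 1
      simp only [act_mul, P0, hcol, act_smul] at h
      simpa [ev] using h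
    have d21 : mat x 2 2 = mat x 1 1 := by
      have h := congrFun (congrArg (fun z => act z (ev 1 : Fin 3 → F)) hxP) 2
      simp only [act_mul, P1, hcol, act_smul] at h
      simp [ev] at h
      exact mul_left_cancel₀ hr (h.trans (mul_comm _ _))
    have hxc : x ∈ Subgroup.center ↥(SU 3 F 2) := (H3.mem_center_SU_iff hF (by omega) x).2 ⟨mat x 0 0, fun v => by
      have hm : mat x = Matrix.diagonal (fun _ => mat x 0 0) := Matrix.ext fun i j => by
        by_cases h : i = j
        · subst h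
          rw [Matrix.diagonal_apply_eq]
          fin_cases i
          · rfl
          · exact d10
          · exact d21.trans d10
        · rw [Matrix.diagonal_apply_ne _ h, off i j h]
      funext i
      show (mat x *ᵥ v) i = _
      conv_lhs => rw [hm, Matrix.mulVec_diagonal]
      rfl⟩
    have hxx : x * x = 1 := by
      have hkk : k * k ∈ L := hLhi (by
        rw [hk, ← map_mul, four_sq, range_emb _ hF]
        exact twist_GI hF r hr (emb_mem _ _))
      have h : k' * k' = k * k := by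
        have := inv hkk
        rwa [map_mul, map_mul] at this
      have hk' : k' = k * x := by rw [hxdef, mul_inv_cancel_left]
      rw [hk', show k * x * (k * x) = k * (x * k) * x by group, (Subgroup.mem_center_iff.1 hxc k).symm,
        show k * (k * x) * x = k * k * (x * x) by group] at h
      exact mul_left_cancel (h.trans (mul_one _).symm)
    have hx3 : x * x * x = 1 := by
      have h : (⟨x, hxc⟩ : Subgroup.center ↥(SU 3 F 2)) ^ Nat.card (Subgroup.center ↥(SU 3 F 2)) = 1 := pow_card_eq_one'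
      rw [H3.card_center_SU hF (by omega), show Nat.gcd 3 (2 + 1) = 3 from rfl] at h
      simpa [pow_succ] using congrArg Subtype.val h
    rw [hxx, one_mul] at hx3
    show E k = θ k
    rw [hxdef, inv_mul_eq_one] at hx3
    exact (congrArg E hx3).trans (E.apply_symm_apply _)
  exact ⟨d, hd, τ, fun x => ((htop.ge (Subgroup.mem_top x) : x ∈ L)).symm⟩

/-- Recognition from a weak Phan system over four elements. -/
theorem exists_surjective_two (n : ℕ) (hn : 4 ≤ n)
    (U : Fin n → Subgroup G) (V : Fin n → Fin n → Subgroup G)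
    (h1 : ∀ i j : Fin n, (i : ℕ) + 2 ≤ j → ∀ x ∈ U i, ∀ y ∈ U j, x * y = y * x)
    (h2 : ∀ i j : Fin n, (i : ℕ) + 1 = j → IsStandardUnitaryPair (V i j) (U i) (U j) F 2)
    (hgen : (⨆ i, U i) ⊔ (⨆ (i : Fin n) (j : Fin n) (_ : (i : ℕ) + 1 = j), V i j) = ⊤)
    (h4 : ∀ i j k : Fin n, (i : ℕ) + 1 = j → (j : ℕ) + 1 = k →
      ∃ g : ↥(SU 4 F 2) →* ↥(V i j ⊔ V j k), Function.Surjective g)
    (h5 : ∀ i j k : Fin n, (j : ℕ) + 1 = k → ((i : ℕ) + 2 ≤ j ∨ (k : ℕ) + 2 ≤ i) →
      ∀ x ∈ U i, ∀ y ∈ V j k, x * y = y * x)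
    (h6 : ∀ i j k l : Fin n, (i : ℕ) + 1 = j → (k : ℕ) + 1 = l → (j : ℕ) + 2 ≤ k →
      ∀ x ∈ V i j, ∀ y ∈ V k l, x * y = y * x) :
    ∃ f : ↥(SU (n + 1) F 2) →* G, Function.Surjective f := by
  classical
  let U' : ℕ → Subgroup G := fun i => if h : i < n then U ⟨i, h⟩ else ⊥
  let V' : ℕ → Subgroup G := fun i => if h : i + 1 < n then V ⟨i, by omega⟩ ⟨i + 1, h⟩ else ⊥
  have hU : ∀ i : Fin n, U' (i : ℕ) = U i := fun i => dif_pos i.2
  have hV : ∀ i j : Fin n, (i : ℕ) + 1 = j → V' (i : ℕ) = V i j := fun i j hij => by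
    have h : (i : ℕ) + 1 < n := hij ▸ j.2
    show (if h : (i : ℕ) + 1 < n then V ⟨i, by omega⟩ ⟨i + 1, h⟩ else ⊥) = _
    rw [dif_pos h]
    congr 1
    exact Fin.ext hij
  have hs : ∀ a, a + 1 < n → ∃ φ : ↥(SU 3 F 2) →* G, Std φ (U' a) (U' (a + 1)) ∧ φ.range = V' a := by
    intro a ha
    obtain ⟨φ, hφ, hr⟩ := exists_std hF (h2 ⟨a, by omega⟩ ⟨a + 1, ha⟩ rfl)
    refine ⟨φ, ?_, hr.trans (hV ⟨a, by omega⟩ ⟨a + 1, ha⟩ rfl).symm⟩
    rw [← hU, ← hU] at hφ
    exact hφ
  have hU' : ∀ a (h : a < n), U' a = U ⟨a, h⟩ := fun a h => dif_pos h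
  have hV' : ∀ a (h : a + 1 < n), V' a = V ⟨a, by omega⟩ ⟨a + 1, h⟩ := fun a h => dif_pos h
  have cAA : ∀ a b, a + 2 ≤ b → b < n → ∀ x ∈ U' a, ∀ y ∈ U' b, x * y = y * x := fun a b hab hb x hx y hy =>
    h1 ⟨a, by omega⟩ ⟨b, hb⟩ hab x (by rwa [← hU]) y (by rwa [← hU])
  have cAV : ∀ a b, a + 2 ≤ b → b + 1 < n → ∀ x ∈ U' a, ∀ y ∈ V' b, x * y = y * x := fun a b hab hb x hx y hy =>
    h5 ⟨a, by omega⟩ ⟨b, by omega⟩ ⟨b + 1, hb⟩ rfl (Or.inl hab) x (hU' a (by omega) ▸ hx) y (hV' b hb ▸ hy)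
  have cVA : ∀ a b, a + 3 ≤ b → b < n → ∀ x ∈ V' a, ∀ y ∈ U' b, x * y = y * x := fun a b hab hb x hx y hy =>
    (h5 ⟨b, hb⟩ ⟨a, by omega⟩ ⟨a + 1, by omega⟩ rfl (Or.inr (by show a + 1 + 2 ≤ b; omega))
      y (hU' b hb ▸ hy) x (hV' a (by omega) ▸ hx)).symm
  have cVV : ∀ a b, a + 3 ≤ b → b + 1 < n → ∀ x ∈ V' a, ∀ y ∈ V' b, x * y = y * x := fun a b hab hb x hx y hy =>
    h6 ⟨a, by omega⟩ ⟨a + 1, by omega⟩ ⟨b, by omega⟩ ⟨b + 1, hb⟩ rfl rfl (by show a + 1 + 2 ≤ b; omega)
      x (hV' a (by omega) ▸ hx) y (hV' b hb ▸ hy)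
  refine exists_surjective4 hF (rigid_two hF) n hn U V U' V' hU hV (fun a ha => ?_) hgen cAA cAV cVA cVV
  refine std4_two hF (hs a (by omega)) (hs (a + 1) (by omega)) (cAA a (a + 2) le_rfl (by omega)) ?_
  rw [hV' a (by omega), hV' (a + 1) (by omega)]
  exact h4 _ _ _ rfl rfl

end Cfsg.Agent.H78.Phan
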