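import Cfsg.Agent.H78.Phan.TwoGroup

/-!
# Three coordinates inside four over four elements
-/

set_option autoImplicit false

namespace Cfsg.Agent.H78.Phan

open Matrix Cfsg

variable {F : Type*} [Field F] [Fintype F]

theorem orth_indep {q N k : ℕ} (hF : Fintype.card F = q ^ 2) {f : Fin k → Fin N → F}
    (hf : ∀ i j, hermForm N F q (f i) (f j) = if i = j then 1 else 0) : LinearIndependent F f := by
  classical
  rw [Fintype.linearIndependent_iff]
  intro c hc i
  have hsum : ∀ (S : Finset (Fin k)),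
      hermForm N F q (∑ j ∈ S, c j • f j) (f i) = ∑ j ∈ S, c j * (if j = i then 1 else 0) := by
    intro S
    induction S using Finset.induction with
    | empty => rw [Finset.sum_empty, Finset.sum_empty, H3.hermForm_zero_left hF]
    | @insert j S hj ih => rw [Finset.sum_insert hj, Finset.sum_insert hj, H3.hermForm_add_left hF,
        H3.hermForm_smul_left hF, hf, ih]
  have := hsum Finset.univ
  rw [hc, H3.hermForm_zero_left hF] at this
  simpa using this.symm

theorem orth_card {q N k : ℕ} (hF : Fintype.card F = q ^ 2) {f : Fin k → Fin N → F}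
    (hf : ∀ i j, hermForm N F q (f i) (f j) = if i = j then 1 else 0) : k ≤ N := by
  have := (orth_indep hF hf).fintype_card_le_finrank
  simpa using this

theorem eq_zero_of_orth {q N : ℕ} (hF : Fintype.card F = q ^ 2) {f : Fin N → Fin N → F}
    (hf : ∀ i j, hermForm N F q (f i) (f j) = if i = j then 1 else 0) {v : Fin N → F}
    (hv : ∀ i, hermForm N F q v (f i) = 0) : v = 0 := by
  obtain ⟨M, hM⟩ := H3.exists_GU_witt hF f (fun i => (ev i : Fin N → F)) (orth_indep hF hf)
    (orth_indep hF fun i j => by rw [herm_ev hF]; simp [ev, Pi.single_apply, eq_comm])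
    (fun i j => by rw [herm_ev hF, hf]; simp [ev, Pi.single_apply, eq_comm])
  have h : (M.1 : Matrix (Fin N) (Fin N) F) *ᵥ v = 0 := funext fun i => by
    rw [← herm_ev hF ((M.1 : Matrix (Fin N) (Fin N) F) *ᵥ v) i, ← hM i, H3.GU_preserves M, hv]
    rfl
  have h' := congrArg (((M.1⁻¹ : GL (Fin N) F) : Matrix (Fin N) (Fin N) F) *ᵥ ·) h
  simpa [Matrix.mulVec_mulVec, ← Units.val_mul] using h'

variable (hF : Fintype.card F = 2 ^ 2)
include hF

theorem three_ne' : (3 : F) ≠ 0 := fun h => one_ne_zero (α := F) (by linear_combination h - char_two hF)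

theorem split3 {N : ℕ} {g : ↥(SU N F 2)} (hg : g * g * g = 1) : EigSplit g :=
  eigSplit_three (omg_eq hF) (nm_two hF (omg_ne hF).1)
    (nm_two hF (mul_ne_zero (omg_ne hF).1 (omg_ne hF).1)) (three_ne' hF) hg

theorem eigen_cube {N : ℕ} {g : ↥(SU N F 2)} (hg : g * g * g = 1) {v : Fin N → F} {l : F}
    (hv : hermForm N F 2 v v = 1) (h : act g v = l • v) : l * l * l = 1 := by
  have e : act (g * g * g) v = (l * l * l) • v := by
    rw [act_mul, act_mul, h, act_smul, h, act_smul, act_smul, h, smul_smul, smul_smul, mul_assoc]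
  rw [hg, act_one] at e
  have h' := congrArg (fun x => hermForm N F 2 x v) e
  simp only [H3.hermForm_smul_left hF, hv, mul_one] at h'
  exact h'.symm

/-- Exponents of the primitive root. -/
noncomputable def pw (x : ZMod 3) : F := omg hF ^ x.val

theorem pw_add (x y : ZMod 3) : pw hF (x + y) = pw hF x * pw hF y := by
  rw [pw, pw, pw, ← pow_add, ZMod.val_add]
  exact (pow_eq_pow_mod _ (by rw [pow_succ, pow_two]; exact omg_cube hF)).symm

theorem pw_inj : Function.Injective (pw hF) := by
  obtain ⟨-, h1, h2, h3⟩ := omg_ne hF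
  intro x y h
  fin_cases x <;> fin_cases y <;> first
    | rfl
    | (simp [pw, ZMod.val, pow_two] at h; first
        | exact absurd h h1 | exact absurd h.symm h1 | exact absurd h h2 | exact absurd h.symm h2
        | exact absurd h h3 | exact absurd h.symm h3)

theorem exists_pw {l : F} (h : l * l * l = 1) : ∃ x, l = pw hF x := by
  rcases cube_cases hF h with rfl | rfl | rfl
  · exact ⟨0, by simp [pw]⟩
  · exact ⟨1, (pow_one _).symm⟩
  · exact ⟨2, (pow_two _).symm⟩

omit hF in
/-- The orbit of an exponent pair. -/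
def orb (p : ZMod 3 × ZMod 3) : Fin 8 → ZMod 3 × ZMod 3 :=
  let R : ZMod 3 × ZMod 3 → ZMod 3 × ZMod 3 := fun p => (p.2, p.1 + p.1)
  let p' : ZMod 3 × ZMod 3 := (p.1 + p.2, p.1 + (p.2 + p.2))
  ![p, R p, R (R p), R (R (R p)), p', R p', R (R p'), R (R (R p'))]

omit hF [Field F] [Fintype F] in
theorem orb_inj : ∀ p : ZMod 3 × ZMod 3, p ≠ 0 → ∀ i j, orb p i = orb p j → i = j := by decide

variable (Φ : ↥(SU 3 F 2) →* ↥(SU 4 F 2))

theorem hiA_cube : hi (tA hF) * hi (tA hF) * hi (tA hF) = 1 := by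
  rw [← map_mul, ← map_mul, tA_cube, map_one]

theorem cyc_cube : cyc hF * cyc hF * cyc hF = 1 := by
  refine ext_act fun v => ?_
  rw [act_mul, act_mul, act_cyc, act_cyc, act_cyc, act_one]
  funext i
  fin_cases i <;> simp

/-- The centre of three coordinates is not killed. -/
theorem scal3_image (hhi : Function.Injective (Φ.comp hi)) : Φ (scal3 hF) ≠ 1 := by
  classical
  intro hz
  set X := Φ (hi (tA hF))
  set Y := Φ (cyc hF)
  have hXY : X * Y = Y * X := by
    show Φ _ * Φ _ = Φ _ * Φ _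
    rw [← map_mul, hiA_cyc, map_mul, hz, one_mul, map_mul]
  have hX3 : X * X * X = 1 := by show Φ _ * Φ _ * Φ _ = 1; rw [← map_mul, ← map_mul, hiA_cube, map_one]
  have hY3 : Y * Y * Y = 1 := by show Φ _ * Φ _ * Φ _ = 1; rw [← map_mul, ← map_mul, cyc_cube, map_one]
  obtain ⟨f, l, m, hf, hlm⟩ := exists_frame hF (split3 hF hX3) (split3 hF hY3) hXY
  obtain ⟨i, hi'⟩ : ∃ i, l i ≠ 1 := by
    by_contra h
    push Not at h
    obtain ⟨E, hE⟩ := exists_coord_change hF hf
    have h1 : E.symm X = 1 := ext_basis fun i => by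
      rw [act_one, hE (E.symm X) i 1 (by rw [E.apply_symm_apply, (hlm i).1, h i]), one_smul]
    have hX1 : Φ.comp hi (tA hF) = Φ.comp hi 1 := by
      rw [map_one]
      exact E.symm.injective (h1.trans (map_one _).symm)
    have h2 := congrFun (congrFun (congrArg mat (hhi hX1)) 0) 0
    rw [tA, mat_su2] at h2
    simp [mat] at h2
    exact (omg_ne hF).2.1 h2
  have hfi : hermForm 4 F 2 (f i) (f i) = 1 := by rw [hf, if_pos rfl]
  obtain ⟨x, hx⟩ := exists_pw hF (eigen_cube hF hX3 hfi (hlm i).1)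
  obtain ⟨y, hy⟩ := exists_pw hF (eigen_cube hF hY3 hfi (hlm i).2)
  let S : ZMod 3 × ZMod 3 → Prop := fun p => ∃ w, hermForm 4 F 2 w w = 1 ∧
    act X w = pw hF p.1 • w ∧ act Y w = pw hF p.2 • w
  have hR : ∀ p, S p → S (p.2, p.1 + p.1) := by
    rintro p ⟨w, hw, h1, h2⟩
    refine ⟨act (Φ (four hF)) w, by rw [herm_act, hw], ?_, ?_⟩
    · show act (Φ _) (act (Φ _) w) = _
      rw [← act_mul, ← map_mul, ← four_b, map_mul, act_mul, h2, act_smul]
    · show act (Φ _) (act (Φ _) w) = _
      rw [← act_mul, ← map_mul, four_cyc, map_mul, map_mul, act_mul, act_mul, h1, act_smul, h1, smul_smul,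
        ← pw_add, act_smul]
  have hR' : ∀ p, S p → S (p.1 + p.2, p.1 + (p.2 + p.2)) := by
    rintro p ⟨w, hw, h1, h2⟩
    set k := twist hF (omg hF) (omg_ne hF).1 (four hF)
    have e1 : k * (cyc hF * hi (tA hF)) = hi (tA hF) * k := by
      have := congrArg (twist hF (omg hF) (omg_ne hF).1) (four_b hF)
      rwa [map_mul, map_mul, twist_cyc, twist_b] at this
    have e2 : cyc hF * hi (tA hF) * k = k * (hi (tA hF) * hi (tA hF)) := by
      have := congrArg (twist hF (omg hF) (omg_ne hF).1) (four_cyc hF)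
      rwa [map_mul, map_mul, map_mul, twist_cyc, twist_b] at this
    have hXk : act X (act (Φ k) w) = pw hF (p.1 + p.2) • act (Φ k) w := by
      show act (Φ _) (act (Φ _) w) = _
      rw [← act_mul, ← map_mul, ← e1, map_mul, map_mul, act_mul, act_mul, h1, act_smul, h2, smul_smul,
        ← pw_add, act_smul]
    refine ⟨act (Φ k) w, by rw [herm_act, hw], hXk, ?_⟩
    have h3 : act Y (act X (act (Φ k) w)) = pw hF (p.1 + p.1) • act (Φ k) w := by
      show act (Φ _) (act (Φ _) (act (Φ _) w)) = _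
      rw [← act_mul, ← act_mul, ← map_mul, ← map_mul, e2, map_mul, map_mul, act_mul, act_mul, h1, act_smul, h1,
        smul_smul, ← pw_add, act_smul]
    rw [hXk, act_smul] at h3
    have h4 := congrArg (fun v => pw hF (p.1 + (p.1 + (p.2 + p.2))) • v) h3
    simp only [smul_smul, ← pw_add] at h4
    rw [show p.1 + (p.1 + (p.2 + p.2)) + (p.1 + p.2) = 0 by
        generalize p.1 = u; generalize p.2 = v; revert u v; decide,
      show p.1 + (p.1 + (p.2 + p.2)) + (p.1 + p.1) = p.1 + (p.2 + p.2) by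
        generalize p.1 = u; generalize p.2 = v; revert u v; decide,
      show pw hF 0 = 1 by simp [pw], one_smul] at h4
    exact h4
  have h0 : S (x, y) := ⟨f i, hfi, by rw [← hx]; exact (hlm i).1, by rw [← hy]; exact (hlm i).2⟩
  have hS : ∀ j, S (orb (x, y) j) := fun j => by
    fin_cases j
    · exact h0
    · exact hR _ h0
    · exact hR _ (hR _ h0)
    · exact hR _ (hR _ (hR _ h0))
    · exact hR' _ h0
    · exact hR _ (hR' _ h0)
    · exact hR _ (hR _ (hR' _ h0))
    · exact hR _ (hR _ (hR _ (hR' _ h0)))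
  choose w hw hwX hwY using hS
  have hne : (x, y) ≠ 0 := fun e => hi' (by
    rw [hx, show x = 0 from congrArg Prod.fst e]
    simp [pw])
  have hn : ∀ a : ZMod 3, nm 2 (pw hF a) = 1 := fun a => nm_two hF (pow_ne_zero _ (omg_ne hF).1)
  have := orth_card hF (f := w) fun a b => by
    by_cases e : a = b
    · subst e; rw [hw, if_pos rfl]
    · rw [if_neg e]
      have hd := mt (orb_inj (x, y) hne a b) e
      by_cases e1 : (orb (x, y) a).1 = (orb (x, y) b).1
      · exact herm_eigen hF (fun h => hd (Prod.ext e1 (pw_inj hF h))) (hn _) (hwY a) (hwY b)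
      · exact herm_eigen hF (fun h => e1 (pw_inj hF h)) (hn _) (hwX a) (hwX b)
  omega

theorem inj_of_hi (hk : Φ.ker ≤ Subgroup.center ↥(SU 3 F 2)) (hhi : Function.Injective (Φ.comp hi)) :
    Function.Injective Φ := by
  refine (injective_iff_map_eq_one _).2 fun x hx => ?_
  have hm := hk (MonoidHom.mem_ker.2 hx)
  rw [center3_two hF, Subgroup.mem_zpowers_iff] at hm
  obtain ⟨k, rfl⟩ := hm
  haveI : Fact (Nat.Prime 3) := ⟨Nat.prime_three⟩
  have h3 : scal3 hF ^ 3 = 1 := ext_act fun v => by
    rw [pow_succ, pow_two, act_mul, act_mul, act_scal3, act_scal3, act_scal3, act_one, smul_smul, smul_smul,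
      omg_cube hF, one_smul]
  have hord : orderOf (Φ (scal3 hF)) = 3 :=
    orderOf_eq_prime (by rw [← map_pow, h3, map_one]) (scal3_image hF Φ hhi)
  rw [map_zpow, ← orderOf_dvd_iff_zpow_eq_one, hord] at hx
  rw [← orderOf_dvd_iff_zpow_eq_one, orderOf_eq_prime h3 (scal3_ne hF)]
  exact hx

/-- Coordinates adapted to three coordinates inside four. -/
theorem exists_type (hhi : Function.Injective (Φ.comp hi)) :
    ∃ (c : F) (E : ↥(SU 4 F 2) ≃* ↥(SU 4 F 2)), c ≠ 1 ∧ c * c * c = 1 ∧
      mat (E.symm (Φ (scal3 hF))) = Matrix.diagonal ![c, c, c, 1] ∧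
      mat (E.symm (Φ (hi (tA hF)))) = Matrix.diagonal ![1, c, c * c, 1] ∧
      ∀ v w : Fin 4 → F, act (Φ (scal3 hF)) v = v → act (Φ (scal3 hF)) w = w →
        hermForm 4 F 2 v w = 0 → v = 0 ∨ w = 0 := by
  classical
  set z := Φ (scal3 hF) with hzdef
  set X := Φ (hi (tA hF)) with hXdef
  set Y := Φ (cyc hF)
  have hzc : ∀ g, z * Φ g = Φ g * z := fun g => by
    rw [hzdef, ← map_mul, ← map_mul, Subgroup.mem_center_iff.1 (scal3_mem hF) g]
  have hz3 : z * z * z = 1 := by
    rw [hzdef, ← map_mul, ← map_mul]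
    refine (congrArg Φ (ext_act fun v => ?_)).trans (map_one Φ)
    rw [act_mul, act_mul, act_scal3, act_scal3, act_scal3, act_one, smul_smul, smul_smul, omg_cube hF, one_smul]
  have hX3 : X * X * X = 1 := by rw [hXdef, ← map_mul, ← map_mul, hiA_cube, map_one]
  obtain ⟨f, l, m, hf, hlm⟩ := exists_frame hF (split3 hF hz3) (split3 hF hX3) (hzc _)
  have hn : ∀ i, hermForm 4 F 2 (f i) (f i) = 1 := fun i => by rw [hf, if_pos rfl]
  have hl3 : ∀ i, l i * l i * l i = 1 := fun i => eigen_cube hF hz3 (hn i) (hlm i).1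
  have hm3 : ∀ i, m i * m i * m i = 1 := fun i => eigen_cube hF hX3 (hn i) (hlm i).2
  have hnm : ∀ {a : F}, a * a * a = 1 → nm 2 a = 1 := fun {a} ha =>
    nm_two hF fun e => by rw [e] at ha; simp at ha
  obtain ⟨i, hi'⟩ : ∃ i, l i ≠ 1 := by
    by_contra h
    push Not at h
    obtain ⟨E, hE⟩ := exists_coord_change hF hf
    refine scal3_image hF Φ hhi (E.symm.injective ?_)
    rw [map_one]
    exact ext_basis fun i => by
      rw [act_one, hE (E.symm z) i 1 (by rw [E.apply_symm_apply, (hlm i).1, h i]), one_smul]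
  set c := l i with hc
  have hc3 := hl3 i
  have find : ∀ {w : Fin 4 → F} {a : F}, hermForm 4 F 2 w w = 1 → act z w = c • w → act X w = a • w →
      ∃ j, l j = c ∧ m j = a := by
    intro w a hw h1 h2
    by_contra h
    push Not at h
    have := eq_zero_of_orth hF hf (v := w) fun j => by
      by_cases e : c = l j
      · exact herm_eigen hF (h j e.symm).symm (hnm (hm3 j)) h2 (hlm j).2
      · exact herm_eigen hF e (hnm (hl3 j)) h1 (hlm j).1
    rw [this, H3.hermForm_zero_left hF] at hw
    exact zero_ne_one hw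
  have step : ∀ {w : Fin 4 → F} {a : F}, act z w = c • w → act X w = a • w →
      act z (act Y w) = c • act Y w ∧ act X (act Y w) = (c * a) • act Y w := by
    intro w a h1 h2
    refine ⟨by rw [← act_mul, hzc, act_mul, h1, act_smul], ?_⟩
    have e : X * Y = z * (Y * X) := by
      show Φ _ * Φ _ = Φ _ * (Φ _ * Φ _)
      rw [← map_mul, hiA_cyc, map_mul, map_mul]
    rw [← act_mul, e, act_mul, act_mul, h2, act_smul, act_smul, ← act_mul, hzc, act_mul, h1, act_smul,
      smul_smul, mul_comm]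
  obtain ⟨a1, a2⟩ := step (hlm i).1 (hlm i).2
  obtain ⟨b1, b2⟩ := step a1 a2
  have allm : ∀ a : F, a * a * a = 1 → ∃ j, l j = c ∧ m j = a := by
    intro a ha
    have hroot : a = m i ∨ a = c * m i ∨ a = c * (c * m i) := by
      have hm := hm3 i
      have hfac : (c - 1) * ((a - m i) * ((a - c * m i) * (a - c * (c * m i)))) = 0 := by
        grobner
      have h1 := (mul_eq_zero.1 hfac).resolve_left (sub_ne_zero.2 hi')
      rcases mul_eq_zero.1 h1 with h | h
      · exact Or.inl (sub_eq_zero.1 h)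
      · rcases mul_eq_zero.1 h with h | h
        · exact Or.inr (Or.inl (sub_eq_zero.1 h))
        · exact Or.inr (Or.inr (sub_eq_zero.1 h))
    rcases hroot with rfl | rfl | rfl
    · exact find (hn i) (hlm i).1 (hlm i).2
    · exact find (by rw [herm_act, hn]) a1 a2
    · exact find (by rw [herm_act, herm_act, hn]) b1 b2
  obtain ⟨j0, l0, m0⟩ := allm 1 (by ring)
  obtain ⟨j1, l1, m1⟩ := allm c hc3
  obtain ⟨j2, l2, m2⟩ := allm (c * c) (by linear_combination (c * c * c + 1) * hc3)
  have n01 : j0 ≠ j1 := fun e => hi' (by rw [← m1, ← e, m0])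
  have n02 : j0 ≠ j2 := fun e => hi' (by
    have : c * c = 1 := by rw [← m2, ← e, m0]
    exact sq_root_one hF this)
  have n12 : j1 ≠ j2 := fun e => hi' (by
    have : c * c = c := by rw [← m2, ← e, m1]
    exact mul_right_cancel₀ (fun e0 : c = 0 => by rw [show l i = 0 from e0] at hc3; simp at hc3) (this.trans (one_mul c).symm))
  obtain ⟨j3, hj3⟩ : ∃ j, j ∉ ({j0, j1, j2} : Finset (Fin 4)) := by
    obtain ⟨j, -, hj⟩ := Finset.exists_mem_notMem_of_card_lt_card (s := ({j0, j1, j2} : Finset (Fin 4)))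
      (t := Finset.univ) (lt_of_le_of_lt Finset.card_le_three (by simp))
    exact ⟨j, hj⟩
  simp only [Finset.mem_insert, Finset.mem_singleton, not_or] at hj3
  let σ : Fin 4 → Fin 4 := ![j0, j1, j2, j3]
  have hσ : Function.Injective σ := fun a b e => by
    fin_cases a <;> fin_cases b <;> simp [σ] at e <;> first
      | rfl
      | exact absurd e n01 | exact absurd e.symm n01 | exact absurd e n02 | exact absurd e.symm n02
      | exact absurd e n12 | exact absurd e.symm n12
      | exact absurd e hj3.1 | exact absurd e.symm hj3.1 | exact absurd e hj3.2.1 | exact absurd e.symm hj3.2.1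
      | exact absurd e hj3.2.2 | exact absurd e.symm hj3.2.2
  obtain ⟨E, hE⟩ := exists_coord_change hF (f := f ∘ σ) (fun a b => by
    simp only [Function.comp_apply, hf, hσ.eq_iff])
  have dz : mat (E.symm z) = Matrix.diagonal fun a => l (σ a) := diag_mat fun a =>
    hE _ _ _ (by rw [E.apply_symm_apply]; exact (hlm (σ a)).1)
  have dX : mat (E.symm X) = Matrix.diagonal fun a => m (σ a) := diag_mat fun a =>
    hE _ _ _ (by rw [E.apply_symm_apply]; exact (hlm (σ a)).2)
  have l3 : l j3 = 1 := by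
    have hd : (mat (E.symm z)).det = 1 := (E.symm z).1.2
    rw [dz, Matrix.det_diagonal, Fin.prod_univ_four] at hd
    simp [σ, l0, l1, l2] at hd
    linear_combination hd - (l j3) * hc3
  have m3 : m j3 = 1 := by
    have hd : (mat (E.symm X)).det = 1 := (E.symm X).1.2
    rw [dX, Matrix.det_diagonal, Fin.prod_univ_four] at hd
    simp [σ, m0, m1, m2] at hd
    linear_combination hd - (m j3) * hc3
  refine ⟨c, E, hi', hc3, ?_, ?_, fun v w hv hw hvw => ?_⟩
  · rw [dz]
    congr 1
    funext a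
    fin_cases a <;> simp [σ, l0, l1, l2, l3]
  · rw [dX]
    congr 1
    funext a
    fin_cases a <;> simp [σ, m0, m1, m2, m3]
  · have hfix : ∀ u, act z u = u → u = hermForm 4 F 2 u (f j3) • f j3 := fun u hu => sub_eq_zero.1 (by
      refine eq_zero_of_orth hF (f := f ∘ σ) (fun a b => by simp only [Function.comp_apply, hf, hσ.eq_iff]) fun a => ?_
      rw [H3.hermForm_sub_left hF, H3.hermForm_smul_left hF, Function.comp_apply]
      have off : ∀ j, l j = c → j ≠ j3 → hermForm 4 F 2 u (f j) - hermForm 4 F 2 u (f j3) * hermForm 4 F 2 (f j3) (f j) = 0 := by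
        intro j hj hne
        rw [hf, if_neg hne.symm, mul_zero, sub_zero]
        refine herm_eigen hF (l := 1) (Ne.symm (hj ▸ hi')) (hnm (hl3 j)) (by rw [hu, one_smul]) (hlm j).1
      fin_cases a
      · exact off _ l0 (Ne.symm hj3.1)
      · exact off _ l1 (Ne.symm hj3.2.1)
      · exact off _ l2 (Ne.symm hj3.2.2)
      · show hermForm 4 F 2 u (f j3) - hermForm 4 F 2 u (f j3) * hermForm 4 F 2 (f j3) (f j3) = 0
        rw [hn, mul_one, sub_self])
    rw [hfix v hv, hfix w hw, H3.hermForm_smul_left hF, H3.hermForm_smul_right hF, hn, mul_one, mul_eq_zero] at hvw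
    rcases hvw with h | h
    · exact Or.inl (by rw [hfix v hv, h, zero_smul])
    · exact Or.inr (by rw [hfix w hw, pow_eq_zero_iff (by norm_num : (2 : ℕ) ≠ 0) |>.1 h, zero_smul])

omit hF in
/-- An injective homomorphism into a block is onto it. -/
theorem range_eq_block (hF' : Fintype.card F = 2 ^ 2) {k : ℕ} (e : Fin k ↪ Fin 4) {φ : ↥(SU k F 2) →* ↥(SU 4 F 2)}
    (hφ : Function.Injective φ) (h : ∀ x, φ x ∈ GI (Set.range e)) :
    φ.range = (emb (F := F) (q := 2) e).range := by
  refine Subgroup.eq_of_le_of_card_ge ?_ ?_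
  · rintro _ ⟨x, rfl⟩
    exact exists_emb e hF' (h x)
  · rw [← Nat.card_congr (MonoidHom.ofInjective hφ).toEquiv,
      ← Nat.card_congr (MonoidHom.ofInjective (emb_injective e)).toEquiv]

theorem fix_of_gen {φ : ↥(SU 2 F 2) →* ↥(SU 4 F 2)} {v : Fin 4 → F} (hA : act (φ (tA hF)) v = v)
    (hB : act (φ (tB hF)) v = v) (x : ↥(SU 2 F 2)) : act (φ x) v = v := by
  have h := eq_top_of_mem hF (P := (Fix v).comap φ) hA hB
  exact (h.ge (Subgroup.mem_top x) : x ∈ (Fix v).comap φ)

/-- The column of a coordinate fixed by the diagonal and separated by it is fixed. -/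
theorem swap_fix {φ : ↥(SU 2 F 2) →* ↥(SU 4 F 2)} {d : Fin 4 → F} (hd : mat (φ (tA hF)) = Matrix.diagonal d)
    {k p : Fin 4} (hk : d k = 1) (hp : act (φ (tB hF)) (ev p) = ev p) (hdist : ∀ r, r ≠ k → r ≠ p → d r ≠ 1)
    (hkp : k ≠ p) (x : ↥(SU 2 F 2)) : act (φ x) (ev k) = ev k := by
  have hA : act (φ (tA hF)) (ev k) = ev k := funext fun r => by
    rw [mat_col, hd]
    by_cases e : r = k
    · subst e; simp [ev, hk]
    · simp [ev, e]
  refine fix_of_gen hF hA ?_ x
  set u := act (φ (tB hF)) (ev k)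
  have hAB : tA hF * tB hF = tB hF * (tA hF * tA hF) := by
    rw [tA, tB, su2_mul, su2_mul, su2_mul]
    exact su2_congr hF (by ring) (by ring)
  have hu : act (φ (tA hF)) u = u := by
    show act _ (act _ _) = act _ _
    rw [← act_mul, ← map_mul, hAB, map_mul, map_mul, act_mul, act_mul, hA, hA]
  have hzero : ∀ r, r ≠ k → u r = 0 := fun r hr => by
    by_cases e : r = p
    · rw [e, ← herm_ev hF u p, ← hp, herm_act, herm_ev hF]
      simp [ev, hkp.symm]
    · have h := congrFun hu r
      rw [act, hd, Matrix.mulVec_diagonal] at h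
      exact (mul_eq_zero.1 (show (d r - 1) * u r = 0 by linear_combination h)).resolve_left
        (sub_ne_zero.2 (hdist r hr e))
  have he : u = u k • ev k := funext fun r => by
    by_cases e : r = k
    · subst e; simp [ev]
    · simp [ev, e, hzero r e]
  have hsq : act (φ (tB hF)) u = ev k := by
    show act _ (act _ _) = _
    rw [← act_mul, ← map_mul, tB_sq, map_one, act_one]
  rw [he, act_smul] at hsq
  change u k • u = _ at hsq
  have h1 : u k * u k = 1 := by simpa [ev] using congrFun hsq k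
  rw [he, sq_root_one hF h1, one_smul]

/-- A homomorphism on three coordinates preserving a line fixes it. -/
theorem col_fix {d : Fin 4 → F} {p : Fin 4} (hd : mat (Φ (scal3 hF)) = Matrix.diagonal d)
    (hp : ∀ r, r ≠ p → d r ≠ d p) (hA : ∀ x ∈ ({lo (tA hF), hi (tA hF)} : Set ↥(SU 3 F 2)), mat (Φ x) p p = 1)
    (g : ↥(SU 3 F 2)) : act (Φ g) (ev p) = ev p := by
  have hz : ∀ (g : ↥(SU 3 F 2)) r, r ≠ p → mat (Φ g) r p = 0 := fun g r hr =>
    comm_diag hd (by rw [← map_mul, ← map_mul, Subgroup.mem_center_iff.1 (scal3_mem hF) g]) (hp r hr)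
  have hcol : ∀ g, act (Φ g) (ev p) = mat (Φ g) p p • ev p := fun g => funext fun r => by
    rw [mat_col]
    by_cases e : r = p
    · subst e; simp [ev]
    · simp [ev, e, hz g r e]
  let χ : ↥(SU 3 F 2) →* F :=
    { toFun := fun g => mat (Φ g) p p
      map_one' := by simp [mat]
      map_mul' := fun g g' => by
        show mat (Φ (g * g')) p p = _
        rw [← mat_col (Φ (g * g')) p p, map_mul, act_mul, hcol g', act_smul, hcol g, smul_smul]
        simp [ev, mul_comm] }
  have inv : ∀ x, x * x = 1 → χ x = 1 := fun x hx => sq_root_one hF (by rw [← map_mul, hx, map_one])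
  have hgen : ∀ (e : ↥(SU 2 F 2) →* ↥(SU 3 F 2)), χ (e (tA hF)) = 1 → ∀ x, χ (e x) = 1 := by
    intro e he x
    let P : Subgroup ↥(SU 2 F 2) := (χ.comp e).toHomUnits.ker
    have hm : ∀ y, y ∈ P ↔ χ (e y) = 1 := fun y => by rw [MonoidHom.mem_ker, Units.ext_iff]; rfl
    have := eq_top_of_mem hF (P := P) ((hm _).2 he) ((hm _).2 (inv _ (by rw [← map_mul, tB_sq, map_one])))
    exact (hm x).1 (this.ge (Subgroup.mem_top x))
  have h1 := char_trivial hF χ (hgen lo (hA _ (by simp))) (hgen hi (hA _ (by simp))) g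
  rw [hcol g, show mat (Φ g) p p = 1 from h1, one_smul]

end Cfsg.Agent.H78.Phan
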