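import Cfsg.Agent.H78.Phan.Core
import Cfsg.Agent.H3.Count

/-!
# Transitivity of the coordinate subgroups for every field size
-/

set_option autoImplicit false

namespace Cfsg.Agent.H78.Phan

open Matrix Cfsg

variable {F : Type*} [Field F] [Fintype F] {q : ℕ} {N : ℕ}

/-- A non-isotropic vector orthogonal to a given one. -/
theorem exists_perp_one (hF : Fintype.card F = q ^ 2) {k : ℕ} (hk : 3 ≤ k) {w : Fin k → F} (hw : w ≠ 0) :
    ∃ a : Fin k → F, hermForm k F q a w = 0 ∧ hermForm k F q a a ≠ 0 := by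
  classical
  by_cases hpair : ∃ i j, i ≠ j ∧ nm q (w i) + nm q (w j) ≠ 0
  · obtain ⟨i, j, hij, h⟩ := hpair
    refine ⟨-(w j ^ q) • ev i + w i ^ q • ev j, ?_, ?_⟩
    · rw [H3.hermForm_add_left hF, H3.hermForm_smul_left hF, H3.hermForm_smul_left hF]
      simp only [ev, H3.hermForm_single_left, one_mul]
      ring
    · rw [herm_self, ← Finset.sum_subset (Finset.subset_univ {i, j}) (fun p _ hp => by
        simp only [Finset.mem_insert, Finset.mem_singleton, not_or] at hp
        simp [ev, hp.1, hp.2, nm_zero hF]), Finset.sum_pair hij]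
      simp only [ev, Pi.add_apply, Pi.smul_apply, Pi.single_eq_same, Pi.single_eq_of_ne hij,
        Pi.single_eq_of_ne hij.symm, smul_eq_mul, mul_one, mul_zero, add_zero, zero_add]
      rw [nm_neg hF, nm_conj hF, nm_conj hF, add_comm]
      exact h
  push Not at hpair
  obtain ⟨l, hl⟩ := Function.ne_iff.1 hw
  have hl : w l ≠ 0 := hl
  have hall : ∀ i, w i ≠ 0 := fun i hi => by
    by_cases e : i = l
    · exact hl (e ▸ hi)
    · have := hpair i l e
      rw [hi, nm_zero hF, zero_add] at this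
      exact hl ((nm_eq_zero hF).1 this)
  let i0 : Fin k := ⟨0, by omega⟩
  let i1 : Fin k := ⟨1, by omega⟩
  let i2 : Fin k := ⟨2, by omega⟩
  have n01 : i0 ≠ i1 := fun e => by simp [i0, i1, Fin.ext_iff] at e
  have n02 : i0 ≠ i2 := fun e => by simp [i0, i2, Fin.ext_iff] at e
  have n12 : i1 ≠ i2 := fun e => by simp [i1, i2, Fin.ext_iff] at e
  have h01 := hpair i0 i1 n01
  have h02 := hpair i0 i2 n02
  have h12 := hpair i1 i2 n12
  have hμ : nm q (w i0) ≠ 0 := mt (nm_eq_zero hF).1 (hall i0)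
  have h2 : (2 : F) = 0 := (mul_eq_zero.1 (show (2 : F) * nm q (w i0) = 0 by linear_combination h01 + h02 - h12)).resolve_right hμ
  have e1 : nm q (w i1) = nm q (w i0) := by linear_combination h01 - (nm q (w i0)) * h2
  have e2 : nm q (w i2) = nm q (w i0) := by linear_combination h02 - (nm q (w i0)) * h2
  obtain ⟨x, hx⟩ := H3.exists_trace_eq hF (a := (1 : F)) (one_pow q)
  set μ := nm q (w i0)
  have hp : ∀ i, (w i ^ q) ≠ 0 := fun i => pow_ne_zero _ (hall i)
  refine ⟨(w i0 ^ q)⁻¹ • ev i0 + (x * (w i1 ^ q)⁻¹) • ev i1 + ((-1 - x) * (w i2 ^ q)⁻¹) • ev i2, ?_, ?_⟩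
  · rw [H3.hermForm_add_left hF, H3.hermForm_add_left hF, H3.hermForm_smul_left hF, H3.hermForm_smul_left hF,
      H3.hermForm_smul_left hF]
    simp only [ev, H3.hermForm_single_left, one_mul]
    have := hp i0; have := hp i1; have := hp i2
    field_simp
    ring
  · rw [herm_self, ← Finset.sum_subset (Finset.subset_univ {i0, i1, i2}) (fun p _ hp => by
      simp only [Finset.mem_insert, Finset.mem_singleton, not_or] at hp
      simp [ev, hp.1, hp.2.1, hp.2.2, nm_zero hF]), Finset.sum_insert (by simp [n01, n02]), Finset.sum_pair n12]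
    have hv : ∀ i, nm q ((w i ^ q)⁻¹) = (nm q (w i))⁻¹ := fun i => by
      rw [← nm_conj hF (w i), nm, nm, inv_pow, mul_inv]
    simp only [ev, Pi.add_apply, Pi.smul_apply, Pi.single_eq_same, Pi.single_eq_of_ne n01, Pi.single_eq_of_ne n02,
      Pi.single_eq_of_ne n12, Pi.single_eq_of_ne n01.symm, Pi.single_eq_of_ne n02.symm, Pi.single_eq_of_ne n12.symm,
      smul_eq_mul, mul_one, mul_zero, add_zero, zero_add]
    rw [nm_mul, nm_mul, hv, hv, hv, e1, e2]
    intro h
    have h' : 1 + nm q x + nm q (-1 - x) = 0 := by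
      refine (mul_eq_zero.1 (show (1 + nm q x + nm q (-1 - x)) * μ⁻¹ = 0 by linear_combination h)).resolve_right
        (inv_ne_zero hμ)
    simp only [nm] at h'
    rw [show (-1 - x) ^ q = -(1 ^ q) - x ^ q from by
      rw [show (-1 - x) ^ q = H3.conjQ hF (-1 - x) from rfl, map_sub, map_neg, H3.conjQ_apply, H3.conjQ_apply],
      one_pow] at h'
    exact one_ne_zero (α := F) (by linear_combination h' - hx - (1 + x * x ^ q) * h2)

/-- Witt's theorem in `SU`, given a non-isotropic vector orthogonal to the targets. -/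
theorem exists_SU_witt (hF : Fintype.card F = q ^ 2) {k m : ℕ} (v w : Fin m → Fin k → F)
    (hv : LinearIndependent F v) (hw : LinearIndependent F w)
    (hG : ∀ i j, hermForm k F q (v i) (v j) = hermForm k F q (w i) (w j))
    (a : Fin k → F) (haw : ∀ i, hermForm k F q a (w i) = 0) (ha : hermForm k F q a a ≠ 0) :
    ∃ g : ↥(SU k F q), ∀ i, act g (v i) = w i := by
  classical
  obtain ⟨g0, hg0⟩ := H3.exists_GU_witt hF v w hv hw hG
  obtain ⟨s, hs⟩ := exists_nm hF (μ := hermForm k F q a a) (herm_self_pow hF a)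
  have hs0 : s ≠ 0 := fun e => ha (by rw [← hs, e, nm_zero hF])
  have hk : 0 < k := by
    rcases Nat.eq_zero_or_pos k with rfl | h
    · exact absurd (by simp [hermForm]) ha
    · exact h
  set o : Fin k := ⟨0, hk⟩
  have ha0 : s⁻¹ • a ≠ 0 := fun e => ha (by
    have : a = s • (s⁻¹ • a) := by rw [smul_smul, mul_inv_cancel₀ hs0, one_smul]
    rw [this, e, smul_zero, H3.hermForm_zero_left hF])
  have hna : hermForm k F q (s⁻¹ • a) (s⁻¹ • a) = 1 := by
    rw [H3.hermForm_smul_left hF, H3.hermForm_smul_right hF, ← hs, nm, inv_pow]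
    have := pow_ne_zero q hs0
    field_simp
  obtain ⟨M, hM⟩ := H3.exists_GU_mulVec_eq hF (v := (ev o : Fin k → F)) (w := s⁻¹ • a)
    (fun e => by simpa [ev] using congrFun e o) ha0 (by rw [herm_ev hF, hna]; simp [ev])
  set δ := (g0.1 : Matrix (Fin k) (Fin k) F).det
  have hδ : δ ^ (q + 1) = 1 := H3.det_GU hF g0
  set D : GU k F q := H3.guDiag (Function.update (1 : Fin k → F) o δ⁻¹) (fun i => by
    by_cases e : i = o
    · subst e; simp [inv_pow, hδ]
    · simp [e]) with hD
  set g1 : GU k F q := M * D * M⁻¹ * g0 with hg1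
  have hdet : (g1.1 : Matrix (Fin k) (Fin k) F).det = 1 := by
    have hcomm : H3.guDet k F q g1 = H3.guDet k F q D * H3.guDet k F q g0 := by
      rw [hg1, map_mul, map_mul, map_mul, map_inv, mul_comm (H3.guDet k F q M), mul_inv_cancel_right]
    have h2 : (g1.1 : Matrix (Fin k) (Fin k) F).det = (D.1 : Matrix (Fin k) (Fin k) F).det * δ :=
      congrArg Units.val hcomm
    rw [h2]
    show (Matrix.diagonal _).det * δ = 1
    rw [Matrix.det_diagonal, Finset.prod_update_of_mem (Finset.mem_univ _)]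
    have : δ ≠ 0 := fun e => by simp [e] at hδ
    simp [this]
  refine ⟨⟨⟨(g1.1 : Matrix (Fin k) (Fin k) F), hdet⟩, H3.mem_SU_iff.2 fun u z => H3.GU_preserves g1 u z⟩,
    fun i => ?_⟩
  show (g1.1 : Matrix (Fin k) (Fin k) F) *ᵥ v i = w i
  set z := ((M⁻¹ : GU k F q).1 : Matrix (Fin k) (Fin k) F) *ᵥ w i with hz
  have hMz : (M.1 : Matrix (Fin k) (Fin k) F) *ᵥ z = w i := by
    rw [hz, Matrix.mulVec_mulVec, ← Units.val_mul, ← Subgroup.coe_mul, mul_inv_cancel]
    simp
  have hz0 : z o = 0 := by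
    rw [← herm_ev hF z o, ← H3.GU_preserves M, hMz, hM, H3.hermForm_smul_right hF,
      (H3.hermForm_eq_zero_comm hF).1 (haw i), mul_zero]
  rw [hg1]
  simp only [Subgroup.coe_mul, Units.val_mul, ← Matrix.mulVec_mulVec]
  rw [hg0 i, ← hz]
  conv_rhs => rw [← hMz]
  congr 1
  funext j
  show (Matrix.diagonal _ *ᵥ z) j = z j
  rw [Matrix.mulVec_diagonal]
  by_cases e : j = o
  · subst e; rw [hz0, mul_zero]
  · simp [e]

/-- An interval as the range of an embedding. -/
def eI (a b : ℕ) (hb : b ≤ N) : Fin (b - a) ↪ Fin N :=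
  ⟨fun i => ⟨a + i, by omega⟩, fun i j e => Fin.ext (by simpa using e)⟩

theorem range_eI (a b : ℕ) (hb : b ≤ N) : Set.range (eI a b hb) = Iv a b := by
  ext k
  constructor
  · rintro ⟨i, rfl⟩
    exact ⟨Nat.le_add_right _ _, by show a + (i : ℕ) < b; omega⟩
  · rintro ⟨h1, h2⟩
    exact ⟨⟨(k : ℕ) - a, by omega⟩, Fin.ext (by show a + ((k : ℕ) - a) = k; omega)⟩

theorem herm_restrict (hF : Fintype.card F = q ^ 2) {k : ℕ} (f : Fin k ↪ Fin N) {u : Fin N → F}
    (hu : Supp (Set.range f) u) (v : Fin N → F) :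
    hermForm N F q u v = hermForm k F q (u ∘ f) (v ∘ f) := by
  rw [herm_split f u v, add_eq_left]
  exact Finset.sum_eq_zero fun p _ => by rw [hu p p.2, zero_mul]

theorem comp_ne_zero {k : ℕ} (f : Fin k ↪ Fin N) {u : Fin N → F} (hu : Supp (Set.range f) u) (h0 : u ≠ 0) :
    u ∘ f ≠ 0 := by
  intro e
  refine h0 (funext fun p => ?_)
  by_cases hp : p ∈ Set.range f
  · obtain ⟨i, rfl⟩ := hp; exact congrFun e i
  · exact hu p hp

/-- Witt's theorem for a coordinate interval, for one or several vectors. -/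
theorem exists_GI_witt (hF : Fintype.card F = q ^ 2) {k m : ℕ} (f : Fin k ↪ Fin N) (v w : Fin m → Fin N → F)
    (hv : ∀ i, Supp (Set.range f) (v i)) (hw : ∀ i, Supp (Set.range f) (w i))
    (hvi : LinearIndependent F (fun i => v i ∘ f)) (hwi : LinearIndependent F (fun i => w i ∘ f))
    (hG : ∀ i j, hermForm N F q (v i) (v j) = hermForm N F q (w i) (w j))
    (a : Fin k → F) (haw : ∀ i, hermForm k F q a (w i ∘ f) = 0) (ha : hermForm k F q a a ≠ 0) :
    ∃ g ∈ (GI (Set.range f) : Subgroup ↥(SU N F q)), ∀ i, act g (v i) = w i := by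
  obtain ⟨g, hg⟩ := exists_SU_witt hF (fun i => v i ∘ f) (fun i => w i ∘ f) hvi hwi
    (fun i j => by rw [← herm_restrict hF f (hv i), ← herm_restrict hF f (hw i)]; exact hG i j) a haw ha
  refine ⟨emb f g, emb_mem f g, fun i => funext fun p => ?_⟩
  by_cases hp : p ∈ Set.range f
  · obtain ⟨j, rfl⟩ := hp
    rw [act_emb_in, hg]
    rfl
  · rw [act_emb_out f g _ hp, hv i p hp, hw i p hp]

/-- Vectors of the same norm are conjugate, on at least three coordinates or on two if non-isotropic. -/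
theorem move1 (hF : Fintype.card F = q ^ 2) {a b : ℕ} (hb : b ≤ N) {v w : Fin N → F} (hv : Supp (Iv a b) v)
    (hw : Supp (Iv a b) w) (hn : hermForm N F q v v = hermForm N F q w w)
    (h : (a + 3 ≤ b ∧ v ≠ 0 ∧ w ≠ 0) ∨ (a + 2 ≤ b ∧ hermForm N F q v v ≠ 0)) :
    ∃ g ∈ (GI (Iv a b) : Subgroup ↥(SU N F q)), act g v = w := by
  classical
  rw [← range_eI a b hb] at hv hw ⊢
  set f := eI a b hb
  have hv0 : v ≠ 0 := by
    rcases h with h | h
    · exact h.2.1
    · exact fun e => h.2 (by rw [e, H3.hermForm_zero_left hF])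
  have hw0 : w ≠ 0 := by
    rcases h with h | h
    · exact h.2.2
    · exact fun e => h.2 (by rw [hn, e, H3.hermForm_zero_left hF])
  obtain ⟨z, hz, hzz⟩ : ∃ z : Fin (b - a) → F, hermForm (b - a) F q z (w ∘ f) = 0 ∧ hermForm (b - a) F q z z ≠ 0 := by
    rcases h with h | ⟨h2, h3⟩
    · exact exists_perp_one hF (by omega) (comp_ne_zero f hw hw0)
    · by_cases h4 : 3 ≤ b - a
      · exact exists_perp_one hF h4 (comp_ne_zero f hw hw0)
      · rw [hn, herm_restrict hF f hw] at h3
        obtain ⟨i, j, hij, hu⟩ : ∃ i j : Fin (b - a), i ≠ j ∧ (Finset.univ : Finset (Fin (b - a))) = {i, j} := by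
          refine ⟨⟨0, by omega⟩, ⟨1, by omega⟩, fun e => by simp [Fin.ext_iff] at e,
            Finset.ext fun p => iff_of_true (Finset.mem_univ p) ?_⟩
          rw [Finset.mem_insert, Finset.mem_singleton, Fin.ext_iff, Fin.ext_iff]
          have := p.2
          show (p : ℕ) = 0 ∨ (p : ℕ) = 1
          omega
        set w' := w ∘ f
        refine ⟨-(w' j ^ q) • ev i + w' i ^ q • ev j, ?_, ?_⟩
        · rw [H3.hermForm_add_left hF, H3.hermForm_smul_left hF, H3.hermForm_smul_left hF]
          simp only [ev, H3.hermForm_single_left, one_mul]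
          ring
        · rw [herm_self, hu, Finset.sum_pair hij] at h3 ⊢
          simp only [ev, Pi.add_apply, Pi.smul_apply, Pi.single_eq_same, Pi.single_eq_of_ne hij,
            Pi.single_eq_of_ne hij.symm, smul_eq_mul, mul_one, mul_zero, add_zero, zero_add]
          rw [nm_neg hF, nm_conj hF, nm_conj hF, add_comm]
          exact h3
  obtain ⟨g, hg, hgv⟩ := exists_GI_witt hF f ![v] ![w] (fun i => by simpa [Fin.fin_one_eq_zero] using hv)
    (fun i => by simpa [Fin.fin_one_eq_zero] using hw)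
    (linearIndependent_unique_iff.2 (comp_ne_zero f hv hv0)) (linearIndependent_unique_iff.2 (comp_ne_zero f hw hw0))
    (fun i j => by simpa [Fin.fin_one_eq_zero] using hn) z (fun i => by simpa [Fin.fin_one_eq_zero] using hz) hzz
  exact ⟨g, hg, by simpa using hgv 0⟩

/-- Pairs with an isotropic first vector and a non-orthogonal second one are conjugate on three coordinates. -/
theorem move2 (hF : Fintype.card F = q ^ 2) {a : ℕ} (ha : a + 3 ≤ N) {r z z' : Fin N → F}
    (hr : Supp (Iv a (a + 3)) r) (hz : Supp (Iv a (a + 3)) z) (hz' : Supp (Iv a (a + 3)) z')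
    (hr0 : hermForm N F q r r = 0) (hne : hermForm N F q z r ≠ 0)
    (he : hermForm N F q z' r = hermForm N F q z r) (hn : hermForm N F q z z = hermForm N F q z' z') :
    ∃ g ∈ (GI (Iv a (a + 3)) : Subgroup ↥(SU N F q)), act g r = r ∧ act g z = z' := by
  classical
  rw [← range_eI a (a + 3) ha] at hr hz hz' ⊢
  set f := eI a (a + 3) ha
  have ind : ∀ {x : Fin N → F}, Supp (Set.range f) x → hermForm N F q x r ≠ 0 →
      LinearIndependent F ![r ∘ f, x ∘ f] := by
    intro x hx hxr
    rw [LinearIndependent.pair_iff]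
    intro s t hst
    have h := congrArg (fun y => hermForm _ F q y (r ∘ f)) hst
    simp only [H3.hermForm_add_left hF, H3.hermForm_smul_left hF, H3.hermForm_zero_left hF,
      ← herm_restrict hF f hr, ← herm_restrict hF f hx, hr0, mul_zero, zero_add] at h
    have ht := (mul_eq_zero.1 h).resolve_right hxr
    rw [ht, zero_smul, add_zero, smul_eq_zero] at hst
    refine ⟨hst.resolve_right (comp_ne_zero f hr fun e => hxr ?_), ht⟩
    rw [e, H3.hermForm_zero_right hF]
  let φ : (Fin (a + 3 - a) → F) →ₗ[F] (Fin 2 → F) :=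
    { toFun := fun w => ![hermForm _ F q w (r ∘ f), hermForm _ F q w (z' ∘ f)]
      map_add' := fun x y => by rw [H3.hermForm_add_left hF, H3.hermForm_add_left hF]; simp
      map_smul' := fun c x => by rw [H3.hermForm_smul_left hF, H3.hermForm_smul_left hF]; simp }
  obtain ⟨p, hp, hp0⟩ := Submodule.exists_mem_ne_zero_of_ne_bot
    (LinearMap.ker_ne_bot_of_finrank_lt (f := φ) (by simp))
  have hp' : ![hermForm _ F q p (r ∘ f), hermForm _ F q p (z' ∘ f)] = (0 : Fin 2 → F) := LinearMap.mem_ker.1 hp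
  have hpr : hermForm _ F q p (r ∘ f) = 0 := congrFun hp' 0
  have hpz : hermForm _ F q p (z' ∘ f) = 0 := congrFun hp' 1
  have hne' : hermForm N F q z' r ≠ 0 := he.symm ▸ hne
  have hpp : hermForm _ F q p p ≠ 0 := by
    intro h
    have hr' : hermForm _ F q (r ∘ f) (r ∘ f) = 0 := by rw [← herm_restrict hF f hr]; exact hr0
    obtain ⟨i, hi⟩ := Function.ne_iff.1 hp0
    have hi : p i ≠ 0 := hi
    -- the vector `r` is proportional to `p`, so orthogonal to `z'`
    have key : ∀ j l : Fin (a + 3 - a), p j * (r ∘ f) l = p l * (r ∘ f) j := by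
      intro j l
      by_contra hh
      obtain ⟨m, hmj, hml⟩ : ∃ m, m ≠ j ∧ m ≠ l := by
        obtain ⟨m, -, hm⟩ := Finset.exists_mem_notMem_of_card_lt_card
          (s := ({j, l} : Finset (Fin (a + 3 - a)))) (t := Finset.univ)
          (lt_of_le_of_lt Finset.card_le_two (by simp))
        exact ⟨m, by simp_all, by simp_all⟩
      have hjl : j ≠ l := fun e => hh (by rw [e])
      have hu : (Finset.univ : Finset (Fin (a + 3 - a))) = {m, j, l} := by
        refine (Finset.eq_univ_of_card _ ?_).symm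
        rw [Finset.card_insert_of_notMem (by simp [hmj, hml]), Finset.card_pair hjl]
        simp
      set r' := r ∘ f
      rw [hermForm, hu, Finset.sum_insert (by simp [hmj, hml]), Finset.sum_pair hjl] at h hpr hr'
      have hrp : r' m * p m ^ q + (r' j * p j ^ q + r' l * p l ^ q) = 0 := by
        have h := congrArg (fun t => t ^ q) hpr
        simp only [H3.add_pow_q hF, mul_pow, H3.pow_q_pow_q hF, zero_pow (q_ne_zero hF)] at h
        linear_combination h
      have hD : nm q (p j * r' l - p l * r' j) = 0 := by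
        have hsub : ∀ x y : F, (x - y) ^ q = x ^ q - y ^ q := fun x y => map_sub (H3.conjQ hF) x y
        rw [nm, hsub, mul_pow, mul_pow]
        have hs : (p j * r' l - p l * r' j) * (p j ^ q * r' l ^ q - p l ^ q * r' j ^ q) =
            (p j * p j ^ q + p l * p l ^ q) * (r' j * r' j ^ q + r' l * r' l ^ q) -
              (p j * r' j ^ q + p l * r' l ^ q) * (r' j * p j ^ q + r' l * p l ^ q) := by ring
        have h1 : p j * p j ^ q + p l * p l ^ q = -(p m * p m ^ q) := by linear_combination h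
        have h2 : r' j * r' j ^ q + r' l * r' l ^ q = -(r' m * r' m ^ q) := by linear_combination hr'
        have h3 : p j * r' j ^ q + p l * r' l ^ q = -(p m * r' m ^ q) := by linear_combination hpr
        have h4 : r' j * p j ^ q + r' l * p l ^ q = -(r' m * p m ^ q) := by linear_combination hrp
        rw [hs, h1, h2, h3, h4]
        ring
      exact hh (sub_eq_zero.1 ((nm_eq_zero hF).1 hD))
    have hrc : r ∘ f = ((r ∘ f) i / p i) • p := funext fun l => by
      rw [Pi.smul_apply, smul_eq_mul, div_mul_eq_mul_div, eq_div_iff hi]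
      linear_combination key i l
    refine hne' ((H3.hermForm_eq_zero_comm hF).1 ?_)
    rw [herm_restrict hF f hr, hrc, H3.hermForm_smul_left hF, hpz, mul_zero]
  have hcomp : ∀ x : Fin N → F, (fun i => (![r, x] : Fin 2 → Fin N → F) i ∘ f) = ![r ∘ f, x ∘ f] :=
    fun x => funext fun i => by fin_cases i <;> rfl
  obtain ⟨g, hg, hgv⟩ := exists_GI_witt hF f ![r, z] ![r, z'] (fun i => by fin_cases i <;> assumption)
    (fun i => by fin_cases i <;> assumption) (hcomp z ▸ ind hz hne) (hcomp z' ▸ ind hz' hne')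
    (fun i j => by
      fin_cases i <;> fin_cases j
      · rfl
      · show hermForm N F q r z = hermForm N F q r z'
        rw [← H3.hermForm_pow_q hF z r, ← H3.hermForm_pow_q hF z' r, he]
      · exact he.symm
      · exact hn) p (fun i => by fin_cases i <;> assumption) hpp
  exact ⟨g, hg, by simpa using hgv 0, by simpa using hgv 1⟩

/-- The block on an interval of length at least four is generated by a pair block and a shorter block. -/
theorem GI_split (hF : Fintype.card F = q ^ 2) {a b : ℕ} (hab : a + 4 ≤ b) (hb : b ≤ N) :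
    (GI (Iv a b) : Subgroup ↥(SU N F q)) = GI (Iv a (a + 2)) ⊔ GI (Iv (a + 1) b) := by
  refine le_antisymm (fun g hg => ?_)
    (sup_le (GI_mono (Iv_mono le_rfl (by omega))) (GI_mono (Iv_mono (by omega) le_rfl)))
  set P : Subgroup ↥(SU N F q) := GI (Iv a (a + 2)) ⊔ GI (Iv (a + 1) b) with hP
  have hPle : P ≤ GI (Iv a b) :=
    sup_le (GI_mono (Iv_mono le_rfl (by omega))) (GI_mono (Iv_mono (by omega) le_rfl))
  let i0 : Fin N := ⟨a, by omega⟩
  let i1 : Fin N := ⟨a + 1, by omega⟩
  let i2 : Fin N := ⟨a + 2, by omega⟩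
  let i3 : Fin N := ⟨a + 3, by omega⟩
  have hei : ∀ (i : Fin N) {c d : ℕ}, c ≤ (i : ℕ) → (i : ℕ) < d → Supp (Iv c d) (ev i : Fin N → F) :=
    fun i c d h1 h2 k hk => by
      have : k ≠ i := fun e => hk (e ▸ ⟨h1, h2⟩)
      simp [ev, this]
  have h01 : i0 ≠ i1 := fun e => by simp [i0, i1, Fin.ext_iff] at e
  have htail : ∀ {v : Fin N → F}, Supp (Iv a b) v → Supp (Iv (a + 1) b) (v - v i0 • ev i0) := fun hv k hk => by
    by_cases hki : k = i0
    · subst hki; simp [ev]
    · simp only [Pi.sub_apply, Pi.smul_apply, ev, Pi.single_eq_of_ne hki, smul_zero, sub_zero]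
      refine hv k fun h => hk ⟨?_, h.2⟩
      have h1 := h.1
      simp only [i0, Fin.ext_iff] at hki
      omega
  have main : ∀ v, Supp (Iv a b) v → hermForm N F q v v = 1 →
      hermForm N F q (v - v i0 • ev i0) (v - v i0 • ev i0) ≠ 0 → ∃ h ∈ P, act h v = ev i0 := by
    intro v hv hn hne
    obtain ⟨δ, hδ⟩ := exists_nm hF (herm_self_pow hF (v - v i0 • ev i0))
    have hδn : hermForm N F q (δ • (ev i1 : Fin N → F)) (δ • ev i1) = nm q δ := by
      rw [H3.hermForm_smul_left hF, H3.hermForm_smul_right hF, herm_ev hF]; simp [ev, nm]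
    obtain ⟨g1, hg1, hg1v⟩ := move1 hF hb (htail hv) (w := δ • ev i1)
      (fun k hk => by simp [hei i1 le_rfl (show a + 1 < b by omega) k hk]) (by rw [hδn, hδ])
      (Or.inr ⟨by omega, hne⟩)
    have hgv : act g1 v = δ • ev i1 + v i0 • ev i0 := by
      conv_lhs => rw [← sub_add_cancel v (v i0 • ev i0)]
      rw [act_add, act_smul, hg1v, hg1 i0 (fun h => by have := h.1; simp [i0] at this)]
    have hn2 : hermForm N F q (δ • ev i1 + v i0 • ev i0) (δ • (ev i1 : Fin N → F) + v i0 • ev i0) = 1 := by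
      rw [← hgv, herm_act]; exact hn
    obtain ⟨g2, hg2, hg2v⟩ := move1 hF (show a + 2 ≤ N by omega) (v := δ • ev i1 + v i0 • ev i0) (w := ev i0)
      (fun k hk => by
        simp [hei i1 (show a ≤ a + 1 by omega) (show a + 1 < a + 2 by omega) k hk,
          hei i0 le_rfl (show a < a + 2 by omega) k hk])
      (hei i0 le_rfl (show a < a + 2 by omega))
      (by rw [hn2, herm_ev hF]; simp [ev]) (Or.inr ⟨le_rfl, by rw [hn2]; exact one_ne_zero⟩)
    exact ⟨g2 * g1, mul_mem (Subgroup.mem_sup_left hg2) (Subgroup.mem_sup_right hg1), by rw [act_mul, hgv, hg2v]⟩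
  suffices hall : ∀ v, Supp (Iv a b) v → hermForm N F q v v = 1 → ∃ h ∈ P, act h v = ev i0 by
    obtain ⟨h, hh, he⟩ := hall (act g (ev i0)) (act_supp hF hg (hei i0 le_rfl (show a < b by omega)))
      (by rw [herm_act, herm_ev hF]; simp [ev])
    have : h * g ∈ P :=
      Subgroup.mem_sup_right (mem_GI_fix (mul_mem (hPle hh) hg) rfl (by rw [act_mul, he]))
    simpa using mul_mem (inv_mem hh) this
  intro v hv hn
  by_cases hne : hermForm N F q (v - v i0 • ev i0) (v - v i0 • ev i0) = 0
  swap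
  · exact main v hv hn hne
  have hv0 : nm q (v i0) = 1 := by
    have := herm_off hF v i0
    rw [hne, hn, zero_add] at this
    exact this.symm
  by_cases h0 : v - v i0 • ev i0 = 0
  · have hve : v = v i0 • ev i0 := sub_eq_zero.1 h0
    obtain ⟨g2, hg2, hg2v⟩ := move1 hF (show a + 2 ≤ N by omega) (v := v) (w := ev i0)
      (fun k hk => by rw [hve]; simp [hei i0 le_rfl (show a < a + 2 by omega) k hk])
      (hei i0 le_rfl (show a < a + 2 by omega))
      (by rw [hn, herm_ev hF]; simp [ev]) (Or.inr ⟨le_rfl, by rw [hn]; exact one_ne_zero⟩)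
    exact ⟨g2, Subgroup.mem_sup_left hg2, hg2v⟩
  obtain ⟨ζ, hζ⟩ := exists_nm hF (μ := (-1 : F)) (by
    rw [show (-1 : F) ^ q = -(1 ^ q) from map_neg (H3.conjQ hF) (1 : F), one_pow])
  have h23 : i2 ≠ i3 := fun e => by simp [i2, i3, Fin.ext_iff] at e
  set t : Fin N → F := ev i2 + ζ • ev i3 with ht
  have ht2 : Supp (Iv (a + 2) (a + 4)) t := fun k hk => by
    rw [ht]
    simp [hei i2 le_rfl (show a + 2 < a + 4 by omega) k hk,
      hei i3 (show a + 2 ≤ a + 3 by omega) (show a + 3 < a + 4 by omega) k hk]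
  have htb : Supp (Iv (a + 1) b) t := fun k hk => ht2 k fun h => hk ⟨by have := h.1; omega, by have := h.2; omega⟩
  have htn : hermForm N F q t t = 0 := by
    rw [ht, H3.hermForm_add_left hF, H3.hermForm_add_right hF, H3.hermForm_add_right hF,
      H3.hermForm_smul_left hF, H3.hermForm_smul_left hF, H3.hermForm_smul_right hF, H3.hermForm_smul_right hF,
      herm_ev hF, herm_ev hF, herm_ev hF, herm_ev hF]
    simp only [ev, Pi.single_eq_same, Pi.single_eq_of_ne h23, Pi.single_eq_of_ne h23.symm, mul_zero, mul_one,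
      add_zero, zero_add]
    rw [nm] at hζ
    linear_combination hζ
  have ht0 : t ≠ 0 := fun e => by simpa [ht, ev, h23] using congrFun e i2
  obtain ⟨g1, hg1, hg1v⟩ := move1 hF hb (htail hv) htb (by rw [hne, htn]) (Or.inl ⟨by omega, h0, ht0⟩)
  have hg1e : act g1 v = t + v i0 • ev i0 := by
    conv_lhs => rw [← sub_add_cancel v (v i0 • ev i0)]
    rw [act_add, act_smul, hg1v, hg1 i0 (fun h => by have := h.1; simp [i0] at this)]
  have hn1 : hermForm N F q (v i0 • (ev i0 : Fin N → F)) (v i0 • ev i0) = 1 := by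
    rw [H3.hermForm_smul_left hF, H3.hermForm_smul_right hF, herm_ev hF]
    simp only [ev, Pi.single_eq_same, mul_one]
    exact hv0
  obtain ⟨g2, hg2, hg2v⟩ := move1 hF (show a + 2 ≤ N by omega) (v := v i0 • ev i0) (w := ev i1)
    (fun k hk => by simp [hei i0 le_rfl (show a < a + 2 by omega) k hk])
    (hei i1 (show a ≤ a + 1 by omega) (show a + 1 < a + 2 by omega))
    (by rw [hn1, herm_ev hF]; simp [ev]) (Or.inr ⟨le_rfl, by rw [hn1]; exact one_ne_zero⟩)
  have hfix : act g2 t = t := act_fix hg2 fun k hk => ht2 k fun h => by have := hk.2; have := h.1; omega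
  have hk2 : act g2 (act g1 v) = t + ev i1 := by rw [hg1e, act_add, hg2v, hfix]
  have hmem : g2 * g1 ∈ P := mul_mem (Subgroup.mem_sup_left hg2) (Subgroup.mem_sup_right hg1)
  have hx0 : (t + (ev i1 : Fin N → F)) i0 = 0 := by
    simp [ev, h01, ht2 i0 (fun h => by have := h.1; simp [i0] at this)]
  obtain ⟨h, hh, he⟩ := main (act g2 (act g1 v))
    (act_supp hF (GI_mono (Iv_mono le_rfl (by omega)) hg2) (act_supp hF (GI_mono (Iv_mono (by omega) le_rfl) hg1) hv))
    (by rw [herm_act, herm_act, hn]) (by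
      rw [hk2, hx0, zero_smul, sub_zero, ← hk2, herm_act, herm_act, hn]
      exact one_ne_zero)
  exact ⟨h * (g2 * g1), mul_mem hh hmem, by rw [act_mul, act_mul, he]⟩

/-- The stabiliser of an isotropic vector on two coordinates. -/
theorem stab_iso (hF : Fintype.card F = q ^ 2) {a b : ℕ} (hab : a + 4 ≤ b) (hb : b ≤ N)
    {P : Subgroup ↥(SU N F q)} {r : Fin N → F} (hr : Supp (Iv a (a + 2)) r) (hr0 : hermForm N F q r r = 0)
    (hrne : r ≠ 0) (h1 : GI (Iv (a + 2) b) ≤ P)
    (h2 : ∀ x ∈ (GI (Iv a (a + 3)) : Subgroup ↥(SU N F q)), act x r = r → x ∈ P)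
    {g : ↥(SU N F q)} (hg : g ∈ GI (Iv a b)) (hgr : act g r = r) : g ∈ P := by
  classical
  let i0 : Fin N := ⟨a, by omega⟩
  let i1 : Fin N := ⟨a + 1, by omega⟩
  let i2 : Fin N := ⟨a + 2, by omega⟩
  have h01 : i0 ≠ i1 := fun e => by simp [i0, i1, Fin.ext_iff] at e
  have h02 : i0 ≠ i2 := fun e => by simp [i0, i2, Fin.ext_iff] at e
  have h12 : i1 ≠ i2 := fun e => by simp [i1, i2, Fin.ext_iff] at e
  have hrexp : r = r i0 • ev i0 + r i1 • ev i1 := funext fun k => by
    by_cases e0 : k = i0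
    · subst e0; simp [ev, h01]
    by_cases e1 : k = i1
    · subst e1; simp [ev, h01.symm]
    simp only [i0, i1, Fin.ext_iff] at e0 e1
    rw [hr k fun h => by have := h.1; have := h.2; omega]
    simp [ev, i0, i1, Fin.ext_iff, e0, e1]
  have hre : ∀ x : Fin N → F, hermForm N F q x r = x i0 * r i0 ^ q + x i1 * r i1 ^ q := fun x => by
    conv_lhs => rw [hrexp]
    rw [H3.hermForm_add_right hF, H3.hermForm_smul_right hF, H3.hermForm_smul_right hF, herm_ev hF, herm_ev hF]
    ring
  have hr00 : r i0 ≠ 0 := by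
    intro e
    have h := hre r
    rw [hr0, e, zero_mul, zero_add] at h
    exact hrne (by rw [hrexp, e, (nm_eq_zero hF).1 h.symm, zero_smul, zero_smul, add_zero])
  have hr01 : r i1 ≠ 0 := by
    intro e
    have h := hre r
    rw [hr0, e, zero_mul, add_zero] at h
    exact hr00 ((nm_eq_zero hF).1 h.symm)
  have he : hermForm N F q (ev i0) r = r i0 ^ q := by rw [hre]; simp [ev, h01]
  have hei : ∀ (i : Fin N) {c d : ℕ}, c ≤ (i : ℕ) → (i : ℕ) < d → Supp (Iv c d) (ev i : Fin N → F) :=
    fun i c d h1 h2 k hk => by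
      have : k ≠ i := fun e => hk (e ▸ ⟨h1, h2⟩)
      simp [ev, this]
  have hgle : ∀ {x}, x ∈ (GI (Iv (a + 2) b) : Subgroup ↥(SU N F q)) → act x r = r := fun hx =>
    act_fix hx fun k hk => hr k fun h => by have := hk.1; have := h.2; omega
  have hrb : Supp (Iv a (a + 3)) r := fun k hk => hr k fun h => hk ⟨h.1, by have := h.2; omega⟩
  suffices main : ∀ z, Supp (Iv a b) z → hermForm N F q z r = r i0 ^ q → hermForm N F q z z = 1 →
      ∃ k ∈ P, k ∈ GI (Iv a b) ∧ act k r = r ∧ act k z = ev i0 by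
    obtain ⟨k, hk, hkI, hkr, hke⟩ := main (act g (ev i0)) (act_supp hF hg (hei i0 le_rfl (show a < b by omega)))
      (by conv_lhs => rw [← hgr]
          rw [herm_act, he]) (by rw [herm_act, herm_ev hF]; simp [ev])
    have hfix : k * g ∈ P := h1 (by
      have hm := mem_GI_fix (mul_mem hkI hg) (i := i0) rfl (by rw [act_mul, hke])
      refine mem_GI_fix hm (i := i1) rfl ?_
      have h := hgr
      have h' : act (k * g) r = r := by rw [act_mul, hgr, hkr]
      rw [hrexp, act_add, act_smul, act_smul,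
        hm i0 (fun h => by have := h.1; simp [i0] at this), add_left_cancel_iff] at h'
      exact smul_right_injective _ hr01 h')
    simpa using mul_mem (inv_mem hk) hfix
  have aniso : ∀ z, Supp (Iv a b) z → hermForm N F q z r = r i0 ^ q → hermForm N F q z z = 1 →
      hermForm N F q (z - (z i0 • ev i0 + z i1 • ev i1)) (z - (z i0 • ev i0 + z i1 • ev i1)) ≠ 0 ∨
        z - (z i0 • ev i0 + z i1 • ev i1) = 0 → ∃ k ∈ P, k ∈ GI (Iv a b) ∧ act k r = r ∧ act k z = ev i0 := by
    intro z hz hzr hzn hc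
    set w := z - (z i0 • ev i0 + z i1 • ev i1) with hw
    have hws : Supp (Iv (a + 2) b) w := fun k hk => by
      by_cases e0 : k = i0
      · subst e0; simp [hw, ev, h01]
      by_cases e1 : k = i1
      · subst e1; simp [hw, ev, h01.symm]
      simp only [hw, Pi.sub_apply, Pi.add_apply, Pi.smul_apply, ev, Pi.single_eq_of_ne e0, Pi.single_eq_of_ne e1,
        smul_zero, add_zero, sub_zero]
      refine hz k fun h => hk ⟨?_, h.2⟩
      have := h.1
      simp only [i0, i1, Fin.ext_iff] at e0 e1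
      omega
    obtain ⟨x, hx, hxz⟩ : ∃ x ∈ (GI (Iv (a + 2) b) : Subgroup ↥(SU N F q)), Supp (Iv a (a + 3)) (act x z) := by
      have hsm : ∀ (k : Fin N), k ∉ (Iv a (a + 3) : Set (Fin N)) → k ≠ i0 ∧ k ≠ i1 ∧ k ≠ i2 := fun k hk =>
        ⟨fun e => hk (e ▸ ⟨le_rfl, show a < a + 3 by omega⟩),
          fun e => hk (e ▸ ⟨show a ≤ a + 1 by omega, show a + 1 < a + 3 by omega⟩),
          fun e => hk (e ▸ ⟨show a ≤ a + 2 by omega, show a + 2 < a + 3 by omega⟩)⟩
      rcases hc with hc | hc
      · obtain ⟨δ, hδ⟩ := exists_nm hF (herm_self_pow hF w)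
        obtain ⟨x, hx, hxw⟩ := move1 hF hb hws (w := δ • ev i2)
          (fun k hk => by simp [hei i2 le_rfl (show a + 2 < b by omega) k hk])
          (by rw [← hδ, H3.hermForm_smul_left hF, H3.hermForm_smul_right hF, herm_ev hF]; simp [ev, nm])
          (Or.inr ⟨by omega, hc⟩)
        refine ⟨x, hx, fun k hk => ?_⟩
        obtain ⟨k0, k1, k2⟩ := hsm k hk
        rw [show z = w + (z i0 • ev i0 + z i1 • ev i1) by rw [hw, sub_add_cancel], act_add, act_add, act_smul,
          act_smul, hxw, hx i0 (fun h => by have := h.1; simp [i0] at this),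
          hx i1 (fun h => by have := h.1; simp [i1] at this)]
        simp [ev, k0, k1, k2]
      · refine ⟨1, one_mem _, fun k hk => ?_⟩
        obtain ⟨k0, k1, -⟩ := hsm k hk
        rw [act_one, sub_eq_zero.1 hc]
        simp [ev, k0, k1]
    have hxr := hgle hx
    obtain ⟨y, hy, hyr, hyz⟩ := move2 hF (show a + 3 ≤ N by omega) hrb hxz
      (hei i0 le_rfl (show a < a + 3 by omega)) hr0
      (by conv_lhs => arg 5; rw [← hxr]
          rw [herm_act, hzr]; exact pow_ne_zero q hr00)
      (by rw [he]; conv_rhs => arg 5; rw [← hxr]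
          rw [herm_act, hzr])
      (by rw [herm_act, hzn, herm_ev hF]; simp [ev])
    exact ⟨y * x, mul_mem (h2 y hy hyr) (h1 hx),
      mul_mem (GI_mono (Iv_mono le_rfl (by omega)) hy) (GI_mono (Iv_mono (by omega) le_rfl) hx),
      by rw [act_mul, hxr, hyr], by rw [act_mul, hyz]⟩
  intro z hz hzr hzn
  set w := z - (z i0 • ev i0 + z i1 • ev i1) with hw
  by_cases hc : hermForm N F q w w ≠ 0 ∨ w = 0
  · exact aniso z hz hzr hzn hc
  push Not at hc
  -- change the third coordinate by the stabiliser inside the triple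
  set z3 := z i0 • (ev i0 : Fin N → F) + z i1 • ev i1 + z i2 • ev i2 with hz3
  set z4 := z - z3 with hz4
  have hz3s : Supp (Iv a (a + 3)) z3 := fun k hk => by
    simp [hz3, hei i0 le_rfl (show a < a + 3 by omega) k hk,
      hei i1 (show a ≤ a + 1 by omega) (show a + 1 < a + 3 by omega) k hk,
      hei i2 (show a ≤ a + 2 by omega) (show a + 2 < a + 3 by omega) k hk]
  have hz4s : ∀ k ∈ (Iv a (a + 3) : Set (Fin N)), z4 k = 0 := fun k hk => by
    have hk' : k = i0 ∨ k = i1 ∨ k = i2 := by
      have := hk.1; have := hk.2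
      simp only [i0, i1, i2, Fin.ext_iff]
      omega
    rcases hk' with rfl | rfl | rfl <;> simp [hz4, hz3, ev, h01, h02, h12, h01.symm, h02.symm, h12.symm]
  have horth : ∀ x : Fin N → F, Supp (Iv a (a + 3)) x → hermForm N F q x z4 = 0 ∧ hermForm N F q z4 x = 0 := by
    intro x hx
    have h : hermForm N F q x z4 = 0 := Finset.sum_eq_zero fun k _ => by
      by_cases hk : k ∈ (Iv a (a + 3) : Set (Fin N))
      · rw [hz4s k hk, zero_pow (q_ne_zero hF), mul_zero]
      · rw [hx k hk, zero_mul]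
    exact ⟨h, (H3.hermForm_eq_zero_comm hF).1 h⟩
  obtain ⟨τ, hτ⟩ : ∃ τ : F, nm q τ ≠ nm q (z i2) := by
    by_cases h0 : z i2 = 0
    · exact ⟨1, by rw [h0, nm_zero hF, nm_one]; exact one_ne_zero⟩
    · exact ⟨0, by rw [nm_zero hF]; exact Ne.symm (mt (nm_eq_zero hF).1 h0)⟩
  obtain ⟨t, ht⟩ := H3.exists_trace_eq hF (a := nm q (z i2) - nm q τ) (by
    rw [show (nm q (z i2) - nm q τ) ^ q = nm q (z i2) ^ q - nm q τ ^ q from map_sub (H3.conjQ hF) _ _, nm_pow_q hF,
      nm_pow_q hF])
  set α := t / r i0 with hα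
  set z' := (ev i0 : Fin N → F) + α • r + τ • ev i2 with hz'
  have hz's : Supp (Iv a (a + 3)) z' := fun k hk => by
    simp [hz', hei i0 le_rfl (show a < a + 3 by omega) k hk,
      hei i2 (show a ≤ a + 2 by omega) (show a + 2 < a + 3 by omega) k hk, hrb k hk]
  have hr2 : r i2 = 0 := hr i2 fun h => by have := h.2; simp [i2] at this
  have hz'r : hermForm N F q z' r = r i0 ^ q := by
    rw [hz', H3.hermForm_add_left hF, H3.hermForm_add_left hF, H3.hermForm_smul_left hF, H3.hermForm_smul_left hF,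
      he, hr0]
    rw [show hermForm N F q (ev i2) r = 0 by rw [hre]; simp [ev, h02, h12]]
    ring
  have hz'z : hermForm N F q z' z' = 1 + nm q (z i2) := by
    rw [hz', H3.hermForm_add_left hF, H3.hermForm_add_left hF, H3.hermForm_smul_left hF, H3.hermForm_smul_left hF]
    simp only [H3.hermForm_add_right hF, H3.hermForm_smul_right hF, herm_ev hF, hr0, he,
      show hermForm N F q (ev i2) r = 0 by rw [hre]; simp [ev, h02, h12]]
    simp only [ev, Pi.single_eq_same, Pi.single_eq_of_ne h02, Pi.single_eq_of_ne h02.symm, hr2, mul_zero,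
      mul_one, add_zero, zero_add]
    have hα1 : α * r i0 = t := by rw [hα, div_mul_cancel₀ _ hr00]
    have hα2 : α ^ q * r i0 ^ q = t ^ q := by rw [← mul_pow, hα1]
    simp only [nm] at ht ⊢
    linear_combination ht + hα1 + hα2
  have hz3r : hermForm N F q z3 r = r i0 ^ q := by
    rw [← hzr, hre, hre]
    simp [hz3, ev, h01, h02, h12, h01.symm]
  have hw4 : hermForm N F q w w = hermForm N F q z4 z4 + nm q (z i2) := by
    rw [show w = z4 + z i2 • ev i2 by rw [hw, hz4, hz3]; abel, H3.hermForm_add_left hF,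
      H3.hermForm_add_right hF, H3.hermForm_add_right hF, H3.hermForm_smul_left hF, H3.hermForm_smul_left hF,
      H3.hermForm_smul_right hF, H3.hermForm_smul_right hF]
    have hh := horth (ev i2) (hei i2 (show a ≤ a + 2 by omega) (show a + 2 < a + 3 by omega))
    rw [hh.1, hh.2, herm_ev hF]
    simp [ev, nm]
  have hz3n : hermForm N F q z3 z3 = 1 + nm q (z i2) := by
    have hsum : ∀ u : Fin N → F, hermForm N F q z3 u + hermForm N F q z4 u = hermForm N F q z u := fun u => by
      rw [← H3.hermForm_add_left hF, hz4, add_sub_cancel]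
    have hsum' : ∀ u : Fin N → F, hermForm N F q u z3 + hermForm N F q u z4 = hermForm N F q u z := fun u => by
      rw [← H3.hermForm_add_right hF, hz4, add_sub_cancel]
    rw [hc.1] at hw4
    linear_combination hzn + hsum z + hsum' z3 + hsum' z4 - (horth z3 hz3s).1 - (horth z3 hz3s).2 + hw4
  obtain ⟨y, hy, hyr, hyz⟩ := move2 hF (show a + 3 ≤ N by omega) hrb hz3s hz's hr0
    (by rw [hz3r]; exact pow_ne_zero q hr00) (by rw [hz'r, hz3r]) (by rw [hz3n, hz'z])
  have hyz' : act y z = z' + z4 := by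
    conv_lhs => rw [show z = z3 + z4 by rw [hz4, add_sub_cancel]]
    rw [act_add, hyz, act_fix hy hz4s]
  have hyI := GI_mono (Iv_mono le_rfl (by omega : a + 3 ≤ b)) hy
  obtain ⟨k, hk, hkI, hkr, hkz⟩ := aniso (act y z) (act_supp hF hyI hz)
    (by conv_lhs => rw [← hyr]
        rw [herm_act, hzr]) (by rw [herm_act, hzn]) (Or.inl (by
      rw [hyz']
      have e : z' + z4 - ((z' + z4) i0 • ev i0 + (z' + z4) i1 • ev i1) = z4 + τ • ev i2 := by
        have a0 := hz4s i0 ⟨le_rfl, show a < a + 3 by omega⟩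
        have a1 := hz4s i1 ⟨show a ≤ a + 1 by omega, show a + 1 < a + 3 by omega⟩
        funext p
        by_cases p0 : p = i0
        · subst p0; simp [ev, h01, h02, a0]
        by_cases p1 : p = i1
        · subst p1; simp [ev, h01.symm, h12, a1]
        have hrp : r p = 0 := hr p fun h => by
          have := h.1; have := h.2
          simp only [i0, i1, Fin.ext_iff] at p0 p1
          omega
        simp [hz', ev, p0, p1, hrp, add_comm]
      rw [e, H3.hermForm_add_left hF, H3.hermForm_add_right hF, H3.hermForm_add_right hF,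
        H3.hermForm_smul_left hF, H3.hermForm_smul_left hF, H3.hermForm_smul_right hF, H3.hermForm_smul_right hF,
        (horth (ev i2) (hei i2 (show a ≤ a + 2 by omega) (show a + 2 < a + 3 by omega))).1,
        (horth (ev i2) (hei i2 (show a ≤ a + 2 by omega) (show a + 2 < a + 3 by omega))).2, herm_ev hF]
      simp only [ev, Pi.single_eq_same, mul_zero, mul_one, add_zero, zero_add]
      intro h
      apply hτ
      rw [hc.1] at hw4
      simp only [nm] at hw4 ⊢
      linear_combination h + hw4))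
  exact ⟨k * y, mul_mem hk (h2 y hy hyr), mul_mem hkI hyI, by rw [act_mul, hyr, hkr], by rw [act_mul, hkz]⟩

end Cfsg.Agent.H78.Phan
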